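import Mathlib.GroupTheory.Index
import Mathlib.GroupTheory.GroupAction.Quotient
import Mathlib.Algebra.Order.BigOperators.Group.Finset
import Mathlib.Tactic.Group

/-!
Counting fixed points of `t` on the cosets of `H`: an upper bound for the order of the centraliser
of `t` from representatives `w i` of the double cosets of `H`.
-/

set_option autoImplicit false

namespace Cfsg.Agent.Ly.FixCount

variable {G : Type*} [Group G] [Finite G]

open Classical in
/-- `|C_G(t)| ≤ #fixed cosets * |C_H(t)|`. -/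
theorem card_centralizer_le_fixed (H : Subgroup G) (t : G) (ht : t ∈ H) :
    Nat.card (Subgroup.centralizer ({t} : Set G)) ≤
      Nat.card {x : G ⧸ H // t • x = x} *
        Nat.card (Subgroup.centralizer ({t} : Set G) ⊓ H : Subgroup G) := by
  have hfix : ∀ g : Subgroup.centralizer ({t} : Set G), t • ((g : G) : G ⧸ H) = ((g : G) : G ⧸ H) := by
    intro g
    have hg : (g : G) * t = t * (g : G) := Subgroup.mem_centralizer_singleton_iff.1 g.2
    rw [MulAction.Quotient.smul_coe, smul_eq_mul, ← hg, QuotientGroup.eq]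
    simpa [mul_assoc] using H.inv_mem ht
  let rep : G ⧸ H → G := fun x =>
    if hx : ∃ g : Subgroup.centralizer ({t} : Set G), ((g : G) : G ⧸ H) = x then (hx.choose : G) else 1
  have hrep : ∀ g : Subgroup.centralizer ({t} : Set G),
      rep ((g : G) : G ⧸ H) ∈ Subgroup.centralizer ({t} : Set G) ∧
        ((rep ((g : G) : G ⧸ H) : G) : G ⧸ H) = ((g : G) : G ⧸ H) := by
    intro g
    have hx : ∃ g' : Subgroup.centralizer ({t} : Set G), ((g' : G) : G ⧸ H) = ((g : G) : G ⧸ H) :=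
      ⟨g, rfl⟩
    have : rep ((g : G) : G ⧸ H) = (hx.choose : G) := by
      simp only [rep]
      rw [dif_pos hx]
    rw [this]
    exact ⟨hx.choose.2, hx.choose_spec⟩
  have hmem : ∀ g : Subgroup.centralizer ({t} : Set G), (rep ((g : G) : G ⧸ H))⁻¹ * (g : G) ∈
      (Subgroup.centralizer ({t} : Set G) ⊓ H : Subgroup G) := by
    intro g
    exact Subgroup.mem_inf.2 ⟨Subgroup.mul_mem _ (Subgroup.inv_mem _ (hrep g).1) g.2,
      QuotientGroup.eq.1 (hrep g).2⟩
  rw [← Nat.card_prod]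
  refine Nat.card_le_card_of_injective
    (fun g : Subgroup.centralizer ({t} : Set G) =>
      ((⟨((g : G) : G ⧸ H), hfix g⟩ : {x : G ⧸ H // t • x = x}),
        (⟨(rep ((g : G) : G ⧸ H))⁻¹ * g, hmem g⟩ :
          (Subgroup.centralizer ({t} : Set G) ⊓ H : Subgroup G)))) ?_
  intro g g' h
  simp only [Prod.mk.injEq, Subtype.mk.injEq] at h
  obtain ⟨h1, h2⟩ := h
  rw [h1] at h2
  exact Subtype.ext (mul_left_cancel h2)

/-- the number of fixed cosets in one `H`-orbit, times `|K|` is at most the number of elements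
`h ∈ H` with `h⁻¹ t h ∈ K`. -/
theorem card_fixed_orbit_mul (H : Subgroup G) (t : G) (ht : t ∈ H) (w : G) (K : Subgroup G)
    (hK : K = H ⊓ H.map (MulAut.conj w).toMonoidHom) :
    Nat.card {x : G ⧸ H // t • x = x ∧ ∃ h ∈ H, ((h * w : G) : G ⧸ H) = x} * Nat.card K ≤
      Nat.card {h : G // h ∈ H ∧ h⁻¹ * t * h ∈ K} := by
  have hKH : ∀ k ∈ K, k ∈ H := fun k hk => by rw [hK] at hk; exact (Subgroup.mem_inf.1 hk).1
  have hKw : ∀ k ∈ K, w⁻¹ * k * w ∈ H := by
    intro k hk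
    rw [hK] at hk
    obtain ⟨h, hh, hhk⟩ := (Subgroup.mem_inf.1 hk).2
    have : w⁻¹ * k * w = h := by
      rw [← hhk]
      simp [MulAut.conj_apply, mul_assoc]
    rw [this]; exact hh
  have hKmem : ∀ k ∈ H, w⁻¹ * k * w ∈ H → k ∈ K := by
    intro k hk hk'
    rw [hK]
    refine Subgroup.mem_inf.2 ⟨hk, ⟨_, hk', ?_⟩⟩
    simp [MulAut.conj_apply, mul_assoc]
  choose rep hrep1 hrep2 using fun x : {x : G ⧸ H // t • x = x ∧ ∃ h ∈ H, ((h * w : G) : G ⧸ H) = x} =>
    x.2.2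
  have hfix : ∀ x, (rep x)⁻¹ * t * rep x ∈ K := by
    intro x
    apply hKmem
    · exact H.mul_mem (H.mul_mem (H.inv_mem (hrep1 x)) ht) (hrep1 x)
    · have h1 := x.2.1
      rw [← hrep2 x, MulAction.Quotient.smul_coe, smul_eq_mul, eq_comm, QuotientGroup.eq] at h1
      have : w⁻¹ * ((rep x)⁻¹ * t * rep x) * w = (rep x * w)⁻¹ * (t * (rep x * w)) := by group
      rw [this]; exact h1
  rw [← Nat.card_prod]
  refine Nat.card_le_card_of_injective
    (fun p : {x : G ⧸ H // t • x = x ∧ ∃ h ∈ H, ((h * w : G) : G ⧸ H) = x} × K =>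
      (⟨rep p.1 * p.2, H.mul_mem (hrep1 p.1) (hKH _ p.2.2), by
        have : (rep p.1 * (p.2 : G))⁻¹ * t * (rep p.1 * (p.2 : G)) =
          (p.2 : G)⁻¹ * ((rep p.1)⁻¹ * t * rep p.1) * (p.2 : G) := by group
        rw [this]
        exact K.mul_mem (K.mul_mem (K.inv_mem p.2.2) (hfix p.1)) p.2.2⟩ :
        {h : G // h ∈ H ∧ h⁻¹ * t * h ∈ K})) ?_
  rintro ⟨x, k⟩ ⟨y, l⟩ h
  simp only [Subtype.mk.injEq] at h
  have key : ∀ (z : {x : G ⧸ H // t • x = x ∧ ∃ h ∈ H, ((h * w : G) : G ⧸ H) = x}) (m : K),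
      ((rep z * m * w : G) : G ⧸ H) = z.1 := by
    intro z m
    rw [← hrep2 z, QuotientGroup.eq]
    have : (rep z * (m : G) * w)⁻¹ * (rep z * w) = (w⁻¹ * (m : G) * w)⁻¹ := by group
    rw [this]
    exact H.inv_mem (hKw _ m.2)
  have hxy : x = y := by
    apply Subtype.ext
    rw [← key x k, ← key y l, h]
  subst hxy
  have := mul_left_cancel h
  exact Prod.ext rfl (Subtype.ext this)

open Classical in
/-- the elements `h ∈ H` with `h⁻¹ t h ∈ K` -/
theorem card_conj_mem_le (H : Subgroup G) (t : G) (K : Subgroup G) :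
    Nat.card {h : G // h ∈ H ∧ h⁻¹ * t * h ∈ K} ≤
      Nat.card {k : G // k ∈ K ∧ ∃ h ∈ H, h * t * h⁻¹ = k} *
        Nat.card (Subgroup.centralizer ({t} : Set G) ⊓ H : Subgroup G) := by
  choose rep hrep1 hrep2 using fun x : {k : G // k ∈ K ∧ ∃ h ∈ H, h * t * h⁻¹ = k} => x.2.2
  have hP : ∀ p : {h : G // h ∈ H ∧ h⁻¹ * t * h ∈ K},
      (p : G)⁻¹ * t * (p : G) ∈ K ∧ ∃ h ∈ H, h * t * h⁻¹ = (p : G)⁻¹ * t * (p : G) := by
    intro p
    exact ⟨p.2.2, (p : G)⁻¹, H.inv_mem p.2.1, by group⟩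
  have hmem : ∀ p : {h : G // h ∈ H ∧ h⁻¹ * t * h ∈ K},
      (p : G) * rep ⟨_, hP p⟩ ∈ (Subgroup.centralizer ({t} : Set G) ⊓ H : Subgroup G) := by
    intro p
    refine Subgroup.mem_inf.2 ⟨?_, H.mul_mem p.2.1 (hrep1 _)⟩
    rw [Subgroup.mem_centralizer_singleton_iff]
    have h := hrep2 ⟨_, hP p⟩
    simp only at h
    generalize rep ⟨_, hP p⟩ = r at h ⊢
    have h2 : r * t = (p : G)⁻¹ * t * (p : G) * r := by
      rw [← h]; group
    calc (p : G) * r * t = (p : G) * (r * t) := by group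
      _ = (p : G) * ((p : G)⁻¹ * t * (p : G) * r) := by rw [h2]
      _ = t * ((p : G) * r) := by group
  rw [← Nat.card_prod]
  refine Nat.card_le_card_of_injective
    (fun p : {h : G // h ∈ H ∧ h⁻¹ * t * h ∈ K} =>
      ((⟨_, hP p⟩ : {k : G // k ∈ K ∧ ∃ h ∈ H, h * t * h⁻¹ = k}),
        (⟨_, hmem p⟩ : (Subgroup.centralizer ({t} : Set G) ⊓ H : Subgroup G)))) ?_
  intro p q h
  simp only [Prod.mk.injEq, Subtype.mk.injEq] at h
  obtain ⟨h1, h2⟩ := h
  have h3 : (⟨_, hP p⟩ : {k : G // k ∈ K ∧ ∃ h ∈ H, h * t * h⁻¹ = k}) = ⟨_, hP q⟩ := Subtype.ext h1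
  rw [h3] at h2
  exact Subtype.ext (mul_right_cancel h2)

open Classical in
/-- **Fixed point counting bound for a centraliser.** -/
theorem card_centralizer_le (H : Subgroup G) (t : G) (ht : t ∈ H)
    {ι : Type} [Fintype ι] (w : ι → G) (hw : ∀ g : G, ∃ i, ∃ h₁ ∈ H, ∃ h₂ ∈ H, g = h₁ * w i * h₂)
    (K : ι → Subgroup G) (hK : ∀ i, K i = H ⊓ H.map (MulAut.conj (w i)).toMonoidHom)
    (c : ℕ) (hc : Nat.card (Subgroup.centralizer ({t} : Set G) ⊓ H : Subgroup G) ≤ c)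
    (n m : ι → ℕ) (hn : ∀ i, Nat.card {k : G // k ∈ K i ∧ ∃ h ∈ H, h * t * h⁻¹ = k} ≤ n i)
    (hm : ∀ i, m i * Nat.card (K i) = c * n i) :
    Nat.card (Subgroup.centralizer ({t} : Set G)) ≤ c * ∑ i, m i := by
  have hF : ∀ i, Nat.card {x : G ⧸ H // t • x = x ∧ ∃ h ∈ H, ((h * w i : G) : G ⧸ H) = x} ≤ m i := by
    intro i
    have h1 := card_fixed_orbit_mul H t ht (w i) (K i) (hK i)
    have h2 := card_conj_mem_le H t (K i)
    have h3 : Nat.card {k : G // k ∈ K i ∧ ∃ h ∈ H, h * t * h⁻¹ = k} *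
        Nat.card (Subgroup.centralizer ({t} : Set G) ⊓ H : Subgroup G) ≤ c * n i := by
      rw [mul_comm c]
      exact Nat.mul_le_mul (hn i) hc
    have h4 := (h1.trans h2).trans h3
    rw [← hm i] at h4
    exact Nat.le_of_mul_le_mul_right h4 Nat.card_pos
  have hsum : Nat.card {x : G ⧸ H // t • x = x} ≤ ∑ i, m i := by
    calc Nat.card {x : G ⧸ H // t • x = x}
        ≤ Nat.card (Σ i, {x : G ⧸ H // t • x = x ∧ ∃ h ∈ H, ((h * w i : G) : G ⧸ H) = x}) := by
          have hex : ∀ x : {x : G ⧸ H // t • x = x}, ∃ i, ∃ h ∈ H, ((h * w i : G) : G ⧸ H) = x := by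
            rintro ⟨x, hx⟩
            induction x using QuotientGroup.induction_on with
            | H g =>
              obtain ⟨i, h₁, hh₁, h₂, hh₂, rfl⟩ := hw g
              refine ⟨i, h₁, hh₁, ?_⟩
              rw [QuotientGroup.eq]
              simpa [mul_assoc] using hh₂
          choose idx hidx using hex
          refine Nat.card_le_card_of_injective (fun x => ⟨idx x, ⟨x.1, x.2, hidx x⟩⟩) ?_
          intro x y h
          have h' : (⟨idx x, ⟨x.1, x.2, hidx x⟩⟩ : Σ i, {x : G ⧸ H // t • x = x ∧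
              ∃ h ∈ H, ((h * w i : G) : G ⧸ H) = x}) = ⟨idx y, ⟨y.1, y.2, hidx y⟩⟩ := h
          have := congrArg (fun s : Σ i, {x : G ⧸ H // t • x = x ∧
              ∃ h ∈ H, ((h * w i : G) : G ⧸ H) = x} => (s.2 : G ⧸ H)) h'
          exact Subtype.ext this
      _ = ∑ i, Nat.card {x : G ⧸ H // t • x = x ∧ ∃ h ∈ H, ((h * w i : G) : G ⧸ H) = x} :=
          Nat.card_sigma
      _ ≤ ∑ i, m i := Finset.sum_le_sum fun i _ => hF i
  calc Nat.card (Subgroup.centralizer ({t} : Set G))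
      ≤ Nat.card {x : G ⧸ H // t • x = x} *
        Nat.card (Subgroup.centralizer ({t} : Set G) ⊓ H : Subgroup G) :=
        card_centralizer_le_fixed H t ht
    _ ≤ (∑ i, m i) * c := Nat.mul_le_mul hsum hc
    _ = c * ∑ i, m i := mul_comm _ _

end Cfsg.Agent.Ly.FixCount
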