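import Mathlib.Algebra.Group.Subgroup.Finite
import Cfsg.Agent.Ly.FixCount

/-!
Exactness of a double coset decomposition from the index: if `G = ⋃ H w_i H`, `K'_i ≤ K_i = H ∩ w_i H w_i⁻¹` with
`|K'_i| ≥ n_i`, `|H| = d_i n_i` and `∑ d_i ≤ |G : H|`, then `K'_i = K_i` has order exactly `n_i`.
-/

set_option autoImplicit false

namespace Cfsg.Agent.Ly.Exact

open Cfsg.Agent.Ly.FixCount

variable {G : Type*} [Group G] [Finite G]

open Classical in
theorem exact (H : Subgroup G) {ι : Type} [Fintype ι] (w : ι → G)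
    (hw : ∀ g : G, ∃ i, ∃ h₁ ∈ H, ∃ h₂ ∈ H, g = h₁ * w i * h₂)
    (K' : ι → Subgroup G) (hK' : ∀ i, K' i ≤ H ⊓ H.map (MulAut.conj (w i)).toMonoidHom)
    (d n : ι → ℕ) (hd : ∀ i, d i * n i = Nat.card H) (hn : ∀ i, n i ≤ Nat.card (K' i))
    (hidx : ∑ i, d i ≤ H.index) (i : ι) :
    K' i = H ⊓ H.map (MulAut.conj (w i)).toMonoidHom ∧ Nat.card (K' i) = n i := by
  have hHpos : 0 < Nat.card H := Nat.card_pos
  have hdpos : ∀ i, 0 < d i := fun i => Nat.pos_of_ne_zero fun h => by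
    have := hd i
    rw [h, zero_mul] at this
    omega
  have hnpos : ∀ i, 0 < n i := fun i => Nat.pos_of_ne_zero fun h => by
    have := hd i
    rw [h, mul_zero] at this
    omega
  have hKK : ∀ i, Nat.card (K' i) ≤ Nat.card (H ⊓ H.map (MulAut.conj (w i)).toMonoidHom : Subgroup G) :=
    fun i => Nat.card_le_card_of_injective _ (Subgroup.inclusion_injective (hK' i))
  have ho : ∀ i, Nat.card {x : G ⧸ H // (1 : G) • x = x ∧ ∃ h ∈ H, ((h * w i : G) : G ⧸ H) = x} *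
      Nat.card (H ⊓ H.map (MulAut.conj (w i)).toMonoidHom : Subgroup G) ≤ d i * n i := by
    intro i
    rw [hd i]
    refine (card_fixed_orbit_mul H 1 H.one_mem (w i) _ rfl).trans ?_
    exact Nat.card_le_card_of_injective (fun p : {h : G // h ∈ H ∧ h⁻¹ * 1 * h ∈
      (H ⊓ H.map (MulAut.conj (w i)).toMonoidHom : Subgroup G)} => (⟨p.1, p.2.1⟩ : H))
      (fun p q h => Subtype.ext (congrArg (fun s : H => (s : G)) h))
  have hle : ∀ i, Nat.card {x : G ⧸ H // (1 : G) • x = x ∧ ∃ h ∈ H, ((h * w i : G) : G ⧸ H) = x} ≤ d i := by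
    intro i
    have h1 := (Nat.mul_le_mul_left (Nat.card {x : G ⧸ H // (1 : G) • x = x ∧
      ∃ h ∈ H, ((h * w i : G) : G ⧸ H) = x}) ((hn i).trans (hKK i))).trans (ho i)
    exact Nat.le_of_mul_le_mul_right h1 (hnpos i)
  have hsum : H.index ≤ ∑ i, Nat.card {x : G ⧸ H // (1 : G) • x = x ∧ ∃ h ∈ H, ((h * w i : G) : G ⧸ H) = x} := by
    rw [Subgroup.index, ← Nat.card_sigma]
    have hex : ∀ x : G ⧸ H, ∃ i, ∃ h ∈ H, ((h * w i : G) : G ⧸ H) = x := by
      intro x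
      induction x using QuotientGroup.induction_on with
      | H g =>
        obtain ⟨i, h₁, hh₁, h₂, hh₂, rfl⟩ := hw g
        refine ⟨i, h₁, hh₁, ?_⟩
        rw [QuotientGroup.eq]
        simpa [mul_assoc] using hh₂
    choose idx hidx' using hex
    refine Nat.card_le_card_of_injective
      (fun x => (⟨idx x, ⟨x, one_smul _ _, hidx' x⟩⟩ : Σ i, {x : G ⧸ H // (1 : G) • x = x ∧
        ∃ h ∈ H, ((h * w i : G) : G ⧸ H) = x})) ?_
    intro x y h
    exact congrArg (fun s : Σ i, {x : G ⧸ H // (1 : G) • x = x ∧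
      ∃ h ∈ H, ((h * w i : G) : G ⧸ H) = x} => (s.2 : G ⧸ H)) h
  have heq : ∀ i, Nat.card {x : G ⧸ H // (1 : G) • x = x ∧ ∃ h ∈ H, ((h * w i : G) : G ⧸ H) = x} = d i := by
    intro i
    by_contra hne
    have hlt : Nat.card {x : G ⧸ H // (1 : G) • x = x ∧ ∃ h ∈ H, ((h * w i : G) : G ⧸ H) = x} < d i :=
      lt_of_le_of_ne (hle i) hne
    have := Finset.sum_lt_sum (fun i _ => hle i) ⟨i, Finset.mem_univ i, hlt⟩
    omega
  have hcard : Nat.card (H ⊓ H.map (MulAut.conj (w i)).toMonoidHom : Subgroup G) ≤ n i := by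
    have h1 := ho i
    rw [heq i] at h1
    exact Nat.le_of_mul_le_mul_left h1 (hdpos i)
  have hc' : Nat.card (K' i) = n i := le_antisymm ((hKK i).trans hcard) (hn i)
  refine ⟨?_, hc'⟩
  apply Subgroup.eq_of_le_of_card_ge (hK' i)
  rw [hc']
  exact hcard

end Cfsg.Agent.Ly.Exact
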