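import Cfsg.Agent.Ly.CardLevel

/-!
Orbit chain for the factor 5^6 of the order of the 111-dimensional matrix group over GF(5).
-/

set_option autoImplicit false

namespace Cfsg.Agent.Ly.CardDataFive

open Cfsg.Agent.Lib.PackMat Cfsg.Agent.Lib.PackOrbDvd Cfsg.Agent.Ly.Data111 Cfsg.Agent.Ly.Rep111 Cfsg.Agent.Ly.CardLevel

/-- row of level 0 of the chain F5 -/
def vF5_0 : ℕ := 0x1000000000000

/-- words of level 0 of the chain F5 -/
def wF5_0 : List (List (Fin 5 × Bool)) := [
  [(1, true)],
  [(0, false), (2, true), (0, true)]]

/-- row of level 1 of the chain F5 -/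
def vF5_1 : ℕ := 0x1

/-- words of level 1 of the chain F5 -/
def wF5_1 : List (List (Fin 5 × Bool)) := [
  [(1, false)],
  [(0, false), (2, false), (0, true), (1, false), (0, false), (2, true), (2, true), (0, true), (1, false), (0, false), (2, false), (0, true)],
  [(0, false), (2, false), (0, true), (1, true), (0, false), (2, true), (2, true), (0, true), (1, true), (0, false), (2, false), (0, true)]]

/-- the words of level 1 from those of level 0 -/
def eF5_1 : List (List (ℕ × Bool)) := [[(0, false)], [(1, false), (0, false), (1, true), (1, true), (0, false), (1, false)], [(1, false), (0, true), (1, true), (1, true), (0, true), (1, false)]]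

/-- row of level 2 of the chain F5 -/
def vF5_2 : ℕ := 0x1000000000

/-- words of level 2 of the chain F5 -/
def wF5_2 : List (List (Fin 5 × Bool)) := [
  [(0, false), (2, false), (0, true), (1, false), (0, false), (2, true), (2, true), (0, true), (1, false), (0, false), (2, false), (0, true), (1, true), (1, true)],
  [(0, false), (2, false), (0, true), (1, true), (0, false), (2, true), (2, true), (0, true), (1, true), (0, false), (2, false), (0, true), (1, false), (1, false)],
  [(0, false), (2, true), (0, true), (1, false), (0, false), (2, false), (2, false), (0, true), (1, false), (0, false), (2, true), (0, true), (1, true), (1, true)]]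

/-- the words of level 2 from those of level 1 -/
def eF5_2 : List (List (ℕ × Bool)) := [[(1, true), (0, false), (0, false)], [(2, true), (0, true), (0, true)], [(2, false), (0, false), (0, false)]]

/-- row of level 3 of the chain F5 -/
def vF5_3 : ℕ := 0x1000000

/-- words of level 3 of the chain F5 -/
def wF5_3 : List (List (Fin 5 × Bool)) := [
  [(1, false), (1, false), (0, false), (2, true), (0, true), (1, true), (0, false), (2, false), (2, false), (0, true), (1, true), (1, true), (0, false), (2, true), (2, true), (0, true), (1, true), (0, false), (2, false), (0, true), (1, false), (1, false)],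
  [(0, false), (2, false), (0, true), (1, false), (0, false), (2, true), (2, true), (0, true), (1, false), (0, false), (2, false), (0, true), (1, true), (1, true), (0, false), (2, true), (0, true), (1, false), (0, false), (2, false), (2, false), (0, true), (1, false), (0, false), (2, true), (0, true), (1, true), (1, true)]]

/-- the words of level 3 from those of level 2 -/
def eF5_3 : List (List (ℕ × Bool)) := [[(0, false), (1, true)], [(0, true), (2, true)]]

/-- row of level 4 of the chain F5 -/
def vF5_4 : ℕ := 0x1000000000000000000000000000000000000000000000000000000000000000000000000000000000000000000000000000000000000000000000000000000000000000000000000000000000000000000000000000000000000000000000000000000000000000000000000000000000000000000000000000000000000000000000000000000000000000000000000000000000000000000000000000000000000000000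

/-- words of level 4 of the chain F5 -/
def wF5_4 : List (List (Fin 5 × Bool)) := [
  [(0, false), (2, false), (0, true), (1, false), (0, false), (2, true), (2, true), (0, true), (1, false), (0, false), (2, false), (0, true), (1, true), (1, true), (0, false), (2, true), (0, true), (1, false), (0, false), (2, false), (2, false), (0, true), (1, false), (0, false), (2, true), (0, true), (1, true), (1, true)]]

/-- the words of level 4 from those of level 3 -/
def eF5_4 : List (List (ℕ × Bool)) := [[(1, true)]]

theorem okF5_0 : okRB C vF5_0 = true := by decide +kernel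

set_option maxRecDepth 100000 in
theorem orbF5_0 : orbB C (wF5_0.map fun w => w.map code) vF5_0 25 = true := by
  decide +kernel

theorem okF5_1 : okRB C vF5_1 = true := by decide +kernel

set_option maxRecDepth 100000 in
theorem orbF5_1 : orbB C (wF5_1.map fun w => w.map code) vF5_1 5 = true := by
  decide +kernel

theorem fixF5_1 : fixB C (wF5_1.map fun w => w.map code) vF5_0 = true := by decide +kernel

theorem expF5_1 : (eF5_1.map fun e => FreeGroup.reduce (flat wF5_0 e)) = wF5_1 := by decide +kernel

theorem okF5_2 : okRB C vF5_2 = true := by decide +kernel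

set_option maxRecDepth 100000 in
theorem orbF5_2 : orbB C (wF5_2.map fun w => w.map code) vF5_2 5 = true := by
  decide +kernel

theorem fixF5_2 : fixB C (wF5_2.map fun w => w.map code) vF5_1 = true := by decide +kernel

theorem expF5_2 : (eF5_2.map fun e => FreeGroup.reduce (flat wF5_1 e)) = wF5_2 := by decide +kernel

theorem okF5_3 : okRB C vF5_3 = true := by decide +kernel

set_option maxRecDepth 100000 in
theorem orbF5_3 : orbB C (wF5_3.map fun w => w.map code) vF5_3 5 = true := by
  decide +kernel

theorem fixF5_3 : fixB C (wF5_3.map fun w => w.map code) vF5_2 = true := by decide +kernel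

theorem expF5_3 : (eF5_3.map fun e => FreeGroup.reduce (flat wF5_2 e)) = wF5_3 := by decide +kernel

theorem okF5_4 : okRB C vF5_4 = true := by decide +kernel

set_option maxRecDepth 100000 in
theorem orbF5_4 : orbB C (wF5_4.map fun w => w.map code) vF5_4 5 = true := by
  decide +kernel

theorem fixF5_4 : fixB C (wF5_4.map fun w => w.map code) vF5_3 = true := by decide +kernel

theorem expF5_4 : (eF5_4.map fun e => FreeGroup.reduce (flat wF5_3 e)) = wF5_4 := by decide +kernel

theorem dvdF5_4 : 5 ∣ Nat.card (cl wF5_4) := level_last _ _ okF5_4 orbF5_4

theorem dvdF5_3 : 25 ∣ Nat.card (cl wF5_3) :=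
  ((by decide : (25 : ℕ) ∣ 5 * 5).trans (Nat.mul_dvd_mul_left 5 dvdF5_4)).trans
    (level _ _ okF5_3 orbF5_3 fixF5_4 (cl_le _ expF5_4))

theorem dvdF5_2 : 125 ∣ Nat.card (cl wF5_2) :=
  ((by decide : (125 : ℕ) ∣ 5 * 25).trans (Nat.mul_dvd_mul_left 5 dvdF5_3)).trans
    (level _ _ okF5_2 orbF5_2 fixF5_3 (cl_le _ expF5_3))

theorem dvdF5_1 : 625 ∣ Nat.card (cl wF5_1) :=
  ((by decide : (625 : ℕ) ∣ 5 * 125).trans (Nat.mul_dvd_mul_left 5 dvdF5_2)).trans
    (level _ _ okF5_1 orbF5_1 fixF5_2 (cl_le _ expF5_2))

theorem dvdF5_0 : 15625 ∣ Nat.card (cl wF5_0) :=
  ((by decide : (15625 : ℕ) ∣ 25 * 625).trans (Nat.mul_dvd_mul_left 25 dvdF5_1)).trans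
    (level _ _ okF5_0 orbF5_0 fixF5_1 (cl_le _ expF5_1))

end Cfsg.Agent.Ly.CardDataFive
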