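import Cfsg.Agent.Ly.CardLevel

/-!
Orbit chain for the factor 3^7 of the order of the 111-dimensional matrix group over GF(5).
-/

set_option autoImplicit false

namespace Cfsg.Agent.Ly.CardDataThree

open Cfsg.Agent.Lib.PackMat Cfsg.Agent.Lib.PackOrbDvd Cfsg.Agent.Ly.Data111 Cfsg.Agent.Ly.Rep111 Cfsg.Agent.Ly.CardLevel

/-- row of level 0 of the chain F3 -/
def vF3_0 : ℕ := 0x2002003002002002000000002001003003000003003000000001002000003002004003003001003000001004003001002003000002001004004002004002001004000002001003000002003000002003000002003004003004000002004003003003003000001001002000001000002004000004002001003000001001000000002004001000001003001004003004004003000001002000001003001003003001002002001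

/-- words of level 0 of the chain F3 -/
def wF3_0 : List (List (Fin 5 × Bool)) := [
  [(3, true), (3, true), (2, false), (3, true), (2, false), (0, true), (1, true), (1, true), (2, false), (3, true), (2, false), (3, true), (3, true), (2, true), (3, false), (2, true), (1, false), (1, false), (0, false), (2, true), (3, false), (2, true)],
  [(0, true), (1, true), (0, true), (3, true), (4, true), (3, true), (4, true), (2, true), (0, true), (2, true), (3, true), (3, true), (2, false), (0, false), (2, false), (3, true), (3, true), (2, true), (0, true), (2, true), (3, true), (3, true), (2, false), (0, false), (2, false), (3, true), (3, true), (2, true), (0, true), (2, true), (3, true), (4, true), (1, false), (0, false)],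
  [(4, true), (3, false), (3, true), (3, true), (2, false), (3, true), (2, false), (0, true), (1, true), (1, true), (2, false), (3, true), (2, false), (3, true), (3, true), (2, true), (3, false), (2, true), (1, false), (1, false), (0, false), (2, true), (3, false), (2, true), (3, true), (4, false)]]

/-- row of level 1 of the chain F3 -/
def vF3_1 : ℕ := 0x4000004003004002002003003002002004001002004001003002002004003002001000001003000000001001001001004002003000001000001004001001001003004002003000001001004001002003001001002000001002000001000004003001003004001001003000004001002001000001001004003001000002001000001000002003003000001002001002000004004004004002004001001000000002001000001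

/-- words of level 1 of the chain F3 -/
def wF3_1 : List (List (Fin 5 × Bool)) := [
  [(2, false), (3, true), (2, false), (0, true), (1, true), (1, true), (2, false), (3, true), (2, false), (3, false), (3, false), (2, true), (3, false), (2, true), (1, false), (1, false), (0, false), (2, true), (3, false), (2, true), (3, false), (3, false), (0, true), (1, true), (4, false), (3, false), (2, false), (0, false), (2, false), (3, false), (3, false), (2, true), (0, true), (2, true), (3, false), (3, false), (2, false), (0, false), (2, false), (3, false), (3, false), (2, true), (0, true), (2, true), (3, false), (3, false), (2, false), (0, false), (2, false), (4, false), (3, false), (4, false), (3, false), (0, false), (1, false), (0, false), (4, true), (3, true), (2, false), (3, true), (2, false), (0, true), (1, true), (1, true), (2, false), (3, true), (2, false), (3, true), (3, true), (2, true), (3, false), (2, true), (1, false), (1, false), (0, false), (2, true), (3, false), (2, true), (3, true), (4, false), (0, true), (1, true), (4, false), (3, false), (2, false), (0, false), (2, false), (3, false), (3, false), (2, true), (0, true), (2, true), (3, false), (3, false), (2, false), (0, false), (2, false), (3, false), (3, false), (2, true), (0, true), (2, true), (3, false), (3, false), (2, false),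 (0, false), (2, false), (4, false), (3, false), (4, false), (3, false), (0, false), (1, false), (0, false)],
  [(2, false), (3, true), (2, false), (0, true), (1, true), (1, true), (2, false), (3, true), (2, false), (3, false), (3, false), (2, true), (3, false), (2, true), (1, false), (1, false), (0, false), (2, true), (3, false), (2, true), (3, false), (3, false), (0, true), (1, true), (4, false), (3, false), (2, false), (0, false), (2, false), (3, false), (3, false), (2, true), (0, true), (2, true), (3, false), (3, false), (2, false), (0, false), (2, false), (3, false), (3, false), (2, true), (0, true), (2, true), (3, false), (3, false), (2, false), (0, false), (2, false), (4, false), (3, false), (4, false), (3, false), (0, false), (4, false), (3, false), (2, false), (0, false), (2, false), (3, false), (3, false), (2, true), (0, true), (2, true), (3, false), (3, false), (2, false), (0, false), (2, false), (3, false), (3, false), (2, true), (0, true), (2, true), (3, false), (3, false), (2, false), (0, false), (2, false), (4, false), (3, false), (4, false), (3, false), (0, false), (1, false), (0, false), (2, false), (3, true), (2, false), (0, true), (1, true), (1, true), (2, false), (3, true), (2, false), (3, false), (3, false), (2, true), (3, false), (2, true), (1, false), (1, false),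 (0, false), (2, true), (3, false), (2, true), (3, false), (3, false), (4, true), (3, true), (2, false), (3, true), (2, false), (0, true), (1, true), (1, true), (2, false), (3, true), (2, false), (3, true), (3, true), (2, true), (3, false), (2, true), (1, false), (1, false), (0, false), (2, true), (3, false), (2, true), (3, true), (4, false)]]

/-- the words of level 1 from those of level 0 -/
def eF3_1 : List (List (ℕ × Bool)) := [[(0, false), (1, false), (2, true), (1, false)], [(0, false), (1, false), (1, false), (0, false), (2, true)]]

/-- row of level 2 of the chain F3 -/
def vF3_2 : ℕ := 0x2000003003000003003002002001003000004000001001000004003003002000001004003004004003002000002002003002004004004004000000000001003004000002000000001001004004001004001000003001000001000002001000003001004001002003000002001003004003004000003000003000001003004004003002004000004002000001000004001003000002002004000003002000002003004002004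

/-- words of level 2 of the chain F3 -/
def wF3_2 : List (List (Fin 5 × Bool)) := [
  [(2, false), (3, true), (2, false), (0, true), (1, true), (1, true), (2, false), (3, true), (2, false), (3, false), (3, false), (2, true), (3, false), (2, true), (1, false), (1, false), (0, false), (2, true), (3, false), (2, true), (3, false), (3, false), (0, true), (1, true), (4, false), (3, false), (2, false), (0, false), (2, false), (3, false), (3, false), (2, true), (0, true), (2, true), (3, false), (3, false), (2, false), (0, false), (2, false), (3, false), (3, false), (2, true), (0, true), (2, true), (3, false), (3, false), (2, false), (0, false), (2, false), (4, false), (3, false), (4, false), (3, false), (0, false), (1, false), (0, false), (4, true), (3, true), (2, false), (3, true), (2, false), (0, true), (1, true), (1, true), (2, false), (3, true), (2, false), (3, true), (3, true), (2, true), (3, false), (2, true), (1, false), (1, false), (0, false), (2, true), (3, false), (2, true), (3, true), (4, false), (0, true), (1, true), (4, false), (3, false), (2, false), (0, false), (2, false), (3, false), (3, false), (2, true), (0, true), (2, true), (3, false), (3, false), (2, false), (0, false), (2, false), (3, false), (3, false), (2, true), (0, true), (2, true), (3, false), (3, false), (2, false),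 (0, false), (2, false), (4, false), (3, false), (4, false), (3, false), (0, false), (1, false), (0, false)],
  [(4, true), (3, false), (2, false), (3, true), (2, false), (0, true), (1, true), (1, true), (2, false), (3, true), (2, false), (3, false), (3, false), (2, true), (3, false), (2, true), (1, false), (1, false), (0, false), (2, true), (3, false), (2, true), (3, false), (4, false), (3, true), (3, true), (2, false), (3, true), (2, false), (0, true), (1, true), (1, true), (2, false), (3, true), (2, false), (3, true), (3, true), (2, true), (3, false), (2, true), (1, false), (1, false), (0, false), (2, true), (3, false), (2, true), (0, true), (1, true), (0, true), (3, true), (4, true), (3, true), (4, true), (2, true), (0, true), (2, true), (3, true), (3, true), (2, false), (0, false), (2, false), (3, true), (3, true), (2, true), (0, true), (2, true), (3, true), (3, true), (2, false), (0, false), (2, false), (3, true), (3, true), (2, true), (0, true), (2, true), (3, true), (4, true), (1, false), (0, false), (4, true), (3, true), (2, false), (3, true), (2, false), (0, true), (1, true), (1, true), (2, false), (3, true), (2, false), (3, true), (3, true), (2, true), (3, false), (2, true), (1, false), (1, false), (0, false), (2, true), (3, false), (2, true), (3, true), (4, false), (0, true),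 (1, true), (4, false), (3, false), (2, false), (0, false), (2, false), (3, false), (3, false), (2, true), (0, true), (2, true), (3, false), (3, false), (2, false), (0, false), (2, false), (3, false), (3, false), (2, true), (0, true), (2, true), (3, false), (3, false), (2, false), (0, false), (2, false), (4, false), (3, false), (4, false), (3, false), (0, false), (1, false), (0, false), (2, false), (3, true), (2, false), (0, true), (1, true), (1, true), (2, false), (3, true), (2, false), (3, false), (3, false), (2, true), (3, false), (2, true), (1, false), (1, false), (0, false), (2, true), (3, false), (2, true), (3, false), (3, false), (0, true), (1, true), (4, false), (3, false), (2, false), (0, false), (2, false), (3, false), (3, false), (2, true), (0, true), (2, true), (3, false), (3, false), (2, false), (0, false), (2, false), (3, false), (3, false), (2, true), (0, true), (2, true), (3, false), (3, false), (2, false), (0, false), (2, false), (4, false), (3, false), (4, false), (3, false), (0, false), (4, false), (3, false), (2, false), (0, false), (2, false), (3, false), (3, false), (2, true), (0, true), (2, true), (3, false), (3, false), (2, false), (0, false), (2, false), (3, false), (3, false), (2, true), (0, true), (2, true), (3, false), (3, false), (2, false), (0, false),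 (2, false), (4, false), (3, false), (4, false), (3, false), (0, false), (1, false), (0, false), (2, false), (3, true), (2, false), (0, true), (1, true), (1, true), (2, false), (3, true), (2, false), (3, false), (3, false), (2, true), (3, false), (2, true), (1, false), (1, false), (0, false), (2, true), (3, false), (2, true), (3, false), (3, false), (4, true), (3, true), (2, false), (3, true), (2, false), (0, true), (1, true), (1, true), (2, false), (3, true), (2, false), (3, true), (3, true), (2, true), (3, false), (2, true), (1, false), (1, false), (0, false), (2, true), (3, false), (2, true), (3, true), (4, false)]]

/-- the words of level 2 from those of level 1 -/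
def eF3_2 : List (List (ℕ × Bool)) := [[(0, true)], [(1, false), (0, true), (1, true)]]

/-- row of level 3 of the chain F3 -/
def vF3_3 : ℕ := 0x1000000000000000000000000000000000000000000000000000000000000000000000000000000000000000000000000000000000000000000000000000000000000000000000000000000000000000000000000000000000000000000000000000000000000000000000000000000000000000000000000000000000000000000000000000

/-- words of level 3 of the chain F3 -/
def wF3_3 : List (List (Fin 5 × Bool)) := [
  [(2, false), (3, true), (2, false), (0, true), (1, true), (1, true), (2, false), (3, true), (2, false), (3, false), (3, false), (2, true), (3, false), (2, true), (1, false), (1, false), (0, false), (2, true), (3, false), (2, true), (3, false), (3, false), (0, true), (1, true), (4, false), (3, false), (2, false), (0, false), (2, false), (3, false), (3, false), (2, true), (0, true), (2, true), (3, false), (3, false), (2, false), (0, false), (2, false), (3, false), (3, false), (2, true), (0, true), (2, true), (3, false), (3, false), (2, false), (0, false), (2, false), (4, false), (3, false), (4, false), (3, false), (0, false), (1, false), (0, false), (4, true), (3, true), (2, false), (3, true), (2, false), (0, true), (1, true), (1, true), (2, false), (3, true), (2, false), (3, true), (3, true),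 (2, true), (3, false), (2, true), (1, false), (1, false), (0, false), (2, true), (3, false), (2, true), (3, true), (4, false), (0, true), (1, true), (4, false), (3, false), (2, false), (0, false), (2, false), (3, false), (3, false), (2, true), (0, true), (2, true), (3, false), (3, false), (2, false), (0, false), (2, false), (3, false), (3, false), (2, true), (0, true), (2, true), (3, false), (3, false), (2, false), (0, false), (2, false), (4, false), (3, false), (4, false), (3, false), (0, false), (1, false), (0, false)]]

/-- the words of level 3 from those of level 2 -/
def eF3_3 : List (List (ℕ × Bool)) := [[(0, true)]]

theorem okF3_0 : okRB C vF3_0 = true := by decide +kernel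

set_option maxRecDepth 100000 in
theorem orbF3_0 : orbB C (wF3_0.map fun w => w.map code) vF3_0 54 = true := by
  decide +kernel

theorem okF3_1 : okRB C vF3_1 = true := by decide +kernel

set_option maxRecDepth 100000 in
theorem orbF3_1 : orbB C (wF3_1.map fun w => w.map code) vF3_1 3 = true := by
  decide +kernel

theorem fixF3_1 : fixB C (wF3_1.map fun w => w.map code) vF3_0 = true := by decide +kernel

theorem expF3_1 : (eF3_1.map fun e => FreeGroup.reduce (flat wF3_0 e)) = wF3_1 := by decide +kernel

theorem okF3_2 : okRB C vF3_2 = true := by decide +kernel

set_option maxRecDepth 100000 in
theorem orbF3_2 : orbB C (wF3_2.map fun w => w.map code) vF3_2 3 = true := by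
  decide +kernel

theorem fixF3_2 : fixB C (wF3_2.map fun w => w.map code) vF3_1 = true := by decide +kernel

theorem expF3_2 : (eF3_2.map fun e => FreeGroup.reduce (flat wF3_1 e)) = wF3_2 := by decide +kernel

theorem okF3_3 : okRB C vF3_3 = true := by decide +kernel

set_option maxRecDepth 100000 in
theorem orbF3_3 : orbB C (wF3_3.map fun w => w.map code) vF3_3 9 = true := by
  decide +kernel

theorem fixF3_3 : fixB C (wF3_3.map fun w => w.map code) vF3_2 = true := by decide +kernel

theorem expF3_3 : (eF3_3.map fun e => FreeGroup.reduce (flat wF3_2 e)) = wF3_3 := by decide +kernel

theorem dvdF3_3 : 9 ∣ Nat.card (cl wF3_3) := level_last _ _ okF3_3 orbF3_3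

theorem dvdF3_2 : 27 ∣ Nat.card (cl wF3_2) :=
  ((by decide : (27 : ℕ) ∣ 3 * 9).trans (Nat.mul_dvd_mul_left 3 dvdF3_3)).trans
    (level _ _ okF3_2 orbF3_2 fixF3_3 (cl_le _ expF3_3))

theorem dvdF3_1 : 81 ∣ Nat.card (cl wF3_1) :=
  ((by decide : (81 : ℕ) ∣ 3 * 27).trans (Nat.mul_dvd_mul_left 3 dvdF3_2)).trans
    (level _ _ okF3_1 orbF3_1 fixF3_2 (cl_le _ expF3_2))

theorem dvdF3_0 : 4374 ∣ Nat.card (cl wF3_0) :=
  ((by decide : (4374 : ℕ) ∣ 54 * 81).trans (Nat.mul_dvd_mul_left 54 dvdF3_1)).trans
    (level _ _ okF3_0 orbF3_0 fixF3_1 (cl_le _ expF3_1))

end Cfsg.Agent.Ly.CardDataThree
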