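import Cfsg.Agent.Ly.CardLevel

/-!
Orbit chain for the factor 2^8 of the order of the 111-dimensional matrix group over GF(5).
-/

set_option autoImplicit false

namespace Cfsg.Agent.Ly.CardDataTwo

open Cfsg.Agent.Lib.PackMat Cfsg.Agent.Lib.PackOrbDvd Cfsg.Agent.Ly.Data111 Cfsg.Agent.Ly.Rep111 Cfsg.Agent.Ly.CardLevel

/-- row of level 0 of the chain F2 -/
def vF2_0 : ℕ := 0x1000000000000000000000000000000000000000000000000000000000000000000000000000000000000000000000000000000000000000000000000000000000000000000000000000000000000000000000000000000000000000000000000000000000000000000000000000000000000000000000000000000000000000000000000000000000000000000000000000000000000000000000000000000000000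

/-- words of level 0 of the chain F2 -/
def wF2_0 : List (List (Fin 5 × Bool)) := [
  [(1, true), (0, true), (1, true), (4, false), (3, true), (2, true), (0, true), (2, true), (3, true), (3, true), (2, false), (0, false), (2, false), (3, true), (3, true), (2, true), (0, true), (2, true), (3, true), (3, true), (2, false), (0, false), (2, false), (3, true), (3, true), (2, true), (0, true), (2, true)],
  [(3, true)]]

/-- row of level 1 of the chain F2 -/
def vF2_1 : ℕ := 0x1000000000000000000000000000000000000000000000000000000000000000000000000000000000000000000000000000000000000000000000000000000000000000000000000000000000000000000000000000000000000000000000000000000000000000000000000000000000000000000000000000000000000000000000000000000000000000000000000000000000000000000000000000000000000000000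

/-- words of level 1 of the chain F2 -/
def wF2_1 : List (List (Fin 5 × Bool)) := [
  [(3, false)]]

/-- the words of level 1 from those of level 0 -/
def eF2_1 : List (List (ℕ × Bool)) := [[(1, false)]]

theorem okF2_0 : okRB C vF2_0 = true := by decide +kernel

set_option maxRecDepth 100000 in
theorem orbF2_0 : orbB C (wF2_0.map fun w => w.map code) vF2_0 192 = true := by
  decide +kernel

theorem okF2_1 : okRB C vF2_1 = true := by decide +kernel

set_option maxRecDepth 100000 in
theorem orbF2_1 : orbB C (wF2_1.map fun w => w.map code) vF2_1 4 = true := by
  decide +kernel

theorem fixF2_1 : fixB C (wF2_1.map fun w => w.map code) vF2_0 = true := by decide +kernel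

theorem expF2_1 : (eF2_1.map fun e => FreeGroup.reduce (flat wF2_0 e)) = wF2_1 := by decide +kernel

theorem dvdF2_1 : 4 ∣ Nat.card (cl wF2_1) := level_last _ _ okF2_1 orbF2_1

theorem dvdF2_0 : 768 ∣ Nat.card (cl wF2_0) :=
  ((by decide : (768 : ℕ) ∣ 192 * 4).trans (Nat.mul_dvd_mul_left 192 dvdF2_1)).trans
    (level _ _ okF2_0 orbF2_0 fixF2_1 (cl_le _ expF2_1))

end Cfsg.Agent.Ly.CardDataTwo
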