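import Cfsg.Agent.Ly.CardDataP
import Cfsg.Agent.Ly.CardDataFive
import Cfsg.Agent.Ly.CardDataTwo
import Cfsg.Agent.Ly.CardDataThree

/-!
The order of a finite group mapping onto the 111-dimensional matrix group over GF(5) of the Lyons group is divisible by
`51765179004000000`.
-/

set_option autoImplicit false

namespace Cfsg.Agent.Ly.CardDvd

open Cfsg.Agent.Ly.Rep111 Cfsg.Agent.Ly.CardLevel
  Cfsg.Agent.Ly.CardDataP Cfsg.Agent.Ly.CardDataFive Cfsg.Agent.Ly.CardDataTwo Cfsg.Agent.Ly.CardDataThree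

/-- **The order of the Lyons group divides the order of every finite group mapping onto the matrices.** -/
theorem dvd (G : Type*) [Group G] [Finite G] (f : G →* GL (Fin 111) (ZMod 5)) (h : ∀ i, gl i ∈ f.range) :
    51765179004000000 ∣ Nat.card G := by
  have h5 : 5 ^ 6 ∣ Nat.card G := (by norm_num : (5 : ℕ) ^ 6 ∣ 15625).trans (dvd_of f h dvdF5_0)
  have h2 : 2 ^ 8 ∣ Nat.card G := (by norm_num : (2 : ℕ) ^ 8 ∣ 768).trans (dvd_of f h dvdF2_0)
  have h3 : 3 ^ 7 ∣ Nat.card G := (by norm_num : (3 : ℕ) ^ 7 ∣ 4374).trans (dvd_of f h dvdF3_0)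
  have h7 : 7 ∣ Nat.card G := dvd_of f h dvdF7_0
  have h11 : 11 ∣ Nat.card G := dvd_of f h dvdF11_0
  have h31 : 31 ∣ Nat.card G := dvd_of f h dvdF31_0
  have h37 : 37 ∣ Nat.card G := dvd_of f h dvdF37_0
  have h67 : 67 ∣ Nat.card G := dvd_of f h dvdF67_0
  have e : 51765179004000000 = 2 ^ 8 * 3 ^ 7 * 5 ^ 6 * 7 * 11 * 31 * 37 * 67 := by norm_num
  rw [e]
  refine Nat.Coprime.mul_dvd_of_dvd_of_dvd (by norm_num) ?_ h67
  refine Nat.Coprime.mul_dvd_of_dvd_of_dvd (by norm_num) ?_ h37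
  refine Nat.Coprime.mul_dvd_of_dvd_of_dvd (by norm_num) ?_ h31
  refine Nat.Coprime.mul_dvd_of_dvd_of_dvd (by norm_num) ?_ h11
  refine Nat.Coprime.mul_dvd_of_dvd_of_dvd (by norm_num) ?_ h7
  refine Nat.Coprime.mul_dvd_of_dvd_of_dvd (by norm_num) ?_ h5
  exact Nat.Coprime.mul_dvd_of_dvd_of_dvd (by norm_num) h2 h3

end Cfsg.Agent.Ly.CardDvd
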