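import Mathlib.Data.Fin.VecNotation
import Mathlib.Algebra.BigOperators.Fin
import Mathlib.Tactic.FinCases
import Mathlib.Tactic.NormNum
import Cfsg.Agent.Ly.Exact

/-!
The bound `|C_G(t)| ≤ |2.A₁₁|` for a group `G` of order `|Ly|` with a subgroup `H` of order `|G₂(5)|`, five double
cosets with known lower bounds for the two-point stabilisers and their numbers of involutions.
-/

set_option autoImplicit false

namespace Cfsg.Agent.Ly.Cent

open Cfsg.Agent.Ly.FixCount Cfsg.Agent.Ly.Exact

section general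

variable {G : Type*} [Group G] [Finite G]

open Classical in
/-- Fixed point counting, with the bounds of the numbers of fixed points as hypotheses. -/
theorem card_centralizer_le_of (H : Subgroup G) (t : G) (ht : t ∈ H)
    {ι : Type} [Fintype ι] (w : ι → G) (hw : ∀ g : G, ∃ i, ∃ h₁ ∈ H, ∃ h₂ ∈ H, g = h₁ * w i * h₂)
    (c : ℕ) (hc : Nat.card (Subgroup.centralizer ({t} : Set G) ⊓ H : Subgroup G) ≤ c)
    (m : ι → ℕ)
    (hF : ∀ i, Nat.card {x : G ⧸ H // t • x = x ∧ ∃ h ∈ H, ((h * w i : G) : G ⧸ H) = x} ≤ m i) :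
    Nat.card (Subgroup.centralizer ({t} : Set G)) ≤ c * ∑ i, m i := by
  have hsum : Nat.card {x : G ⧸ H // t • x = x} ≤ ∑ i, m i := by
    calc Nat.card {x : G ⧸ H // t • x = x}
        ≤ Nat.card (Σ i, {x : G ⧸ H // t • x = x ∧ ∃ h ∈ H, ((h * w i : G) : G ⧸ H) = x}) := by
          have hex : ∀ x : {x : G ⧸ H // t • x = x}, ∃ i, ∃ h ∈ H, ((h * w i : G) : G ⧸ H) = x := by
            rintro ⟨x, hx⟩
            induction x using QuotientGroup.induction_on with
            | H g =>
              obtain ⟨i, h₁, hh₁, h₂, hh₂, rfl⟩ := hw g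
              refine ⟨i, h₁, hh₁, ?_⟩
              rw [QuotientGroup.eq]
              simpa [mul_assoc] using hh₂
          choose idx hidx using hex
          refine Nat.card_le_card_of_injective (fun x => ⟨idx x, ⟨x.1, x.2, hidx x⟩⟩) ?_
          intro x y h
          have h' : (⟨idx x, ⟨x.1, x.2, hidx x⟩⟩ : Σ i, {x : G ⧸ H // t • x = x ∧
              ∃ h ∈ H, ((h * w i : G) : G ⧸ H) = x}) = ⟨idx y, ⟨y.1, y.2, hidx y⟩⟩ := h
          have := congrArg (fun s : Σ i, {x : G ⧸ H // t • x = x ∧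
              ∃ h ∈ H, ((h * w i : G) : G ⧸ H) = x} => (s.2 : G ⧸ H)) h'
          exact Subtype.ext this
      _ = ∑ i, Nat.card {x : G ⧸ H // t • x = x ∧ ∃ h ∈ H, ((h * w i : G) : G ⧸ H) = x} :=
          Nat.card_sigma
      _ ≤ ∑ i, m i := Finset.sum_le_sum fun i _ => hF i
  calc Nat.card (Subgroup.centralizer ({t} : Set G))
      ≤ Nat.card {x : G ⧸ H // t • x = x} *
        Nat.card (Subgroup.centralizer ({t} : Set G) ⊓ H : Subgroup G) :=
        card_centralizer_le_fixed H t ht
    _ ≤ (∑ i, m i) * c := Nat.mul_le_mul hsum hc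
    _ = c * ∑ i, m i := mul_comm _ _

/-- the trivial double coset has at most one fixed point -/
theorem card_fixed_one_le (H : Subgroup G) (t : G) :
    Nat.card {x : G ⧸ H // t • x = x ∧ ∃ h ∈ H, ((h * 1 : G) : G ⧸ H) = x} ≤ 1 := by
  rw [Finite.card_le_one_iff_subsingleton]
  constructor
  rintro ⟨x, -, h, hh, rfl⟩ ⟨y, -, k, hk, rfl⟩
  apply Subtype.ext
  show ((h * 1 : G) : G ⧸ H) = ((k * 1 : G) : G ⧸ H)
  rw [QuotientGroup.eq, mul_one, mul_one]
  exact H.mul_mem (H.inv_mem hh) hk

/-- a nontrivial double coset -/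
theorem card_fixed_le (H : Subgroup G) (t : G) (ht : t ∈ H) (w : G) (K : Subgroup G)
    (hK : K = H ⊓ H.map (MulAut.conj w).toMonoidHom)
    (c : ℕ) (hc : Nat.card (Subgroup.centralizer ({t} : Set G) ⊓ H : Subgroup G) ≤ c)
    (n m : ℕ) (hn : Nat.card {k : G // k ∈ K ∧ ∃ h ∈ H, h * t * h⁻¹ = k} ≤ n)
    (hm : m * Nat.card K = c * n) :
    Nat.card {x : G ⧸ H // t • x = x ∧ ∃ h ∈ H, ((h * w : G) : G ⧸ H) = x} ≤ m := by
  have h1 := card_fixed_orbit_mul H t ht w K hK
  have h2 := card_conj_mem_le H t K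
  have h3 : Nat.card {k : G // k ∈ K ∧ ∃ h ∈ H, h * t * h⁻¹ = k} *
      Nat.card (Subgroup.centralizer ({t} : Set G) ⊓ H : Subgroup G) ≤ c * n := by
    rw [mul_comm c]
    exact Nat.mul_le_mul hn hc
  have h4 := (h1.trans h2).trans h3
  rw [← hm] at h4
  exact Nat.le_of_mul_le_mul_right h4 Nat.card_pos

end general

/-- lengths of the suborbits -/
def dd : Fin 5 → ℕ := ![1, 19530, 968750, 2034375, 5812500]

/-- orders of the two-point stabilisers -/
def nn : Fin 5 → ℕ := ![5859000000, 300000, 6048, 2880, 1008]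

/-- numbers of involutions -/
def inv : Fin 5 → ℕ := ![406875, 1375, 63, 211, 105]

/-- numbers of fixed points -/
def mm : Fin 5 → ℕ := ![1, 66, 150, 1055, 1500]

theorem dd_mul_nn (i : Fin 5) : dd i * nn i = 5859000000 := by
  fin_cases i <;> simp [dd, nn]

theorem mm_mul_nn (i : Fin 5) (hi : i ≠ 0) : mm i * nn i = 14400 * inv i := by
  fin_cases i
  · exact absurd rfl hi
  all_goals simp [mm, nn, inv]

theorem sum_dd : ∑ i, dd i = 8835156 := by
  simp [dd, Fin.sum_univ_succ]

theorem sum_mm : ∑ i, mm i = 2772 := by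
  simp [mm, Fin.sum_univ_succ]

variable {G : Type*} [Group G] [Finite G] {A : Type*} [Group A]

/-- **The centraliser bound.** -/
theorem card_centralizer_le (psi : A →* G) (hinj : Function.Injective psi)
    (hA : Nat.card A = 5859000000) (hG : Nat.card G = 51765179004000000)
    (t : A) (ht : t ^ 2 = 1) (ht1 : t ≠ 1)
    (w : Fin 5 → G) (hw0 : w 0 = 1)
    (hw : ∀ g : G, ∃ i, ∃ h₁ ∈ psi.range, ∃ h₂ ∈ psi.range, g = h₁ * w i * h₂)
    (Hs : Fin 5 → Subgroup A)
    (hle : ∀ i, i ≠ 0 → (Hs i).map psi ≤ psi.range ⊓ psi.range.map (MulAut.conj (w i)).toMonoidHom)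
    (hn : ∀ i, i ≠ 0 → nn i ≤ Nat.card (Hs i))
    (hc : Nat.card (Subgroup.centralizer ({t} : Set A)) ≤ 14400)
    (hinv : ∀ i, i ≠ 0 → Nat.card (Hs i) = nn i →
      Nat.card {k : A // k ∈ Hs i ∧ k ^ 2 = 1 ∧ k ≠ 1} ≤ inv i) :
    Nat.card (Subgroup.centralizer ({psi t} : Set G)) ≤ 39916800 := by
  have : Finite A := Finite.of_injective psi hinj
  have hH : Nat.card psi.range = 5859000000 := by
    rw [← hA]
    exact (Nat.card_congr (MonoidHom.ofInjective hinj).toEquiv).symm
  have hidx : psi.range.index = 8835156 := by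
    have h := psi.range.card_mul_index
    rw [hH, hG] at h
    omega
  let K' : Fin 5 → Subgroup G := fun i => if i = 0 then psi.range else (Hs i).map psi
  have hK0 : K' 0 = psi.range := if_pos rfl
  have hKi : ∀ i, i ≠ 0 → K' i = (Hs i).map psi := fun i hi => if_neg hi
  have hcardmap : ∀ i, Nat.card ((Hs i).map psi) = Nat.card (Hs i) := fun i =>
    (Nat.card_congr ((Hs i).equivMapOfInjective psi hinj).toEquiv).symm
  have hK' : ∀ i, K' i ≤ psi.range ⊓ psi.range.map (MulAut.conj (w i)).toMonoidHom := by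
    intro i
    by_cases hi : i = 0
    · subst hi
      rw [hK0, hw0]
      refine le_inf le_rfl ?_
      intro x hx
      exact ⟨x, hx, by simp⟩
    · rw [hKi i hi]
      exact hle i hi
  have hn' : ∀ i, nn i ≤ Nat.card (K' i) := by
    intro i
    by_cases hi : i = 0
    · subst hi
      rw [hK0, hH]
      exact le_of_eq (by simp [nn])
    · rw [hKi i hi, hcardmap]
      exact hn i hi
  have hex := exact psi.range w hw K' hK' dd nn (fun i => by rw [hH]; exact dd_mul_nn i) hn'
    (by rw [sum_dd, hidx])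
  have hcent : Nat.card (Subgroup.centralizer ({psi t} : Set G) ⊓ psi.range : Subgroup G) ≤ 14400 := by
    refine le_trans ?_ hc
    have hmem : ∀ x : (Subgroup.centralizer ({psi t} : Set G) ⊓ psi.range : Subgroup G),
        ∃ a ∈ Subgroup.centralizer ({t} : Set A), psi a = x := by
      rintro ⟨x, hx⟩
      obtain ⟨hx1, a, rfl⟩ := Subgroup.mem_inf.1 hx
      refine ⟨a, ?_, rfl⟩
      rw [Subgroup.mem_centralizer_singleton_iff] at hx1 ⊢
      apply hinj
      rw [map_mul, map_mul, hx1]
    choose f hf hf' using hmem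
    refine Nat.card_le_card_of_injective (fun x => (⟨f x, hf x⟩ : Subgroup.centralizer ({t} : Set A))) ?_
    intro x y h
    have h' : f x = f y := congrArg Subtype.val h
    exact Subtype.ext (by rw [← hf', ← hf', h'])
  have hmain := card_centralizer_le_of psi.range (psi t) ⟨t, rfl⟩ w hw 14400 hcent mm (by
    intro i
    by_cases hi : i = 0
    · subst hi
      rw [hw0]
      refine (card_fixed_one_le psi.range (psi t)).trans ?_
      simp [mm]
    · obtain ⟨h1, h2⟩ := hex i
      refine card_fixed_le psi.range (psi t) ⟨t, rfl⟩ (w i) (K' i) h1 14400 hcent (inv i) (mm i) ?_ ?_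
      · have hcHs : Nat.card (Hs i) = nn i := by rw [← hcardmap, ← hKi i hi]; exact h2
        refine le_trans ?_ (hinv i hi hcHs)
        have hmem : ∀ x : {k : G // k ∈ K' i ∧ ∃ h ∈ psi.range, h * psi t * h⁻¹ = k},
            ∃ a : A, (a ∈ Hs i ∧ a ^ 2 = 1 ∧ a ≠ 1) ∧ psi a = x := by
          rintro ⟨x, hx, h, -, hhx⟩
          rw [hKi i hi] at hx
          obtain ⟨a, ha, rfl⟩ := hx
          refine ⟨a, ⟨ha, ?_, ?_⟩, rfl⟩
          · apply hinj
            rw [map_pow, map_one, ← hhx, conj_pow, ← map_pow, ht, map_one, mul_one, mul_inv_cancel]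
          · rintro rfl
            rw [map_one, mul_inv_eq_one] at hhx
            have h1 : psi t = 1 := by
              have : h * psi t = h * 1 := by rw [hhx, mul_one]
              exact mul_left_cancel this
            exact ht1 (hinj (by rw [h1, map_one]))
        choose f hf hf' using hmem
        refine Nat.card_le_card_of_injective
          (fun x => (⟨f x, hf x⟩ : {k : A // k ∈ Hs i ∧ k ^ 2 = 1 ∧ k ≠ 1})) ?_
        intro x y h
        have h' : f x = f y := congrArg Subtype.val h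
        exact Subtype.ext (by rw [← hf', ← hf', h'])
      · rw [h2]
        exact mm_mul_nn i hi)
  rw [sum_mm] at hmain
  exact hmain

end Cfsg.Agent.Ly.Cent
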