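import Cfsg.Agent.Ly.CarmData

/-!
# Carmichael generators of 2.A11 in the Lyons group

`ws i` (`i : Fin 9`): words in a, b, c, d, z commuting with the involution `t = a^4` (word `tw`) whose images modulo
`t` are 3-cycles `(i, p, q)` of an alternating group of degree 11:  `x_i^3 = t`, `(x_i x_j)^2 = t`.
-/

set_option autoImplicit false

namespace Cfsg.Agent.Ly.Carm

open Cfsg.Agent.Lib.PackMat Cfsg.Agent.Ly.Data111 Cfsg.Agent.Ly.Rep111 Cfsg.Agent.Ly.CarmData

/-- the matrix of a code -/
def m (G : ℕ) : Matrix (Fin 111) (Fin 111) (ZMod 5) := mat C G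

/-- all codes in a list are `T` or some `X i` -/
theorem ok_list {l : List ℕ} (h : ∀ g ∈ l, g = T ∨ ∃ i, g = X i) : ∀ g ∈ l, okG C g = true := by
  intro g hg
  rcases h g hg with rfl | ⟨i, rfl⟩
  · exact okT
  · exact okX i

theorem m_prod {l₁ l₂ : List ℕ} (h1 : ∀ g ∈ l₁, okG C g = true) (h2 : ∀ g ∈ l₂, okG C g = true)
    (h : checkEq C l₁ l₂ 0 C.n = true) : (l₁.map m).prod = (l₂.map m).prod :=
  prod_eq_of_check good (by decide) h1 h2 h

theorem m_one {l : List ℕ} (h1 : ∀ g ∈ l, okG C g = true)
    (h : checkScalar C l 1 0 C.n = true) : (l.map m).prod = 1 :=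
  prod_one_of_check good (by decide) h1 h

theorem coe_word' (w : List (Fin 5 × Bool)) :
    (word w : Matrix (Fin 111) (Fin 111) (ZMod 5)) = ((w.map code).map m).prod := coe_word w

theorem matT : (word tw : Matrix (Fin 111) (Fin 111) (ZMod 5)) = m T := by
  rw [coe_word', m_prod (ok_map tw) (ok_list (l := [T]) (by simp)) chkT]
  simp

theorem matX (i : Fin 9) : (word (ws i) : Matrix (Fin 111) (Fin 111) (ZMod 5)) = m (X i) := by
  rw [coe_word', m_prod (ok_map (ws i)) (ok_list (l := [X i]) (by simp)) (chkX i)]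
  simp

theorem comm (i : Fin 9) : word (ws i) * word tw = word tw * word (ws i) := by
  apply Units.ext
  rw [Units.val_mul, Units.val_mul, matT, matX]
  have h := m_prod (ok_list (l := [X i, T]) (by simp)) (ok_list (l := [T, X i]) (by simp)) (chkComm i)
  simpa using h

theorem cube (i : Fin 9) : word (ws i) ^ 3 = word tw := by
  apply Units.ext
  rw [Units.val_pow_eq_pow_val, matT, matX]
  have h := m_prod (ok_list (l := [X i, X i, X i]) (by simp)) (ok_list (l := [T]) (by simp)) (chkCube i)
  simp only [List.map_cons, List.map_nil, List.prod_cons, List.prod_nil, mul_one] at h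
  rw [pow_succ, pow_two, mul_assoc]
  exact h

theorem pair_lt {i j : Fin 9} (hij : i < j) : (word (ws i) * word (ws j)) ^ 2 = word tw := by
  apply Units.ext
  rw [Units.val_pow_eq_pow_val, Units.val_mul, matT, matX, matX]
  have h := m_prod (ok_list (l := [X i, X j, X i, X j]) (by simp)) (ok_list (l := [T]) (by simp))
    (chkPair i j hij)
  simp only [List.map_cons, List.map_nil, List.prod_cons, List.prod_nil, mul_one] at h
  rw [pow_two, mul_assoc]
  exact h

theorem pair {i j : Fin 9} (hij : i ≠ j) : (word (ws i) * word (ws j)) ^ 2 = word tw := by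
  rcases lt_or_gt_of_ne hij with h | h
  · exact pair_lt h
  · have h1 := pair_lt h
    have h2 : (word (ws i) * word (ws j)) ^ 2 =
        (word (ws j))⁻¹ * (word (ws j) * word (ws i)) ^ 2 * word (ws j) := by
      simp only [pow_two]
      group
    rw [h2, h1, mul_assoc, ← comm j, inv_mul_cancel_left]

theorem tw_sq : word tw * word tw = 1 := by
  apply Units.ext
  rw [Units.val_mul, matT, Units.val_one]
  have h := m_one (ok_list (l := [T, T]) (by simp)) chkTT
  simpa using h

/-- the index 0 -/
def i0 : Fin C.n := ⟨0, by decide⟩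

theorem T00 : mat C T i0 i0 ≠ 1 := by
  rw [mat_def]
  decide +kernel

theorem X00 : mat C (X 0) i0 i0 ≠ mat C T i0 i0 := by
  rw [mat_def, mat_def]
  decide +kernel

theorem tw_ne_one : word tw ≠ 1 := by
  intro h
  have h1 : m T = 1 := by
    have h2 := congrArg (fun g : GL (Fin 111) (ZMod 5) => (g : Matrix (Fin 111) (Fin 111) (ZMod 5))) h
    rw [← matT]
    exact h2
  apply T00
  change m T i0 i0 = 1
  rw [h1]
  exact Matrix.one_apply_eq _

theorem x0_ne_one : word (ws 0) ≠ 1 := by
  intro h
  apply tw_ne_one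
  rw [← cube 0, h, one_pow]

theorem x0_ne_t : word (ws 0) ≠ word tw := by
  intro h
  have h1 : m (X 0) = m T := by
    have h2 := congrArg (fun g : GL (Fin 111) (ZMod 5) => (g : Matrix (Fin 111) (Fin 111) (ZMod 5))) h
    rw [← matT, ← matX]
    exact h2
  apply X00
  change m (X 0) i0 i0 = m T i0 i0
  rw [h1]

end Cfsg.Agent.Ly.Carm
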