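import Cfsg.Agent.Ly.Assembly
import Cfsg.Agent.Ly.Carm

/-!
The statement of S0454 from: the presented group `Ly` is simple of the right order, has a simple subgroup of order
`5859000000`, and the centraliser of `a ^ 4` has order at most `39916800`.
-/

set_option autoImplicit false

namespace Cfsg.Agent.Ly.Final

open Cfsg.Agent.Ly.Pres Cfsg.Agent.Ly.Rep111 Cfsg.Agent.Ly.Carm Cfsg.Agent.Ly.CarmData

/-- the element of `Ly` given by a word -/
def el (w : List (Fin 5 × Bool)) : Cfsg.Spor.Ly := FreeGroup.lift gens (FreeGroup.mk w)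

theorem rho_el (w : List (Fin 5 × Bool)) : rho (el w) = word w := rho_lift w

theorem el_append (v w : List (Fin 5 × Bool)) : el (v ++ w) = el v * el w := by
  unfold el
  rw [← FreeGroup.mul_mk, map_mul]

theorem el_pos (i : Fin 5) : el [(i, true)] = gens i := by
  unfold el
  exact FreeGroup.lift_apply_of

theorem el_tw : el tw = gens 0 ^ 4 := by
  have h : tw = [(0, true)] ++ ([(0, true)] ++ ([(0, true)] ++ [(0, true)])) := rfl
  rw [h, el_append, el_append, el_append, el_pos]
  simp only [pow_succ, pow_zero, one_mul, mul_assoc]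

theorem rho_injective (h : IsSimpleGroup Cfsg.Spor.Ly) : Function.Injective rho := by
  rcases h.eq_bot_or_eq_top_of_normal rho.ker inferInstance with h1 | h1
  · exact (MonoidHom.ker_eq_bot_iff rho).1 h1
  · exfalso
    apply tw_ne_one
    rw [← rho_el]
    have : el tw ∈ rho.ker := by rw [h1]; exact Subgroup.mem_top _
    exact this

theorem el_inj (h : IsSimpleGroup Cfsg.Spor.Ly) {x y : Cfsg.Spor.Ly} (hxy : rho x = rho y) : x = y :=
  rho_injective h hxy

theorem tw_order (h : IsSimpleGroup Cfsg.Spor.Ly) : orderOf (gens 0 ^ 4 : Cfsg.Spor.Ly) = 2 := by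
  rw [← el_tw]
  apply orderOf_eq_prime
  · apply el_inj h
    rw [map_pow, rho_el, map_one, pow_two, tw_sq]
  · intro h1
    apply tw_ne_one
    rw [← rho_el, h1, map_one]

/-- **S0454 from the pieces.** -/
theorem of_pieces (hLy : Cfsg.IsLy Cfsg.Spor.Ly) [Finite Cfsg.Spor.Ly] (K : Subgroup Cfsg.Spor.Ly)
    (hcard : Nat.card K = 5859000000) (hK : IsSimpleGroup K)
    (hle : Nat.card (Subgroup.centralizer ({gens 0 ^ 4} : Set Cfsg.Spor.Ly)) ≤ 39916800) :
    ∃ H : Subgroup (Equiv.Perm (Fin 8835156)), Cfsg.IsLy H ∧ MulAction.IsPretransitive H (Fin 8835156) ∧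
      Cfsg.IsG2 (MulAction.stabilizer H (0 : Fin 8835156)) ∧
      ∃ t : H, orderOf t = 2 ∧
        Cfsg.IsNonsplitDoubleCover (Subgroup.centralizer ({t} : Set H)) (alternatingGroup (Fin 11)) := by
  have hs : IsSimpleGroup Cfsg.Spor.Ly := hLy.1
  refine Assembly.of_carmichael hLy K hcard hK (gens 0 ^ 4) (tw_order hs) hle (fun i => el (ws i))
    ?_ ?_ ?_ ?_ (gens 0 ^ 2) ?_
  · intro i
    rw [← el_tw]
    apply el_inj hs
    simp only [map_mul, rho_el]
    exact comm i
  · intro i
    right
    rw [← el_tw]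
    apply el_inj hs
    simp only [map_pow, rho_el]
    exact cube i
  · intro i j hij
    right
    rw [← el_tw]
    apply el_inj hs
    simp only [map_pow, map_mul, rho_el]
    exact pair hij
  · rw [← el_tw]
    constructor
    · intro h
      apply x0_ne_one
      rw [← rho_el]
      show rho (el (ws 0)) = 1
      have h' : el (ws 0) = 1 := h
      rw [h', map_one]
    · intro h
      apply x0_ne_t
      rw [← rho_el, ← rho_el]
      exact congrArg rho h
  · rw [← pow_mul]

end Cfsg.Agent.Ly.Final
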