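import Cfsg.Agent.Ly.Cover
import Cfsg.Agent.Ly.Cent

/-!
# Numbers of involutions of the two-point stabilisers `H_1, ..., H_4` of the Lyons group

`card_invol` : if `|H_i|` is `300000, 6048, 2880, 1008` (for `i = 1, 2, 3, 4`), then `H_i` has at most
`1375, 63, 211, 105` involutions.
-/

set_option autoImplicit false

namespace Cfsg.Agent.Ly.Invol

open Cfsg.Agent.Lib.PackMat Cfsg.Agent.Ly.Mat7 Cfsg.Agent.Ly.CoverCore Cfsg.Agent.Ly.CoverData Cfsg.Agent.Ly.Cover
open Finset

/-! ### Counting in the kernel -/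

/-- Sum of `f x` for `x < k`. -/
noncomputable def sumBelow (f : ℕ → ℕ) (k : ℕ) : ℕ :=
  Nat.rec (motive := fun _ => ℕ) 0 (fun x ih => Nat.add ih (f x)) k

theorem sumBelow_eq (f : ℕ → ℕ) (k : ℕ) : sumBelow f k = ∑ x ∈ range k, f x := by
  induction k with
  | zero => rfl
  | succ k ih =>
    rw [sum_range_succ, ← ih]
    rfl

/-- Number of `x < N` with `f x`, in blocks of 64. -/
noncomputable def cntN (f : ℕ → Bool) (N : ℕ) : ℕ :=
  sumBelow (fun i => sumBelow (fun j => force (Nat.add (Nat.mul 64 i) j) fun x =>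
    bif Nat.blt x N then bif f x then 1 else 0 else 0) 64) (Nat.succ (Nat.div N 64))

theorem sum_blocks (g : ℕ → ℕ) (m : ℕ) :
    ∑ i ∈ range m, ∑ j ∈ range 64, g (64 * i + j) = ∑ x ∈ range (64 * m), g x := by
  induction m with
  | zero => simp
  | succ m ih => rw [sum_range_succ, ih, Nat.mul_succ, sum_range_add]

theorem cntN_eq (f : ℕ → Bool) (N : ℕ) : cntN f N = ((range N).filter (fun x => f x = true)).card := by
  have h1 : cntN f N = ∑ x ∈ range (64 * (N / 64 + 1)), bif Nat.blt x N then bif f x then 1 else 0 else 0 := by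
    rw [← sum_blocks, cntN, sumBelow_eq]
    apply sum_congr rfl
    intro i _
    rw [sumBelow_eq]
    rfl
  rw [h1, card_filter]
  have hsub : range N ⊆ range (64 * (N / 64 + 1)) := by
    intro x hx
    rw [mem_range] at hx ⊢
    omega
  rw [← sum_subset hsub]
  · apply sum_congr rfl
    intro x hx
    have h2 : Nat.blt x N = true := by
      unfold Nat.blt
      exact Nat.ble_eq.mpr (mem_range.mp hx)
    rw [h2, cond_true]
    cases f x <;> rfl
  · intro x _ hx
    have h2 : Nat.blt x N = false := by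
      rw [← Bool.not_eq_true]
      intro h
      exact hx (mem_range.mpr (blt_lt h))
    rw [h2, cond_false]

/-! ### Abstract counting -/

/-- If `e` enumerates `S` without repetitions and at most `c + 1` indices give an element of square one, then `S` has at
most `c` involutions. -/
theorem card_invol_le {G : Type*} [Group G] [Finite G] (S : Subgroup G) {ι : Type} [Fintype ι] (e : ι → S)
    (he : Function.Injective e) (hcard : Nat.card S = Fintype.card ι) (p : ι → Prop) [DecidablePred p]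
    (hp : ∀ i, (e i : G) ^ 2 = 1 → p i) (c : ℕ) (hc : (univ.filter p).card ≤ c + 1) :
    Nat.card {k : G // k ∈ S ∧ k ^ 2 = 1 ∧ k ≠ 1} ≤ c := by
  classical
  have hbij : Function.Bijective e := by
    have : Fintype S := Fintype.ofFinite S
    rw [Fintype.bijective_iff_injective_and_card]
    exact ⟨he, by rw [← hcard, Nat.card_eq_fintype_card]⟩
  have hs := hbij.2
  choose r hr using hs
  let F : Option {k : G // k ∈ S ∧ k ^ 2 = 1 ∧ k ≠ 1} → (univ.filter p : Finset ι) := fun o =>
    match o with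
    | none => ⟨r 1, by
        rw [mem_filter]
        refine ⟨mem_univ _, hp _ ?_⟩
        rw [hr]
        simp⟩
    | some k => ⟨r ⟨k.1, k.2.1⟩, by
        rw [mem_filter]
        refine ⟨mem_univ _, hp _ ?_⟩
        rw [hr]
        exact k.2.2.1⟩
  have hF : Function.Injective F := by
    have hrinj : Function.Injective r := fun a b h => by rw [← hr a, ← hr b, h]
    intro a b h
    match a, b with
    | none, none => rfl
    | none, some k =>
      have h1 : r 1 = r ⟨k.1, k.2.1⟩ := congrArg Subtype.val h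
      exact absurd (congrArg Subtype.val (hrinj h1)).symm k.2.2.2
    | some k, none =>
      have h1 : r ⟨k.1, k.2.1⟩ = r 1 := congrArg Subtype.val h
      exact absurd (congrArg Subtype.val (hrinj h1)) k.2.2.2
    | some k, some l =>
      have h1 : r ⟨k.1, k.2.1⟩ = r ⟨l.1, l.2.1⟩ := congrArg Subtype.val h
      have h2 := congrArg Subtype.val (hrinj h1)
      congr 1
      exact Subtype.ext h2
  have h1 := Nat.card_le_card_of_injective F hF
  rw [Nat.card_eq_fintype_card (α := (univ.filter p : Finset ι)), Fintype.card_coe, Finite.card_option] at h1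
  omega

/-! ### Lists of codes -/

/-- The square of the matrix with code `X` is one. -/
noncomputable def sqOne (X : ℕ) : Bool := Nat.beq (mulF X X) oneN

theorem sqOne_of {X : ℕ} {g : GL75} (h : Rep X g) (hg : g ^ 2 = 1) : sqOne X = true := by
  have h1 := h.mul h
  rw [← pow_two, hg] at h1
  rw [sqOne, h1.code rep_one]
  exact Nat.beq_refl _

/-- Number of elements of square one among the pairs `0, ..., N`. -/
noncomputable def invCnt (T ST N : ℕ) : ℕ :=
  cntN (fun n => force (pairK T ST n) sqOne) (Nat.succ N)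

theorem invol_le_of {S : Subgroup GL75} {T nT ST N c : ℕ} (hT : ∀ i < nT, In S (tab T i))
    (h : sorted T nT ST N = true) (hcard : Nat.card S = N + 1)
    (hc : Nat.ble (invCnt T ST N) (Nat.succ c) = true) :
    Nat.card {k : GL75 // k ∈ S ∧ k ^ 2 = 1 ∧ k ≠ 1} ≤ c := by
  classical
  obtain ⟨h1, h2⟩ := sorted_spec' h
  have hmono := strictMono_of h2
  have hf : ∀ n ≤ N, In S (pairK T ST n) := fun n hn => pairK_in hT (h1 n hn)
  choose g hg hrep using fun n : Fin (N + 1) => hf n (Nat.lt_succ_iff.mp n.2)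
  have hinj : Function.Injective (fun n : Fin (N + 1) => (⟨g n, hg n⟩ : S)) := by
    intro m n h
    have h1 : g m = g n := congrArg Subtype.val h
    have h2 : pairK T ST m = pairK T ST n := by
      have h3 := hrep n
      rw [← h1] at h3
      exact (hrep m).code h3
    rcases Nat.lt_trichotomy m n with h3 | h3 | h3
    · have := hmono m n h3 (by omega); omega
    · exact Fin.ext h3
    · have := hmono n m h3 (by omega); omega
  refine card_invol_le S (fun n : Fin (N + 1) => (⟨g n, hg n⟩ : S)) hinj (by rw [hcard, Fintype.card_fin])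
    (fun n => sqOne (pairK T ST n) = true) (fun n hn => sqOne_of (hrep n) hn) c ?_
  have h3 := Nat.le_of_ble_eq_true hc
  rw [invCnt, cntN_eq] at h3
  refine le_trans (le_of_eq ?_) h3
  refine Finset.card_bij (fun n _ => (n : ℕ)) ?_ ?_ ?_
  · intro n hn
    rw [mem_filter] at hn ⊢
    exact ⟨mem_range.mpr n.2, hn.2⟩
  · intro a _ b _ hab
    exact Fin.ext hab
  · intro n hn
    rw [mem_filter] at hn
    exact ⟨⟨n, mem_range.mp hn.1⟩, by rw [mem_filter]; exact ⟨mem_univ _, hn.2⟩, rfl⟩

/-! ### The group `5^{1+4} : 4.S_4` -/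

/-- Mask of the entries `(i,j)` with `i ≥ 2`, `j < 2`. -/
def MZ : ℕ := 0xffffffff00000000000000000000ffffffff00000000000000000000ffffffff00000000000000000000ffffffff00000000000000000000ffffffff00000000000000000000000000000000000000000000000000000000

theorem dg_MZ : ∀ l < 49, dg 16 MZ l = if l % 7 < 2 ∧ 14 ≤ l then 65535 else 0 := by decide +kernel

theorem block_zero {X : ℕ} {g : GL75} (h : Rep X g) (hz : X &&& MZ = 0) (i j : Fin 7) (hi : 2 ≤ (i : ℕ))
    (hj : (j : ℕ) < 2) : (g : Matrix (Fin 7) (Fin 7) (ZMod 5)) i j = 0 := by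
  rw [h.entry]
  have h1 : dg 16 (X &&& MZ) (7 * i + j) = dg 16 X (7 * i + j) := by
    rw [dg_land, dg_MZ _ (by omega), if_pos (by omega), show (65535 : ℕ) = 2 ^ 16 - 1 by norm_num,
      Nat.and_two_pow_sub_one_eq_mod, Nat.mod_eq_of_lt (dg_lt _ _ _)]
  rw [← h1, hz]
  have : dg 16 0 (7 * (i : ℕ) + j) = 0 := by
    rw [dg_def]
    simp
  rw [this, Nat.cast_zero]

/-- If `g` preserves `⟨e_0,e_1⟩` and `u` fixes it pointwise and `(g u)² = 1`, then `g²` fixes it pointwise. -/
theorem sq_col {g u : GL75} (hg : ∀ i j : Fin 7, 2 ≤ (i : ℕ) → (j : ℕ) < 2 →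
      (g : Matrix (Fin 7) (Fin 7) (ZMod 5)) i j = 0)
    (hu : ∀ i j : Fin 7, (j : ℕ) < 2 →
      (u : Matrix (Fin 7) (Fin 7) (ZMod 5)) i j = ((1 : GL75) : Matrix (Fin 7) (Fin 7) (ZMod 5)) i j)
    (h : (g * u) ^ 2 = 1) (i j : Fin 7) (hj : (j : ℕ) < 2) :
    ((g * g : GL75) : Matrix (Fin 7) (Fin 7) (ZMod 5)) i j = ((1 : GL75) : Matrix (Fin 7) (Fin 7) (ZMod 5)) i j := by
  have hcol : ∀ (x : GL75) (i j : Fin 7), (j : ℕ) < 2 →
      ((x * u : GL75) : Matrix (Fin 7) (Fin 7) (ZMod 5)) i j = (x : Matrix (Fin 7) (Fin 7) (ZMod 5)) i j := by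
    intro x i j hj
    rw [Units.val_mul, Matrix.mul_apply]
    have h2 : ∀ k, (u : Matrix (Fin 7) (Fin 7) (ZMod 5)) k j = (1 : Matrix (Fin 7) (Fin 7) (ZMod 5)) k j := by
      intro k
      rw [hu k j hj, Units.val_one]
    simp only [h2]
    rw [← Matrix.mul_apply, Matrix.mul_one]
  rw [← h, pow_two, ← mul_assoc (g * u) g u, hcol _ i j hj, Units.val_mul, Units.val_mul, Matrix.mul_apply,
    Matrix.mul_apply]
  apply sum_congr rfl
  intro k _
  by_cases hk : (k : ℕ) < 2
  · rw [hcol g i k hk]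
  · rw [hg k j (by omega) hj, mul_zero, mul_zero]

/-- The pairs have block form. -/
noncomputable def blockK (T ST N : ℕ) : Bool :=
  allN (fun n => Nat.beq (Nat.land (pairK T ST n) MZ) 0) N

/-- Number of involutions (and one). -/
noncomputable def invCntM (T SF SQ N M : ℕ) : ℕ :=
  sumBelow (fun n => force (pairK T SF n) fun X =>
    bif Nat.beq (Nat.land (mulF X X) MC) (Nat.land oneN MC) then
      cntN (fun m => force (mulF X (pairK T SQ m)) sqOne) (Nat.succ M) else 0) (Nat.succ N)

theorem invol_le_ofM {S : Subgroup GL75} {T nT SF SQ N M c : ℕ} (hT : ∀ i < nT, In S (tab T i))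
    (hF : sortedM T nT SF N = true) (hQ : sorted T nT SQ M = true) (h1 : fixK T SQ (Nat.succ M) = true)
    (hb : blockK T SF (Nat.succ N) = true) (hcard : Nat.card S = (N + 1) * (M + 1))
    (hc : Nat.ble (invCntM T SF SQ N M) (Nat.succ c) = true) :
    Nat.card {k : GL75 // k ∈ S ∧ k ^ 2 = 1 ∧ k ≠ 1} ≤ c := by
  classical
  obtain ⟨hQ1, hQ2⟩ := sorted_spec' hQ
  unfold sortedM at hF
  rw [Bool.cond_false_right, Bool.and_eq_true] at hF
  obtain ⟨hF1, hF2⟩ := hF
  have hF3 := allN_spec hF1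
  simp only [Bool.cond_false_right, Bool.and_eq_true] at hF3
  have hfix := allN_spec h1
  have hblk := allN_spec hb
  have hf : ∀ n ≤ N, In S (pairK T SF n) := by
    intro n hn
    rcases Nat.lt_or_eq_of_le hn with h5 | rfl
    · exact pairK_in hT (hF3 n h5).1
    · exact pairK_in hT hF2
  have hflt : ∀ n < N, pairK T SF n &&& MC < pairK T SF (n + 1) &&& MC := fun n hn => blt_lt (hF3 n hn).2
  have hq : ∀ n ≤ M, In S (pairK T SQ n) := fun n hn => pairK_in hT (hQ1 n hn)
  have hq1 : ∀ n ≤ M, pairK T SQ n &&& MC = oneN &&& MC :=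
    fun n hn => Nat.eq_of_beq_eq_true (hfix n (Nat.lt_succ_of_le hn))
  have hz : ∀ n ≤ N, pairK T SF n &&& MZ = 0 :=
    fun n hn => Nat.eq_of_beq_eq_true (hblk n (Nat.lt_succ_of_le hn))
  set f := pairK T SF with hfdef
  set q := pairK T SQ with hqdef
  have hmf := strictMono_of (f := fun n => f n &&& MC) hflt
  have hmq := strictMono_of hQ2
  choose g hg hgr using fun n : Fin (N + 1) => hf n (Nat.lt_succ_iff.mp n.2)
  choose u hu hur using fun n : Fin (M + 1) => hq n (Nat.lt_succ_iff.mp n.2)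
  have hucol : ∀ m, ∀ i j : Fin 7, (j : ℕ) < 2 →
      (u m : Matrix (Fin 7) (Fin 7) (ZMod 5)) i j = ((1 : GL75) : Matrix (Fin 7) (Fin 7) (ZMod 5)) i j :=
    fun m => (mask_eq_iff (hur m) rep_one).mp (hq1 m (Nat.lt_succ_iff.mp m.2))
  have hcol : ∀ n m, ∀ i j : Fin 7, (j : ℕ) < 2 →
      ((g n * u m : GL75) : Matrix (Fin 7) (Fin 7) (ZMod 5)) i j = (g n : Matrix (Fin 7) (Fin 7) (ZMod 5)) i j := by
    intro n m i j hj
    rw [Units.val_mul, Matrix.mul_apply]
    have h2 : ∀ k, (u m : Matrix (Fin 7) (Fin 7) (ZMod 5)) k j = (1 : Matrix (Fin 7) (Fin 7) (ZMod 5)) k j := by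
      intro k
      rw [hucol m k j hj, Units.val_one]
    simp only [h2]
    rw [← Matrix.mul_apply, Matrix.mul_one]
  have hinj : Function.Injective (fun p : Fin (N + 1) × Fin (M + 1) => (⟨g p.1 * u p.2, S.mul_mem (hg _) (hu _)⟩ : S)) := by
    rintro ⟨n, m⟩ ⟨n', m'⟩ h
    have h1 : g n * u m = g n' * u m' := congrArg Subtype.val h
    have h2 : f n &&& MC = f n' &&& MC := by
      rw [mask_eq_iff (hgr n) (hgr n')]
      intro i j hj
      rw [← hcol n m i j hj, ← hcol n' m' i j hj, h1]
    have h3 : n = n' := by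
      rcases Nat.lt_trichotomy n n' with h3 | h3 | h3
      · have := hmf n n' h3 (by omega); omega
      · exact Fin.ext h3
      · have := hmf n' n h3 (by omega); omega
    subst h3
    have h4 : u m = u m' := mul_left_cancel h1
    have h5 : q m = q m' := by
      have h6 := hur m'
      rw [← h4] at h6
      exact (hur m).code h6
    have h6 : m = m' := by
      rcases Nat.lt_trichotomy m m' with h3 | h3 | h3
      · have := hmq m m' h3 (by omega); omega
      · exact Fin.ext h3
      · have := hmq m' m h3 (by omega); omega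
    rw [h6]
  refine card_invol_le S _ hinj (by rw [hcard, Fintype.card_prod, Fintype.card_fin, Fintype.card_fin])
    (fun p => Nat.beq (Nat.land (mulF (f p.1) (f p.1)) MC) (Nat.land oneN MC) = true ∧
      sqOne (mulF (f p.1) (q p.2)) = true) ?_ c ?_
  · rintro ⟨n, m⟩ hp
    constructor
    · have h2 := sq_col (g := g n) (u := u m)
        (block_zero (hgr n) (hz n (Nat.lt_succ_iff.mp n.2))) (hucol m) hp
      have h3 : Nat.land (mulF (f n) (f n)) MC = Nat.land oneN MC :=
        (mask_eq_iff ((hgr n).mul (hgr n)) rep_one).mpr h2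
      change Nat.beq (Nat.land (mulF (f n) (f n)) MC) (Nat.land oneN MC) = true
      rw [h3]
      exact Nat.beq_refl _
    · exact sqOne_of ((hgr n).mul (hur m)) hp
  · have h3 := Nat.le_of_ble_eq_true hc
    refine le_trans ?_ h3
    rw [invCntM, sumBelow_eq, Finset.card_filter, Fintype.sum_prod_type, Finset.sum_range]
    apply Finset.sum_le_sum
    intro n _
    rw [force_eq]
    change _ ≤ bif Nat.beq (Nat.land (mulF (f n) (f n)) MC) (Nat.land oneN MC) then
      cntN (fun m => force (mulF (f n) (q m)) sqOne) (Nat.succ M) else 0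
    cases hbn : Nat.beq (Nat.land (mulF (f n) (f n)) MC) (Nat.land oneN MC) with
    | false =>
      rw [cond_false]
      refine le_of_eq (Finset.sum_eq_zero fun m _ => if_neg ?_)
      rintro ⟨h, -⟩
      exact Bool.noConfusion (hbn.symm.trans h)
    | true =>
      rw [cond_true, cntN_eq, Finset.card_filter, Finset.sum_range]
      apply Finset.sum_le_sum
      intro m _
      by_cases h : sqOne (mulF (f n) (q m)) = true
      · rw [if_pos ⟨hbn, h⟩, if_pos]
        exact h
      · rw [if_neg (fun h' => h h'.2)]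
        exact Nat.zero_le _

/-! ### Kernel checks -/

theorem ic2 : Nat.ble (invCnt T2 SO2 6047) (Nat.succ 63) = true := by decide +kernel
theorem ic3 : Nat.ble (invCnt T3 SO3 2879) (Nat.succ 211) = true := by decide +kernel
theorem ic4 : Nat.ble (invCnt T4 SO4 1007) (Nat.succ 105) = true := by decide +kernel
theorem bl1 : blockK T1 SA 96 = true := by decide +kernel
theorem ic1 : Nat.ble (invCntM T1 SA SO1 95 3124) (Nat.succ 1375) = true := by decide +kernel

theorem card_invol_one (h : Nat.card (Hsub 1) = 300000) :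
    Nat.card {k : GL75 // k ∈ Hsub 1 ∧ k ^ 2 = 1 ∧ k ≠ 1} ≤ 1375 :=
  invol_le_ofM in1 sa1 so1 fx1 bl1 h ic1

theorem card_invol_two (h : Nat.card (Hsub 2) = 6048) :
    Nat.card {k : GL75 // k ∈ Hsub 2 ∧ k ^ 2 = 1 ∧ k ≠ 1} ≤ 63 :=
  invol_le_of in2 so2 h ic2

theorem card_invol_three (h : Nat.card (Hsub 3) = 2880) :
    Nat.card {k : GL75 // k ∈ Hsub 3 ∧ k ^ 2 = 1 ∧ k ≠ 1} ≤ 211 :=
  invol_le_of in3 so3 h ic3

theorem card_invol_four (h : Nat.card (Hsub 4) = 1008) :
    Nat.card {k : GL75 // k ∈ Hsub 4 ∧ k ^ 2 = 1 ∧ k ≠ 1} ≤ 105 :=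
  invol_le_of in4 so4 h ic4

/-- **Numbers of involutions of `H_1, ..., H_4`.** -/
theorem card_invol (i : Fin 5) (hi : i ≠ 0) (h : Nat.card (Hsub i) = Cent.nn i) :
    Nat.card {k : GL75 // k ∈ Hsub i ∧ k ^ 2 = 1 ∧ k ≠ 1} ≤ Cent.inv i := by
  fin_cases i
  · exact absurd rfl hi
  · exact card_invol_one h
  · exact card_invol_two h
  · exact card_invol_three h
  · exact card_invol_four h

/-- Transported version of `card_invol`. -/
theorem card_invol_of {A : Type*} [Group A] (f : A →* GL75) (hf : Function.Injective f) (i : Fin 5) (hi : i ≠ 0)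
    (K : Subgroup A) (hK : K.map f = Hsub i) (h : Nat.card K = Cent.nn i) :
    Nat.card {k : A // k ∈ K ∧ k ^ 2 = 1 ∧ k ≠ 1} ≤ Cent.inv i := by
  have h1 : Nat.card (Hsub i) = Cent.nn i := by
    rw [← hK, ← h]
    exact (Nat.card_congr (K.equivMapOfInjective f hf).toEquiv).symm
  refine le_trans ?_ (card_invol i hi h1)
  refine Nat.card_le_card_of_injective (fun k : {k : A // k ∈ K ∧ k ^ 2 = 1 ∧ k ≠ 1} =>
    (⟨f k.1, by rw [← hK]; exact ⟨k.1, k.2.1, rfl⟩, by rw [← map_pow, k.2.2.1, map_one],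
      fun h0 => k.2.2.2 (hf (by rw [h0, map_one]))⟩ : {k : GL75 // k ∈ Hsub i ∧ k ^ 2 = 1 ∧ k ≠ 1})) ?_
  intro x y hxy
  exact Subtype.ext (hf (congrArg Subtype.val hxy))

end Cfsg.Agent.Ly.Invol
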