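import Cfsg.Agent.Ly.Pres

/-!
# The normal closure of `c` in the presented Lyons group is the whole group
-/

set_option autoImplicit false

namespace Cfsg.Agent.Ly.Collapse

open Cfsg.Spor Cfsg.Agent.Ly.Pres

/-- A homomorphism from the presented Lyons group which kills `c` is trivial. -/
theorem hom_trivial {Q : Type*} [Group Q] (f : Cfsg.Spor.Ly →* Q)
    (hc : f (PresentedGroup.of Ly.Gen.c) = 1) : ∀ g, f g = 1 := by
  let F : FreeGroup Ly.Gen →* Q := f.comp pm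
  have hF : ∀ r ∈ Ly.extra, F r = 1 := fun r hr => by
    show f (pm r) = 1
    rw [pm_eq_one hr, map_one]
  have hc0 : F Ly.c = 1 := hc
  have h1 : F (Ly.a ^ 8) = 1 := hF _ (List.getElem_mem (l := Ly.extra) (n := 0) (by decide))
  have h2 : F (Ly.b ^ 5) = 1 := hF _ (List.getElem_mem (l := Ly.extra) (n := 1) (by decide))
  have h6 : F (Ly.c1 * (Ly.c⁻¹)) = 1 := hF _ (List.getElem_mem (l := Ly.extra) (n := 5) (by decide))
  have h7 : F (Ly.c2 * ((Ly.a⁻¹ * Ly.c * Ly.a)⁻¹)) = 1 :=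
    hF _ (List.getElem_mem (l := Ly.extra) (n := 6) (by decide))
  have h8 : F (Ly.c3 * ((Ly.b⁻¹ * Ly.c * Ly.b)⁻¹)) = 1 :=
    hF _ (List.getElem_mem (l := Ly.extra) (n := 7) (by decide))
  have h9 : F (Ly.c4 * (((Ly.b⁻¹)⁻¹ * Ly.c * (Ly.b⁻¹))⁻¹)) = 1 :=
    hF _ (List.getElem_mem (l := Ly.extra) (n := 8) (by decide))
  have h10 : F (Ly.c5 * ((Ly.c1⁻¹ * Ly.c2⁻¹ * Ly.c1 * Ly.c2)⁻¹)) = 1 :=
    hF _ (List.getElem_mem (l := Ly.extra) (n := 9) (by decide))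
  have h29 : F (Ly.e * ((((Ly.b ^ 2)⁻¹) * (Ly.a⁻¹ * Ly.c1⁻¹ * Ly.a * Ly.c1) * (Ly.a⁻¹) * Ly.c1 * Ly.a * Ly.d * Ly.c1 *
      Ly.b * Ly.a * (Ly.b⁻¹) * Ly.d * Ly.c1 * Ly.d)⁻¹)) = 1 :=
    hF _ (List.getElem_mem (l := Ly.extra) (n := 28) (by decide))
  have h30 : F (Ly.e ^ 2) = 1 := hF _ (List.getElem_mem (l := Ly.extra) (n := 29) (by decide))
  have h31 : F ((Ly.e⁻¹ * Ly.c1 * Ly.e) * ((Ly.b * Ly.c3 * Ly.b * (Ly.c1⁻¹))⁻¹)) = 1 :=
    hF _ (List.getElem_mem (l := Ly.extra) (n := 30) (by decide))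
  have h38 : F (Ly.e * Ly.c2 * Ly.e * (Ly.c2⁻¹) * Ly.e * Ly.c2 * (Ly.c4⁻¹) * Ly.a * Ly.c3 * (Ly.a ^ 3)) = 1 :=
    hF _ (List.getElem_mem (l := Ly.extra) (n := 37) (by decide))
  have h43 : F ((Ly.d * Ly.c5) ^ 5) = 1 := hF _ (List.getElem_mem (l := Ly.extra) (n := 42) (by decide))
  have h44 : F (Ly.d * Ly.c5 * Ly.d * (Ly.c5⁻¹) * Ly.d * Ly.c5 * ((Ly.a ^ 2)⁻¹)) = 1 :=
    hF _ (List.getElem_mem (l := Ly.extra) (n := 43) (by decide))
  have h48 : F (Ly.a4 * (((Ly.b ^ 2)⁻¹ * Ly.a * (Ly.b ^ 2))⁻¹)) = 1 :=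
    hF _ (List.getElem_mem (l := Ly.extra) (n := 47) (by decide))
  have h49 : F (Ly.u * ((Ly.a ^ 2)⁻¹)) = 1 :=
    hF _ (List.getElem_mem (l := Ly.extra) (n := 48) (by decide))
  have h81 : F ((Ly.z ^ 2) * (Ly.u⁻¹)) = 1 :=
    hF _ (List.getElem_mem (l := Ly.extra) (n := 80) (by decide))
  have h82 : F (((Ly.a4 * Ly.z) ^ 3) * Ly.u) = 1 :=
    hF _ (List.getElem_mem (l := Ly.extra) (n := 81) (by decide))
  simp only [map_mul, map_inv, map_pow, hc0] at h1 h2 h6 h7 h8 h9 h10 h29 h30 h31 h38 h43 h44 h48 h49 h81 h82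
  obtain ⟨a, ha⟩ : ∃ a, a = F Ly.a := ⟨_, rfl⟩
  obtain ⟨b, hb⟩ : ∃ a, a = F Ly.b := ⟨_, rfl⟩
  obtain ⟨d, hd⟩ : ∃ a, a = F Ly.d := ⟨_, rfl⟩
  obtain ⟨z, hz⟩ : ∃ a, a = F Ly.z := ⟨_, rfl⟩
  obtain ⟨e, he⟩ : ∃ a, a = F Ly.e := ⟨_, rfl⟩
  obtain ⟨u, hu⟩ : ∃ a, a = F Ly.u := ⟨_, rfl⟩
  obtain ⟨a4, ha4⟩ : ∃ a, a = F Ly.a4 := ⟨_, rfl⟩
  have e1 : F Ly.c1 = 1 := by simpa using h6
  have e2 : F Ly.c2 = 1 := by simpa using h7
  have e3 : F Ly.c3 = 1 := by simpa using h8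
  have e4 : F Ly.c4 = 1 := by simpa using h9
  rw [e1, e2] at h10
  have e5 : F Ly.c5 = 1 := by simpa using h10
  rw [e1, e3, ← he, ← hb] at h31
  rw [← hb] at h2
  have hb1 : b = 1 := by
    have h : b * b = 1 := by
      have h' := h31
      simp only [mul_one, inv_one, inv_mul_cancel, one_mul] at h'
      exact inv_eq_one.mp h'
    have h5 : b ^ 5 = b := by
      calc b ^ 5 = (b * b) * (b * b) * b := by simp only [pow_succ, pow_zero, one_mul, mul_assoc]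
        _ = b := by rw [h]; simp
    rw [← h5, h2]
  rw [e5, ← hd, ← ha] at h44
  rw [e5, ← hd] at h43
  rw [← ha] at h1
  simp only [mul_one, inv_one] at h43 h44
  have hd3 : d * d * d = a ^ 2 := mul_inv_eq_one.mp h44
  have hd1 : d = 1 := by
    have h12 : (d * d * d) ^ 4 = 1 := by rw [hd3, ← pow_mul, h1]
    have h10' : (d ^ 5) * (d ^ 5) = 1 := by rw [h43, one_mul]
    have h2' : d ^ 12 = 1 := by
      rw [← h12]; simp only [pow_succ, pow_zero, one_mul, mul_assoc]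
    calc d = d ^ 25 * (d ^ 24)⁻¹ := by rw [← pow_sub d (by norm_num : 24 ≤ 25)]; simp
      _ = (d ^ 5) ^ 5 * ((d ^ 12) ^ 2)⁻¹ := by rw [← pow_mul, ← pow_mul]
      _ = 1 := by rw [h43, h2']; simp
  have ha2 : a ^ 2 = 1 := by rw [← hd3, hd1]; simp
  rw [e2, e3, e4, ← he, ← ha] at h38
  rw [← he] at h30
  have he1 : e = 1 := by
    simp only [mul_one, inv_one] at h38
    have h4 : a * a ^ 3 = 1 := by
      calc a * a ^ 3 = a ^ 2 * a ^ 2 := by simp only [pow_succ, pow_zero, one_mul, mul_assoc]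
        _ = 1 := by rw [ha2, one_mul]
    have h5 : e * e * e * (a * a ^ 3) = 1 := by rw [← mul_assoc]; exact h38
    rw [h4, mul_one] at h5
    have h6 : e * e = 1 := by rw [← pow_two]; exact h30
    rw [h6, one_mul] at h5
    exact h5
  rw [e1, ← he, ← hb, ← ha, ← hd, he1, hb1, hd1] at h29
  have ha1 : a = 1 := by
    have h := h29
    simp only [mul_one, one_mul, inv_one, one_pow, inv_mul_cancel] at h
    simpa using h
  rw [← ha4, ← hb, ← ha, hb1, ha1] at h48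
  have ha41 : a4 = 1 := by simpa using h48
  rw [← hu, ← ha, ha1] at h49
  have hu1 : u = 1 := by simpa using h49
  rw [← hz, ← hu, hu1] at h81
  rw [← hz, ← hu, ← ha4, hu1, ha41] at h82
  simp only [inv_one, mul_one, one_mul] at h81 h82
  have hz1 : z = 1 := by
    calc z = z ^ 3 * (z ^ 2)⁻¹ := by rw [← pow_sub z (by norm_num : 2 ≤ 3)]; simp
      _ = 1 := by rw [h82, h81]; simp
  -- the generators are killed
  have hgens : ∀ i, f (gens i) = 1 := by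
    intro i
    fin_cases i
    · exact (ha.symm.trans ha1 : F Ly.a = 1)
    · exact (hb.symm.trans hb1 : F Ly.b = 1)
    · exact hc
    · exact (hd.symm.trans hd1 : F Ly.d = 1)
    · exact (hz.symm.trans hz1 : F Ly.z = 1)
  have hker : f.ker = ⊤ := by
    rw [eq_top_iff, ← closure_gens, Subgroup.closure_le]
    rintro _ ⟨i, rfl⟩
    exact hgens i
  intro g
  have : g ∈ f.ker := by rw [hker]; exact Subgroup.mem_top g
  exact this

/-- The normal closure of `c` is everything. -/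
theorem normalClosure_c : Subgroup.normalClosure {gens 2} = (⊤ : Subgroup Cfsg.Spor.Ly) := by
  rw [eq_top_iff]
  intro g _
  have h := hom_trivial (QuotientGroup.mk' (Subgroup.normalClosure {gens 2}))
    ((QuotientGroup.eq_one_iff _).mpr (Subgroup.subset_normalClosure (Set.mem_singleton _))) g
  exact (QuotientGroup.eq_one_iff g).mp h

/-- The presented Lyons group is perfect. -/
theorem commutator_eq_top : commutator Cfsg.Spor.Ly = ⊤ := by
  have hc : Abelianization.of (gens 2) = (1 : Abelianization Cfsg.Spor.Ly) := by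
    let F : FreeGroup Ly.Gen →* Abelianization Cfsg.Spor.Ly := Abelianization.of.comp pm
    have hF : ∀ r ∈ Ly.extra, F r = 1 := fun r hr => by
      show Abelianization.of (pm r) = 1
      rw [pm_eq_one hr, map_one]
    have h6 : F (Ly.c1 * (Ly.c⁻¹)) = 1 := hF _ (List.getElem_mem (l := Ly.extra) (n := 5) (by decide))
    have h7 : F (Ly.c2 * ((Ly.a⁻¹ * Ly.c * Ly.a)⁻¹)) = 1 :=
      hF _ (List.getElem_mem (l := Ly.extra) (n := 6) (by decide))
    have h11 : F (Ly.c1 ^ 5) = 1 := hF _ (List.getElem_mem (l := Ly.extra) (n := 10) (by decide))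
    have h22 : F ((Ly.a⁻¹ * Ly.c2 * Ly.a) * (((Ly.c1 ^ 2)⁻¹)⁻¹)) = 1 :=
      hF _ (List.getElem_mem (l := Ly.extra) (n := 21) (by decide))
    simp only [map_mul, map_inv, map_pow] at h6 h7 h11 h22
    obtain ⟨a, ha⟩ : ∃ a, a = F Ly.a := ⟨_, rfl⟩
    obtain ⟨c, hc⟩ : ∃ a, a = F Ly.c := ⟨_, rfl⟩
    rw [← hc] at h6 h7
    rw [← ha] at h7 h22
    have e1 : F Ly.c1 = c := mul_inv_eq_one.mp h6
    have e2 : F Ly.c2 = c := by
      have h := mul_inv_eq_one.mp h7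
      rw [h, mul_comm a⁻¹ c, mul_assoc, inv_mul_cancel, mul_one]
    rw [e1] at h11
    rw [e1, e2, mul_comm a⁻¹ c, mul_assoc c, inv_mul_cancel, mul_one, inv_inv] at h22
    have h3 : c ^ 3 = 1 := by rw [pow_succ', h22]
    have : c = 1 := by
      calc c = (c ^ 3) ^ 2 * (c ^ 5)⁻¹ := by
            rw [← pow_mul, ← pow_sub c (by norm_num : 5 ≤ 3 * 2)]; simp
        _ = 1 := by rw [h3, h11]; simp
    exact hc.symm.trans this
  have h2 : gens 2 ∈ commutator Cfsg.Spor.Ly := (QuotientGroup.eq_one_iff _).mp hc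
  rw [eq_top_iff, ← normalClosure_c]
  exact Subgroup.normalClosure_le_normal (Set.singleton_subset_iff.mpr h2)

end Cfsg.Agent.Ly.Collapse
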