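import Cfsg.Agent.Ly.Rep111
import Cfsg.Agent.Ly.Collapse
import Cfsg.Agent.Ly.SimpleData
import Cfsg.Agent.Lib.SimpleByPrimeNC

/-!
# Simplicity of the presented Lyons group from its order and the faithfulness of the 111-dimensional representation
-/

set_option autoImplicit false

namespace Cfsg.Agent.Ly.Simple

open Cfsg.Agent.Lib.PackMat Cfsg.Agent.Lib.PackCenter Cfsg.Agent.Ly.Data111 Cfsg.Agent.Ly.Pres
  Cfsg.Agent.Ly.Rep111 Cfsg.Agent.Ly.Collapse

/-- the letters of the word c a d z c -/
def wl : List (Fin 5 × Bool) := [(2, true), (0, true), (3, true), (4, true), (2, true)]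

/-- the element c a d z c of the presented group -/
def w : Cfsg.Spor.Ly := FreeGroup.lift gens (FreeGroup.mk wl)

theorem rho_w : (rho w).val = mat C SimpleData.GW := by
  rw [w, rho_lift, coe_word]
  have h := prod_eq_of_check good (by decide) (ok_map wl) (by
    intro g hg
    rw [List.mem_singleton] at hg
    rw [hg]
    exact SimpleData.okW) SimpleData.W_eq
  have h2 : (([SimpleData.GW] : List ℕ).map (mat C)).prod = mat C SimpleData.GW := by simp
  exact h.trans h2

theorem rho_val (i : Fin 5) : (rho (gens i)).val = mat C (code (i, true)) := by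
  rw [rho_gens]; rfl

theorem rho_c : (rho (gens 2)).val = mat C Gc := rho_val 2

theorem pow_w (hinj : Function.Injective rho) : w ^ 37 = 1 := by
  apply hinj
  apply Units.ext
  rw [map_pow, map_one, Units.val_pow_eq_pow_val, rho_w, Units.val_one]
  have h := prod_one_of_check good (w := List.replicate 37 SimpleData.GW) (by decide) (by
    intro g hg
    rw [List.eq_of_mem_replicate hg]
    exact SimpleData.okW) SimpleData.W_pow
  rw [List.map_replicate, List.prod_replicate] at h
  exact h

theorem prod_flatten_replicate {M : Type*} [Monoid M] (k : ℕ) (l : List M) :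
    ((List.replicate k l).flatten).prod = l.prod ^ k := by
  induction k with
  | zero => simp
  | succ k ih => rw [List.replicate_succ, List.flatten_cons, List.prod_append, ih, pow_succ']

theorem pow_wc (hinj : Function.Injective rho) : (w * gens 2) ^ 37 = 1 := by
  apply hinj
  apply Units.ext
  rw [map_pow, map_one, Units.val_pow_eq_pow_val, map_mul, Units.val_mul, rho_w, rho_c, Units.val_one]
  have h := prod_one_of_check good (w := (List.replicate 37 [SimpleData.GW, Gc]).flatten) (by decide) (by
    intro g hg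
    rw [List.mem_flatten] at hg
    obtain ⟨l, hl, hg⟩ := hg
    rw [List.eq_of_mem_replicate hl] at hg
    simp only [List.mem_cons, List.not_mem_nil, or_false] at hg
    rcases hg with rfl | rfl
    · exact SimpleData.okW
    · exact ok (2, true)) SimpleData.Wc_pow
  rw [List.map_flatten, List.map_replicate, prod_flatten_replicate] at h
  have h2 : ((([SimpleData.GW, Gc] : List ℕ).map (mat C)).prod) = mat C SimpleData.GW * mat C Gc := by simp
  rw [h2] at h
  exact h

theorem c_pow : (gens 2 : Cfsg.Spor.Ly) ^ 5 = 1 := by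
  have h := rel_hold rel11 (by simp [relWords])
  rw [FreeGroup.lift_mk] at h
  simpa [rel11, pow_succ, mul_assoc] using h

theorem c_ne_one (hcard : Nat.card Cfsg.Spor.Ly = 51765179004000000) : (gens 2 : Cfsg.Spor.Ly) ≠ 1 := by
  intro h
  have h1 : Subgroup.normalClosure {(gens 2 : Cfsg.Spor.Ly)} = ⊥ := by
    rw [h, Subgroup.normalClosure_eq_bot_iff]
  rw [normalClosure_c] at h1
  have h2 : Nat.card (⊤ : Subgroup Cfsg.Spor.Ly) = Nat.card (⊥ : Subgroup Cfsg.Spor.Ly) := by rw [h1]
  rw [Subgroup.card_top, Subgroup.card_bot, hcard] at h2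
  norm_num at h2

theorem c_not_pow37 (hcard : Nat.card Cfsg.Spor.Ly = 51765179004000000) :
    (gens 2 : Cfsg.Spor.Ly) ^ 37 ≠ 1 := by
  intro h
  apply c_ne_one hcard
  calc (gens 2 : Cfsg.Spor.Ly) = (gens 2 ^ 5) ^ 15 * (gens 2 ^ 37)⁻¹ * (gens 2 ^ 37)⁻¹ := by
        rw [← pow_mul, mul_assoc, ← mul_inv_rev, ← pow_add, ← pow_sub _ (by norm_num : 37 + 37 ≤ 5 * 15)]
        simp
    _ = 1 := by rw [h, c_pow]; simp

theorem order_w (hcard : Nat.card Cfsg.Spor.Ly = 51765179004000000)
    (hinj : Function.Injective rho) : orderOf w = 37 := by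
  have : Fact (Nat.Prime 37) := ⟨by norm_num⟩
  apply orderOf_eq_prime (pow_w hinj)
  intro h
  apply c_not_pow37 hcard
  have h1 := pow_wc hinj
  rwa [h, one_mul] at h1

theorem order_wc (hcard : Nat.card Cfsg.Spor.Ly = 51765179004000000)
    (hinj : Function.Injective rho) : orderOf (w * gens 2) = 37 := by
  have : Fact (Nat.Prime 37) := ⟨by norm_num⟩
  apply orderOf_eq_prime (pow_wc hinj)
  intro h
  apply c_not_pow37 hcard
  have h1 : w = (gens 2)⁻¹ := eq_inv_of_mul_eq_one_left h
  have h2 := pow_w hinj
  rw [h1, inv_pow] at h2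
  exact inv_eq_one.mp h2

theorem center_eq_bot (hinj : Function.Injective rho) : Subgroup.center Cfsg.Spor.Ly = ⊥ := by
  have : Fact (Nat.Prime 5) := ⟨by norm_num⟩
  have : Fact (C.p.Prime) := ⟨by show Nat.Prime 5; norm_num⟩
  apply center_eq_bot_of_perfect (n := 111) (p := 5) rho hinj commutator_eq_top (by norm_num) (by norm_num)
  intro z hz
  refine exists_scalar (C := C) good rho (L := [Ga, Gb, Gc, Gd, Gz]) ?_ (w₀ := [Gd, Gz, Gc, Ga]) ?_
    (M₁ := SimpleData.M1) (B := SimpleData.B) (T := SimpleData.T) (V₀ := SimpleData.V0) (k := 0)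
    SimpleData.okM1 SimpleData.okB SimpleData.okT SimpleData.okV0 SimpleData.V0_ne (by decide)
    SimpleData.sub SimpleData.b1 SimpleData.b2 SimpleData.fix (st := SimpleData.st) SimpleData.span hz
  · intro A hA
    simp only [List.mem_cons, List.not_mem_nil, or_false] at hA
    rcases hA with rfl | rfl | rfl | rfl | rfl
    · exact ⟨ok (0, true), gens 0, rho_val 0⟩
    · exact ⟨ok (1, true), gens 1, rho_val 1⟩
    · exact ⟨ok (2, true), gens 2, rho_val 2⟩
    · exact ⟨ok (3, true), gens 3, rho_val 3⟩
    · exact ⟨ok (4, true), gens 4, rho_val 4⟩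
  · intro A hA
    simp only [List.mem_cons, List.not_mem_nil, or_false] at hA ⊢
    tauto

/-- The presented Lyons group is simple, given its order and the faithfulness of the representation. -/
theorem isSimpleGroup (hcard : Nat.card Cfsg.Spor.Ly = 51765179004000000)
    (hinj : Function.Injective rho) : IsSimpleGroup Cfsg.Spor.Ly := by
  refine Cfsg.Agent.Lib.SimpleByPrimeNC.isSimpleGroup_of_prime_list 37 (by norm_num)
    [(2, 8), (3, 7), (5, 6), (7, 1), (11, 1), (31, 1), (67, 1)] ?_ ?_ ?_ ?_
    (gens 2) normalClosure_c w (order_w hcard hinj) (order_wc hcard hinj) (center_eq_bot hinj)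
  · rw [hcard]; norm_num
  · intro q hq
    simp only [List.mem_cons, List.not_mem_nil, or_false] at hq
    rcases hq with rfl | rfl | rfl | rfl | rfl | rfl | rfl <;> norm_num
  · decide
  · decide +kernel

/-- S1702 from an upper bound for the order and the divisibility of the order of the image of `rho`. -/
theorem isLy_of_le [Finite Cfsg.Spor.Ly] (hle : Nat.card Cfsg.Spor.Ly ≤ 51765179004000000)
    (hdvd : 51765179004000000 ∣ Nat.card rho.range) :
    IsSimpleGroup Cfsg.Spor.Ly ∧ Nat.card Cfsg.Spor.Ly = 51765179004000000 := by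
  have h1 : Nat.card rho.range ≤ Nat.card Cfsg.Spor.Ly :=
    Nat.card_le_card_of_surjective rho.rangeRestrict rho.rangeRestrict_surjective
  have : Finite rho.range := Finite.of_surjective rho.rangeRestrict rho.rangeRestrict_surjective
  have h2 : 51765179004000000 ≤ Nat.card rho.range := Nat.le_of_dvd Nat.card_pos hdvd
  have h3 : Nat.card Cfsg.Spor.Ly = 51765179004000000 := le_antisymm hle (h2.trans h1)
  have h4 : Nat.card rho.range = Nat.card Cfsg.Spor.Ly := by omega
  have hinj : Function.Injective rho := by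
    have h5 : Function.Bijective rho.rangeRestrict :=
      (Nat.bijective_iff_surjective_and_card _).mpr ⟨rho.rangeRestrict_surjective, h4.symm⟩
    intro a b hab
    apply h5.1
    exact Subtype.ext hab
  exact ⟨isSimpleGroup h3 hinj, h3⟩

end Cfsg.Agent.Ly.Simple
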