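import Cfsg.Agent.Ly.Index
import Cfsg.Agent.Ly.CardDvd
import Cfsg.Agent.Ly.Simple
import Cfsg.Agent.Ly.Cent
import Cfsg.Agent.Ly.Invol
import Cfsg.Agent.Ly.Final

/-!
# The presented Lyons group: order, simplicity, the subgroup `G₂(5)` and its double cosets

Interface for S0454, S0477, S1702, S1709.
-/

set_option autoImplicit false

namespace Cfsg.Agent.Ly.Setup

open Cfsg.Agent.Ly.Mat7 Cfsg.Agent.Ly.Pres Cfsg.Agent.Ly.WalkCtx Cfsg.Agent.Ly.CoverCore Cfsg.Agent.Ly.Cover
  Cfsg.Agent.Ly.Upper Cfsg.Agent.Ly.Cent Cfsg.Agent.Ly.Exact Cfsg.Agent.Ly.Rep111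

instance finite_ly : Finite Cfsg.Spor.Ly := Index.card_ly_le.1

theorem isLy' : IsSimpleGroup Cfsg.Spor.Ly ∧ Nat.card Cfsg.Spor.Ly = 51765179004000000 := by
  refine Simple.isLy_of_le Index.card_ly_le.2 ?_
  refine CardDvd.dvd rho.range rho.range.subtype ?_
  intro i
  exact ⟨⟨rho (gens i), ⟨gens i, rfl⟩⟩, rho_gens i⟩

theorem isLy : Cfsg.IsLy Cfsg.Spor.Ly := isLy'

theorem card_ly : Nat.card Cfsg.Spor.Ly = 51765179004000000 := isLy'.2

instance isSimple_ly : IsSimpleGroup Cfsg.Spor.Ly := isLy'.1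

theorem rho_injective : Function.Injective rho := Final.rho_injective isLy'.1

/-- The homomorphism from the matrix group `G₂(5)`. -/
noncomputable def psi : Hhat →* Cfsg.Spor.Ly := Index.data.φ

theorem psi_gen (i : Fin 4) (h : gen i ∈ Hhat) : psi ⟨gen i, h⟩ = gens i.castSucc := Index.data.hφ i

theorem psi_ev (v : List ℕ) : psi (ev Data.hgen v) = ev (X4 gens) v := Index.data.φ_ev v

theorem range_psi : psi.range = HH gens := Index.data.range_φ

theorem card_Hhat : Nat.card Hhat = 5859000000 := T1.card_Hhat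

theorem card_HH : Nat.card (HH gens) = 5859000000 ∧ (HH gens).index = 8835156 := by
  have h1 := (HH gens).card_mul_index
  rw [card_ly] at h1
  have h2 := Index.index_ly_le
  have h3 := (Index.finite_HH Index.data).2
  have h4 : 51765179004000000 ≤ Nat.card (HH gens) * 8835156 := by
    rw [← h1]; exact Nat.mul_le_mul_left _ h2
  have h5 : Nat.card (HH gens) = 5859000000 := by omega
  refine ⟨h5, ?_⟩
  rw [h5] at h1
  omega

theorem card_range : Nat.card psi.range = 5859000000 := by rw [range_psi]; exact card_HH.1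

theorem index_range : psi.range.index = 8835156 := by rw [range_psi]; exact card_HH.2

theorem psi_injective : Function.Injective psi := by
  have h1 : Nat.card psi.range = Nat.card Hhat := by rw [card_range, card_Hhat]
  have h2 : Function.Bijective psi.rangeRestrict :=
    psi.rangeRestrict_surjective.bijective_of_nat_card_le (le_of_eq h1.symm)
  intro x y hxy
  exact h2.1 (Subtype.ext hxy)

/-- Double coset representatives. -/
def w (i : Fin 5) : Cfsg.Spor.Ly := (base gens (i : ℕ))⁻¹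

theorem w_zero : w 0 = 1 := inv_one

theorem cover (g : Cfsg.Spor.Ly) : ∃ i, ∃ h₁ ∈ psi.range, ∃ h₂ ∈ psi.range, g = h₁ * w i * h₂ := by
  obtain ⟨i, hi, h1, hh1, h2, hh2, hg⟩ := Index.data.double_cosets closure_gens g⁻¹
  rw [← range_psi] at hh1 hh2
  refine ⟨⟨i, hi⟩, h2⁻¹, psi.range.inv_mem hh2, h1⁻¹, psi.range.inv_mem hh1, ?_⟩
  show g = h2⁻¹ * (base gens i)⁻¹ * h1⁻¹
  rw [← inv_inv g, hg]
  group

/-- The stabilisers. -/
def Hs (i : Fin 5) : Subgroup Hhat := (Hsub (i : ℕ)).subgroupOf Hhat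

theorem Hs_zero : Hs 0 = ⊤ := by
  show (Hsub 0).subgroupOf Hhat = ⊤
  rw [Hsub_zero]
  exact Subgroup.subgroupOf_self Hhat

theorem map_le (i : Fin 5) :
    (Hs i).map psi ≤ psi.range ⊓ psi.range.map (MulAut.conj (w i)).toMonoidHom := by
  rintro _ ⟨s, hs, rfl⟩
  refine ⟨⟨s, rfl⟩, ?_⟩
  have h := Index.conj_S' Index.data i i.2 s hs
  rw [← range_psi] at h
  refine ⟨_, h, ?_⟩
  show w i * (base gens i * psi s * (base gens i)⁻¹) * (w i)⁻¹ = psi s
  unfold w
  group

theorem card_Hs_eq (i : Fin 5) : Nat.card (Hs i) = Nat.card (Hsub (i : ℕ)) := Index.card_S i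

theorem nn_le (i : Fin 5) : nn i ≤ Nat.card (Hs i) := by
  rw [card_Hs_eq]
  fin_cases i
  · show 5859000000 ≤ Nat.card (Hsub 0)
    rw [Hsub_zero, T1.card_Hhat]
  · exact card_Hsub_one
  · exact card_Hsub_two
  · exact card_Hsub_three
  · exact card_Hsub_four

theorem card_map (i : Fin 5) : Nat.card ((Hs i).map psi) = Nat.card (Hs i) :=
  (Nat.card_congr ((Hs i).equivMapOfInjective psi psi_injective).toEquiv).symm

theorem exact' (i : Fin 5) : (Hs i).map psi = psi.range ⊓ psi.range.map (MulAut.conj (w i)).toMonoidHom ∧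
    Nat.card ((Hs i).map psi) = nn i :=
  exact psi.range w cover (fun i => (Hs i).map psi) map_le dd nn
    (fun i => by rw [card_range]; exact dd_mul_nn i) (fun i => by rw [card_map]; exact nn_le i)
    (by rw [sum_dd, index_range]) i

theorem map_eq (i : Fin 5) :
    (Hs i).map psi = psi.range ⊓ psi.range.map (MulAut.conj (w i)).toMonoidHom := (exact' i).1

theorem card_Hs (i : Fin 5) : Nat.card (Hs i) = nn i := by rw [← card_map]; exact (exact' i).2

theorem card_Hsub (i : Fin 5) : Nat.card (Hsub (i : ℕ)) = nn i := by rw [← card_Hs_eq]; exact card_Hs i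

/-! ### The involution -/

/-- the involution `a ^ 4` of `G₂(5)` -/
def t : Hhat := Data.hgen 0 ^ 4

theorem psi_t : psi t = gens 0 ^ 4 := by
  unfold t
  rw [map_pow]
  congr 1
  exact psi_gen 0 _

theorem t_order : t ^ 2 = 1 ∧ t ≠ 1 := by
  have h := Final.tw_order isLy'.1
  constructor
  · apply psi_injective
    rw [map_pow, psi_t, map_one, ← h, pow_orderOf_eq_one]
  · intro h1
    rw [← psi_t, h1, map_one, orderOf_one] at h
    exact absurd h (by norm_num)

theorem invol_le (i : Fin 5) (hi : i ≠ 0) :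
    Nat.card {k : Hhat // k ∈ Hs i ∧ k ^ 2 = 1 ∧ k ≠ 1} ≤ Cent.inv i := by
  refine Invol.card_invol_of Hhat.subtype Subtype.val_injective i hi (Hs i) ?_ (card_Hs i)
  show ((Hsub (i : ℕ)).subgroupOf Hhat).map Hhat.subtype = Hsub i
  rw [Subgroup.subgroupOf_map_subtype]
  exact inf_eq_left.2 (Hsub_le_Hhat _)

/-- The centraliser bound, from the bound inside `G₂(5)`. -/
theorem card_centralizer_le (hc : Nat.card (Subgroup.centralizer ({t} : Set Hhat)) ≤ 14400) :
    Nat.card (Subgroup.centralizer ({gens 0 ^ 4} : Set Cfsg.Spor.Ly)) ≤ 39916800 := by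
  have h := Cent.card_centralizer_le psi psi_injective card_Hhat card_ly t t_order.1 t_order.2 w w_zero cover
    Hs (fun i _ => map_le i) (fun i _ => nn_le i) hc (fun i hi _ => invol_le i hi)
  rwa [psi_t] at h

end Cfsg.Agent.Ly.Setup
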