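import Cfsg.Agent.Ly.CoverData

/-!
# Double coset decompositions of `Ĥ = ⟨a,b,c,d⟩ ≤ GL_7(5)` for the Lyons group

`covering` : for `i < 5` every element of `Ĥ` is `k * ev gen w * s` with `k ∈ K₀ = H_1`, `w ∈ reps i`, `s ∈ H_i`.
`card_Hsub` : `|H_1| ≥ 300000`, `|H_2| ≥ 6048`, `|H_3| ≥ 2880`, `|H_4| ≥ 1008`.
-/

set_option autoImplicit false

namespace Cfsg.Agent.Ly.Cover

open Cfsg.Agent.Lib.PackMat Cfsg.Agent.Ly.Mat7 Cfsg.Agent.Ly.CoverCore Cfsg.Agent.Ly.CoverData

/-! ### Kernel checks -/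

theorem tab1 : tabChk T1 ([] :: Hgens 1) 235 ST1 = true := by decide +kernel
theorem tab2 : tabChk T2 ([] :: Hgens 2) 156 ST2 = true := by decide +kernel
theorem tab3 : tabChk T3 ([] :: Hgens 3) 117 ST3 = true := by decide +kernel
theorem tab4 : tabChk T4 ([] :: Hgens 4) 61 ST4 = true := by decide +kernel
theorem bt : baseK BT 0 [[], [1], [1, 1], [1, 1, 1], [1, 1, 1, 1]] = true := by decide +kernel
theorem rt : baseK RT 0 RW = true := by decide +kernel
theorem ct1 : certs T1 244 BT 5 RT 30 oneN 1 RT 30 TG 3 CT1 = true := by decide +kernel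
theorem ct4 : certs T1 244 BT 5 oneN 1 oneN 1 BT 5 TG 3 CT4 = true := by decide +kernel
theorem ht1 : baseK HT1 0 HW1 = true := by decide +kernel
theorem ht2 : baseK HT2 0 HW2 = true := by decide +kernel
theorem ht3 : baseK HT3 0 HW3 = true := by decide +kernel
theorem ht4 : baseK HT4 0 HW4 = true := by decide +kernel
theorem ot1 : baseK OT1 0 (reps 1) = true := by decide +kernel
theorem ot2 : baseK OT2 0 (reps 2) = true := by decide +kernel
theorem ot3 : baseK OT3 0 (reps 3) = true := by decide +kernel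
theorem ot4 : baseK OT4 0 (reps 4) = true := by decide +kernel
theorem ct2_1 : certs T1 244 BT 5 HT1 4 T1 244 RT 30 HT1 4 CT2_1 = true := by decide +kernel
theorem ct2_2 : certs T1 244 BT 5 HT2 5 T2 159 RT 30 HT2 5 CT2_2 = true := by decide +kernel
theorem ct2_3 : certs T1 244 BT 5 HT3 9 T3 120 RT 30 HT3 9 CT2_3 = true := by decide +kernel
theorem ct2_4 : certs T1 244 BT 5 HT4 10 T4 65 RT 30 HT4 10 CT2_4 = true := by decide +kernel
theorem ct3_1 : certs T1 244 oneN 1 OT1 6 T1 244 BT 5 HT1 4 CT3_1 = true := by decide +kernel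
theorem ct3_2 : certs T1 244 oneN 1 OT2 11 T2 159 BT 5 HT2 5 CT3_2 = true := by decide +kernel
theorem ct3_3 : certs T1 244 oneN 1 OT3 18 T3 120 BT 5 HT3 9 CT3_3 = true := by decide +kernel
theorem ct3_4 : certs T1 244 oneN 1 OT4 30 T4 65 BT 5 HT4 10 CT3_4 = true := by decide +kernel
theorem so1 : sorted T1 244 SO1 3124 = true := by decide +kernel
theorem so2 : sorted T2 159 SO2 6047 = true := by decide +kernel
theorem so3 : sorted T3 120 SO3 2879 = true := by decide +kernel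
theorem so4 : sorted T4 65 SO4 1007 = true := by decide +kernel
theorem fx1 : fixK T1 SO1 3125 = true := by decide +kernel
theorem sa1 : sortedM T1 244 SA 95 = true := by decide +kernel
theorem dw : eqW [3] (dW1 ++ sW ++ dW2 ++ sW ++ dW3 ++ sW ++ dW4) = true := by decide +kernel

/-! ### Subgroups -/

/-- The subgroup generated by the values of some words. -/
def subOf {G : Type*} [Group G] (x : Fin 4 → G) (L : List (List ℕ)) : Subgroup G :=
  Subgroup.closure {g | ∃ w ∈ L, ev x w = g}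

theorem ev_mem_subOf {G : Type*} [Group G] (x : Fin 4 → G) {L : List (List ℕ)} {w : List ℕ} (h : w ∈ L) :
    ev x w ∈ subOf x L := Subgroup.subset_closure ⟨w, h, rfl⟩

theorem map_subOf {G K : Type*} [Group G] [Group K] (f : G →* K) (x : Fin 4 → G) (L : List (List ℕ)) :
    (subOf x L).map f = subOf (fun i => f (x i)) L := by
  rw [subOf, subOf, MonoidHom.map_closure]
  congr 1
  ext g
  constructor
  · rintro ⟨_, ⟨w, hw, rfl⟩, rfl⟩
    exact ⟨w, hw, (map_ev f x w).symm⟩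
  · rintro ⟨w, hw, rfl⟩
    exact ⟨_, ⟨w, hw, rfl⟩, map_ev f x w⟩

/-- `G₂(5) = ⟨a,b,c,d⟩` in `GL_7(5)`. -/
def Hhat : Subgroup GL75 := Subgroup.closure (Set.range gen)

/-- The subgroups `H_i`; `H_1 = K₀`. -/
def Hsub (i : ℕ) : Subgroup GL75 := subOf gen (Hgens i)

theorem Hsub_def (i : ℕ) : Hsub i = subOf gen (Hgens i) := rfl

theorem ev_mem_Hhat (w : List ℕ) : ev gen w ∈ Hhat :=
  ev_mem gen Hhat (fun i => Subgroup.subset_closure ⟨i, rfl⟩) w

theorem subOf_le_Hhat (L : List (List ℕ)) : subOf gen L ≤ Hhat := by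
  rw [subOf, Subgroup.closure_le]
  rintro _ ⟨w, _, rfl⟩
  exact ev_mem_Hhat w

theorem Hsub_le_Hhat (i : ℕ) : Hsub i ≤ Hhat := subOf_le_Hhat _

theorem Hhat_eq : Hhat = Subgroup.closure {gen 0, gen 1, gen 2, gen 3} := by
  rw [Hhat]
  congr 1
  ext g
  constructor
  · rintro ⟨i, rfl⟩
    fin_cases i <;> simp
  · rintro (rfl | rfl | rfl | rfl)
    · exact ⟨0, rfl⟩
    · exact ⟨1, rfl⟩
    · exact ⟨2, rfl⟩
    · exact ⟨3, rfl⟩

theorem Hsub_zero : Hsub 0 = Hhat := by
  rw [Hhat_eq, Hsub, subOf]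
  congr 1
  ext g
  simp [Hgens, ev, letter, eq_comm]

theorem tabs_in {i T ns ST : ℕ} (h : tabChk T ([] :: Hgens i) ns ST = true) :
    ∀ n < ([] :: Hgens i).length + ns, In (Hsub i) (tab T n) := by
  apply tabChk_spec h
  intro w hw
  rcases List.mem_cons.mp hw with rfl | hw
  · exact Subgroup.one_mem _
  · exact ev_mem_subOf gen hw

theorem in1 : ∀ n < 244, In (Hsub 1) (tab T1 n) := tabs_in tab1
theorem in2 : ∀ n < 159, In (Hsub 2) (tab T2 n) := tabs_in tab2
theorem in3 : ∀ n < 120, In (Hsub 3) (tab T3 n) := tabs_in tab3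
theorem in4 : ∀ n < 65, In (Hsub 4) (tab T4 n) := tabs_in tab4

/-! ### Orders -/

theorem card_Hsub_one : 300000 ≤ Nat.card (Hsub 1) := sortedM_spec in1 sa1 so1 fx1
theorem card_Hsub_two : 6048 ≤ Nat.card (Hsub 2) := sorted_spec in2 so2
theorem card_Hsub_three : 2880 ≤ Nat.card (Hsub 3) := sorted_spec in3 so3
theorem card_Hsub_four : 1008 ≤ Nat.card (Hsub 4) := sorted_spec in4 so4

/-! ### The covering -/

/-- Powers of `b`. -/
def β (t : ℕ) : GL75 := ev gen ([[], [1], [1, 1], [1, 1, 1], [1, 1, 1, 1]].getD t [])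

theorem rep_getD {T n : ℕ} {L : List (List ℕ)} (h : baseK T 0 L = true) (hn : L.length = n) :
    ∀ t < n, Rep (tab T t) (ev gen (L.getD t [])) := by
  intro t ht
  have h1 := baseK_spec h t (by omega)
  rw [Nat.zero_add] at h1
  rwa [List.getD_eq_getElem _ _ (by omega)]

theorem rep_β : ∀ t < 5, Rep (tab BT t) (β t) := rep_getD bt rfl

theorem rep_R : ∀ j < 30, Rep (tab RT j) (ev gen (RW.getD j [])) := rep_getD rt rfl

theorem rep_one' : ∀ t < 1, Rep (tab oneN t) ((fun _ => 1 : ℕ → GL75) t) := by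
  intro t ht
  obtain rfl : t = 0 := by omega
  have : tab oneN 0 = oneN := by decide +kernel
  rw [this]
  exact rep_one

theorem in_one : ∀ t < 1, In (⊥ : Subgroup GL75) (tab oneN t) := fun t ht => ⟨1, Subgroup.one_mem _, rep_one' t ht⟩

theorem rep_gen : ∀ x < 3, Rep (tab TG x) (letter gen x) := by
  intro x hx
  have h1 : genN x = tab TG x := by
    rw [genN]
    have : Nat.ble x 7 = true := Nat.ble_eq.mpr (by omega)
    rw [this, cond_true]
  rw [← h1]
  exact ⟨genN_ok x, (toM_genN x).symm⟩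

abbrev P1 : Subgroup GL75 := Subgroup.closure {gen 0, gen 1, gen 2}

theorem exists_letter {x : GL75} (hx : x ∈ ({gen 0, gen 1, gen 2} : Set GL75)) : ∃ l < 3, x = letter gen l := by
  rcases hx with rfl | rfl | rfl
  · exact ⟨0, by norm_num, rfl⟩
  · exact ⟨1, by norm_num, rfl⟩
  · exact ⟨2, by norm_num, rfl⟩

theorem P1_words (w : List ℕ) (h : ∀ l ∈ w, l % 4 ≠ 3) : ev gen w ∈ P1 := by
  apply Subgroup.list_prod_mem
  intro g hg
  obtain ⟨l, hl, rfl⟩ := List.mem_map.mp hg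
  have h0 : gen 0 ∈ P1 := Subgroup.subset_closure (by simp)
  have h1 : gen 1 ∈ P1 := Subgroup.subset_closure (by simp)
  have h2 : gen 2 ∈ P1 := Subgroup.subset_closure (by simp)
  match l, h l hl with
  | 0, _ => exact h0
  | 1, _ => exact h1
  | 2, _ => exact h2
  | 3, h3 => exact absurd rfl h3
  | 4, _ => exact Subgroup.inv_mem _ h0
  | 5, _ => exact Subgroup.inv_mem _ h1
  | 6, _ => exact Subgroup.inv_mem _ h2
  | 7, h3 => exact absurd rfl h3
  | _ + 8, _ => exact Subgroup.one_mem _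

theorem Hsub_one_le : Hsub 1 ≤ P1 := by
  rw [Hsub, subOf, Subgroup.closure_le]
  rintro _ ⟨w, hw, rfl⟩
  have key : ∀ w ∈ Hgens 1, ∀ l ∈ w, l % 4 ≠ 3 := by decide
  exact P1_words w (key w hw)

theorem β_mem (t : ℕ) : β t ∈ P1 := by
  apply P1_words
  match t with
  | 0 | 1 | 2 | 3 | 4 => decide
  | _ + 5 => simp

theorem d_mem : gen 3 ∈ Subgroup.closure ({gen 0, gen 1, gen 2, ev gen (RW.getD 0 [])} : Set GL75) := by
  have h := word_eq dw
  rw [ev_cons, ev_nil, mul_one] at h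
  change gen 3 = _ at h
  rw [h]
  simp only [ev_append]
  have hle : P1 ≤ Subgroup.closure ({gen 0, gen 1, gen 2, ev gen (RW.getD 0 [])} : Set GL75) := by
    rw [Subgroup.closure_le]
    rintro y (rfl | rfl | rfl)
    · exact Subgroup.subset_closure (by simp)
    · exact Subgroup.subset_closure (by simp)
    · exact Subgroup.subset_closure (by simp)
  have hs : ev gen sW ∈ Subgroup.closure ({gen 0, gen 1, gen 2, ev gen (RW.getD 0 [])} : Set GL75) :=
    Subgroup.subset_closure (by right; right; right; rfl)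
  have h1 := hle (P1_words dW1 (by decide))
  have h2 := hle (P1_words dW2 (by decide))
  have h3 := hle (P1_words dW3 (by decide))
  have h4 := hle (P1_words dW4 (by decide))
  exact Subgroup.mul_mem _ (Subgroup.mul_mem _ (Subgroup.mul_mem _ (Subgroup.mul_mem _ (Subgroup.mul_mem _
    (Subgroup.mul_mem _ h1 hs) h2) hs) h3) hs) h4

theorem covering_of (i : ℕ) {T nT HT nH OT nO C2 C3 : ℕ} {HW : List (List ℕ)}
    (hT : ∀ n < nT, In (Hsub i) (tab T n))
    (hHT : baseK HT 0 HW = true) (hnH : HW.length = nH) (hpos : 0 < nH) (hHW : HW.getD 0 [] = [])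
    (hOT : baseK OT 0 (reps i) = true) (hnO : (reps i).length = nO)
    (h2 : certs T1 244 BT 5 HT nH T nT RT 30 HT nH C2 = true)
    (h3 : certs T1 244 oneN 1 OT nO T nT BT 5 HT nH C3 = true) :
    ∀ h ∈ Hhat, ∃ w ∈ reps i, ∃ k ∈ Hsub 1, ∃ s ∈ Hsub i, h = k * ev gen w * s := by
  have hH := rep_getD hHT hnH
  have hO := rep_getD hOT hnO
  have c2 := certs_spec in1 β rep_β (fun b => ev gen (HW.getD b [])) hH hT (fun j => ev gen (RW.getD j [])) rep_R
    (fun b => ev gen (HW.getD b [])) hH h2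
  have c3 := certs_spec in1 (fun _ => 1) rep_one' (fun b => ev gen ((reps i).getD b [])) hO hT β rep_β
    (fun b => ev gen (HW.getD b [])) hH h3
  have c1 := certs_spec in1 β rep_β (fun j => ev gen (RW.getD j [])) rep_R in_one
    (fun j => ev gen (RW.getD j [])) rep_R (fun x => letter gen x) rep_gen ct1
  have c4 := certs_spec in1 β rep_β (fun _ => 1) rep_one' in_one β rep_β (fun x => letter gen x) rep_gen ct4
  have main := covering_aux (gen 0) (gen 1) (gen 2) (gen 3) (ev gen (RW.getD 0 [])) (Hsub 1) (Hsub i) β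
    (nB := 5) (by norm_num) rfl ?_ (fun j => ev gen (RW.getD j [])) (nR := 30) (by norm_num) rfl ?_
    (fun b => ev gen (HW.getD b [])) (nH := nH) hpos (by simp only [hHW]; rfl) ?_
    (fun b => ev gen ((reps i).getD b [])) (nH' := nO) ?_ d_mem
  · intro h hh
    rw [Hhat_eq] at hh
    obtain ⟨b, hb, k, hk, w, hw, e⟩ := main h hh
    refine ⟨(reps i).getD b [], ?_, k, hk, w, hw, e⟩
    rw [List.getD_eq_getElem _ _ (by omega)]
    exact List.getElem_mem _
  · intro t ht x hx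
    obtain ⟨l, hl, rfl⟩ := exists_letter hx
    obtain ⟨k, hk, t', ht', b, _, w, hw, e⟩ := c4 t ht l hl
    refine ⟨k, hk, t', ht', ?_⟩
    rw [Subgroup.mem_bot] at hw
    rw [e, hw, mul_one, mul_one]
  · intro j hj x hx
    obtain ⟨l, hl, rfl⟩ := exists_letter hx
    obtain ⟨k, hk, t', ht', b, hb, w, hw, e⟩ := c1 j hj l hl
    refine ⟨k * β t', Subgroup.mul_mem _ (Hsub_one_le hk) (β_mem t'), b, hb, ?_⟩
    rw [Subgroup.mem_bot] at hw
    rw [e, hw, mul_one]
  · intro j hj a ha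
    obtain ⟨k, hk, t', ht', b, hb, w, hw, e⟩ := c2 j hj a ha
    exact ⟨k * β t', Subgroup.mul_mem _ (Hsub_one_le hk) (β_mem t'), b, hb, w, hw, e⟩
  · intro t ht a ha
    obtain ⟨k, hk, t', ht', b, hb, w, hw, e⟩ := c3 t ht a ha
    exact ⟨k, hk, b, hb, w, hw, by rw [e, mul_one]⟩

/-- **Double coset decompositions** `Ĥ = ⋃ K₀ h H_i`, `i < 5`. -/
theorem covering {i : ℕ} (hi : i < 5) :
    ∀ h ∈ Hhat, ∃ w ∈ reps i, ∃ k ∈ Hsub 1, ∃ s ∈ Hsub i, h = k * ev gen w * s := by
  match i, hi with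
  | 0, _ =>
    intro h hh
    refine ⟨[], by simp [reps], 1, Subgroup.one_mem _, h, by rwa [Hsub_zero], ?_⟩
    rw [ev_nil, one_mul, one_mul]
  | 1, _ => exact covering_of 1 in1 ht1 rfl (by decide) rfl ot1 rfl ct2_1 ct3_1
  | 2, _ => exact covering_of 2 in2 ht2 rfl (by decide) rfl ot2 rfl ct2_2 ct3_2
  | 3, _ => exact covering_of 3 in3 ht3 rfl (by decide) rfl ot3 rfl ct2_3 ct3_3
  | 4, _ => exact covering_of 4 in4 ht4 rfl (by decide) rfl ot4 rfl ct2_4 ct3_4

end Cfsg.Agent.Ly.Cover
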