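import Cfsg.Agent.Ly.CentrData
import Cfsg.Agent.Ly.Cover

/-!
# The involution centraliser in `Ĥ = ⟨a,b,c,d⟩ ≤ GL_7(5)` (the group `G₂(5)`)

`card_centralizer_le` : if `|Ĥ| ≤ 5859000000` then the centraliser of `t = a⁴` in `Ĥ` has order at most `14400`.

`Ĥ` moves the line of the row vector `e₂` to at least `3906` lines, so its stabiliser `L` has order `≤ 1500000`; `t` has
at least `625` conjugates under `L`, and `C(t)` moves the line of `e₂` to at most `6` lines.
-/

set_option autoImplicit false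

namespace Cfsg.Agent.Ly.Centr

open Cfsg.Agent.Lib.PackMat Cfsg.Agent.Ly.Mat7 Cfsg.Agent.Ly.CoverCore Cfsg.Agent.Ly.CentrData Cfsg.Agent.Ly.Cover

theorem prime5 : Nat.Prime 5 := by norm_num

instance fact5 : Fact (Nat.Prime 5) := ⟨prime5⟩

/-- entry of an element -/
def ent2 (g : GL75) (j : Fin 7) : ZMod 5 := (g : Matrix (Fin 7) (Fin 7) (ZMod 5)) 2 j

/-- proportional third rows -/
theorem mul_row {x y : GL75} {c : ZMod 5} (z : GL75) (h : ∀ j, ent2 x j = c * ent2 y j) (j : Fin 7) :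
    ent2 (x * z) j = c * ent2 (y * z) j := by
  unfold ent2 at *
  rw [Units.val_mul, Units.val_mul, Matrix.mul_apply, Matrix.mul_apply, Finset.mul_sum]
  refine Finset.sum_congr rfl fun k _ => ?_
  rw [h k]
  ring

theorem ent2_one (j : Fin 7) : ent2 1 j = if j = 2 then 1 else 0 := by
  unfold ent2
  rw [Units.val_one, Matrix.one_apply]
  simp only [eq_comm]

/-- The stabiliser of the line of the row vector `e₂`. -/
def L : Subgroup GL75 where
  carrier := {x | x ∈ Hhat ∧ ∃ c : ZMod 5, c ≠ 0 ∧ ∀ j, ent2 x j = c * ent2 1 j}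
  one_mem' := ⟨Subgroup.one_mem _, 1, one_ne_zero, fun j => by rw [one_mul]⟩
  mul_mem' := by
    rintro x y ⟨hx, c, hc, h⟩ ⟨hy, c', hc', h'⟩
    refine ⟨Subgroup.mul_mem _ hx hy, c * c', mul_ne_zero hc hc', fun j => ?_⟩
    rw [mul_row y h j, one_mul, h' j, mul_assoc]
  inv_mem' := by
    rintro x ⟨hx, c, hc, h⟩
    refine ⟨Subgroup.inv_mem _ hx, c⁻¹, inv_ne_zero hc, fun j => ?_⟩
    have h1 := mul_row x⁻¹ h j
    rw [mul_inv_cancel, one_mul] at h1
    rw [h1, inv_mul_cancel_left₀ hc]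

theorem mem_L {x : GL75} : x ∈ L ↔ x ∈ Hhat ∧ ∃ c : ZMod 5, c ≠ 0 ∧ ∀ j, ent2 x j = c * ent2 1 j := Iff.rfl

theorem L_le : L ≤ Hhat := fun _ hx => hx.1

/-- If the third rows of `x` and `y` are proportional then `x y⁻¹` fixes the line. -/
theorem mul_inv_mem_L {x y : GL75} (hx : x ∈ Hhat) (hy : y ∈ Hhat) {c : ZMod 5} (hc : c ≠ 0)
    (h : ∀ j, ent2 x j = c * ent2 y j) : x * y⁻¹ ∈ L := by
  refine ⟨Subgroup.mul_mem _ hx (Subgroup.inv_mem _ hy), c, hc, fun j => ?_⟩
  rw [mul_row y⁻¹ h j, mul_inv_cancel]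

/-! ### Leading coefficients -/

/-- Leading coefficient, coordinates ordered `1 0 4 2 6 5`. -/
def lead (w : Fin 7 → ZMod 5) : ZMod 5 :=
  if w 1 ≠ 0 then w 1 else if w 0 ≠ 0 then w 0 else if w 4 ≠ 0 then w 4 else if w 2 ≠ 0 then w 2 else
  if w 6 ≠ 0 then w 6 else w 5

theorem lead_mul {c : ZMod 5} (hc : c ≠ 0) {v w : Fin 7 → ZMod 5} (h : ∀ j, v j = c * w j) :
    lead v = c * lead w := by
  have h0 : ∀ j, v j ≠ 0 ↔ w j ≠ 0 := fun j => by rw [h j, mul_ne_zero_iff]; simp [hc]
  unfold lead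
  simp only [h0]
  split_ifs <;> exact h _

/-- digit number `l` -/
noncomputable def dgK (X l : ℕ) : ℕ := Nat.land (Nat.shiftRight X (Nat.mul 16 l)) 65535

theorem dgK_eq (X l : ℕ) : dgK X l = dg 16 X l := by
  change (X >>> (16 * l)) &&& 65535 = _
  rw [show (65535 : ℕ) = 2 ^ 16 - 1 by norm_num, Nat.and_two_pow_sub_one_eq_mod, Nat.shiftRight_eq_div_pow, dg_def]

/-- Leading coefficient of the third row of a code. -/
noncomputable def leadN (X : ℕ) : ℕ :=
  force (dgK X 15) fun a => bif Nat.beq a 0 then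
  force (dgK X 14) fun a => bif Nat.beq a 0 then
  force (dgK X 18) fun a => bif Nat.beq a 0 then
  force (dgK X 16) fun a => bif Nat.beq a 0 then
  force (dgK X 20) fun a => bif Nat.beq a 0 then
  dgK X 19 else a else a else a else a else a

theorem rep_ent2 {X : ℕ} {g : GL75} (h : Rep X g) (j : Fin 7) : ent2 g j = (dg 16 X (14 + j) : ZMod 5) := by
  unfold ent2
  rw [h.entry]
  rfl

theorem cast_zero_iff {a : ℕ} (ha : a ≤ 4) : (a : ZMod 5) = 0 ↔ a = 0 := by
  rw [ZMod.natCast_eq_zero_iff]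
  constructor
  · intro h
    by_contra h0
    have := Nat.le_of_dvd (by omega) h
    omega
  · rintro rfl; exact dvd_zero _

theorem lead_rep {X : ℕ} {g : GL75} (h : Rep X g) : lead (ent2 g) = (leadN X : ZMod 5) := by
  have key : ∀ l, Nat.beq (dg 16 X l) 0 = true ↔ (dg 16 X l : ZMod 5) = 0 := fun l => by
    rw [cast_zero_iff (h.1.2 l)]
    exact ⟨Nat.eq_of_beq_eq_true, fun e => by rw [e]; rfl⟩
  have key' : ∀ l, Nat.beq (dg 16 X l) 0 = false ↔ (dg 16 X l : ZMod 5) ≠ 0 := fun l => by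
    rw [← Bool.not_eq_true, key]
  unfold lead
  simp only [rep_ent2 h, leadN, force_eq, dgK_eq]
  have e1 : (14 + ((1 : Fin 7) : ℕ)) = 15 := rfl
  have e0 : (14 + ((0 : Fin 7) : ℕ)) = 14 := rfl
  have e4 : (14 + ((4 : Fin 7) : ℕ)) = 18 := rfl
  have e2 : (14 + ((2 : Fin 7) : ℕ)) = 16 := rfl
  have e6 : (14 + ((6 : Fin 7) : ℕ)) = 20 := rfl
  have e5 : (14 + ((5 : Fin 7) : ℕ)) = 19 := rfl
  rw [e1, e0, e4, e2, e6, e5]
  by_cases h1 : (dg 16 X 15 : ZMod 5) = 0
  · rw [if_neg (not_not.mpr h1), (key 15).mpr h1, cond_true]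
    by_cases h2 : (dg 16 X 14 : ZMod 5) = 0
    · rw [if_neg (not_not.mpr h2), (key 14).mpr h2, cond_true]
      by_cases h3 : (dg 16 X 18 : ZMod 5) = 0
      · rw [if_neg (not_not.mpr h3), (key 18).mpr h3, cond_true]
        by_cases h4 : (dg 16 X 16 : ZMod 5) = 0
        · rw [if_neg (not_not.mpr h4), (key 16).mpr h4, cond_true]
          by_cases h5 : (dg 16 X 20 : ZMod 5) = 0
          · rw [if_neg (not_not.mpr h5), (key 20).mpr h5, cond_true]
          · rw [if_pos h5, (key' 20).mpr h5, cond_false]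
        · rw [if_pos h4, (key' 16).mpr h4, cond_false]
      · rw [if_pos h3, (key' 18).mpr h3, cond_false]
    · rw [if_pos h2, (key' 14).mpr h2, cond_false]
  · rw [if_pos h1, (key' 15).mpr h1, cond_false]

/-- Third row of a code. -/
noncomputable def row2N (X : ℕ) : ℕ := Nat.land (Nat.shiftRight X 224) M2

theorem row2N_eq {X Y : ℕ} {g h : GL75} (hX : Rep X g) (hY : Rep Y h) (e : ∀ j, ent2 g j = ent2 h j) :
    row2N X = row2N Y := by
  have h1 : ∀ Z, row2N Z = E 16 (fun j => dg 16 Z (7 * 2 + j)) 7 := fun Z => row_eq Z 2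
  rw [h1, h1]
  apply E_congr
  intro j hj
  have h2 := e ⟨j, hj⟩
  rw [rep_ent2 hX, rep_ent2 hY, ZMod.natCast_eq_natCast_iff] at h2
  have h3 := hX.1.2 (14 + j)
  have h4 := hY.1.2 (14 + j)
  change dg 16 X (14 + j) = dg 16 Y (14 + j)
  change dg 16 X (14 + j) ≡ dg 16 Y (14 + j) [MOD 5] at h2
  rwa [Nat.ModEq, Nat.mod_eq_of_lt (by omega), Nat.mod_eq_of_lt (by omega)] at h2

/-! ### The 3906 lines -/

/-- Pairs `0, ..., N` are valid, have third rows with leading coefficient 1, in increasing order. -/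
noncomputable def sortedL (T nT ST N : ℕ) : Bool :=
  allN (fun n => bif pairOk nT ST n then force (pairK T ST n) fun X =>
    bif Nat.beq (leadN X) 1 then
      bif Nat.blt n N then Nat.blt (row2N X) (row2N (pairK T ST (Nat.succ n))) else true
    else false else false) (Nat.succ N)

theorem sortedL_spec {T nT ST N : ℕ} (h : sortedL T nT ST N = true) :
    (∀ n ≤ N, pairOk nT ST n = true) ∧ (∀ n ≤ N, leadN (pairK T ST n) = 1) ∧
      ∀ n < N, row2N (pairK T ST n) < row2N (pairK T ST (n + 1)) := by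
  have h1 := allN_spec h
  have h2 : ∀ n ≤ N, pairOk nT ST n = true ∧ leadN (pairK T ST n) = 1 ∧
      (n < N → row2N (pairK T ST n) < row2N (pairK T ST (n + 1))) := by
    intro n hn
    have h3 := h1 n (Nat.lt_succ_of_le hn)
    simp only [force_eq, Bool.cond_false_right, Bool.and_eq_true] at h3
    obtain ⟨h4, h5, h6⟩ := h3
    refine ⟨h4, Nat.eq_of_beq_eq_true h5, fun hn' => ?_⟩
    have h7 : Nat.blt n N = true := by
      unfold Nat.blt
      exact Nat.ble_eq.mpr hn'
    rw [h7, cond_true] at h6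
    exact blt_lt h6
  exact ⟨fun n hn => (h2 n hn).1, fun n hn => (h2 n hn).2.1, fun n hn => (h2 n hn.le).2.2 hn⟩

theorem card_L_mul_le {f : ℕ → ℕ} {N : ℕ} (hf : ∀ n ≤ N, In Hhat (f n)) (hl : ∀ n ≤ N, leadN (f n) = 1)
    (hlt : ∀ n < N, row2N (f n) < row2N (f (n + 1))) : (N + 1) * Nat.card L ≤ Nat.card Hhat := by
  classical
  have hm := strictMono_of (f := fun n => row2N (f n)) hlt
  choose g hg hr using fun n : Fin (N + 1) => hf n (Nat.lt_succ_iff.mp n.2)
  have hinj : Function.Injective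
      (fun p : Fin (N + 1) × L => (⟨(p.2 : GL75) * g p.1, Subgroup.mul_mem _ p.2.2.1 (hg _)⟩ : Hhat)) := by
    rintro ⟨n, x⟩ ⟨m, y⟩ h
    have h1 : (x : GL75) * g n = y * g m := congrArg Subtype.val h
    obtain ⟨c, hc, hx⟩ := x.2.2
    obtain ⟨d, hd, hy⟩ := y.2.2
    have e1 : ∀ j, ent2 ((x : GL75) * g n) j = c * ent2 (g n) j := fun j => by
      rw [mul_row (g n) hx j, one_mul]
    have e2 : ∀ j, ent2 ((y : GL75) * g m) j = d * ent2 (g m) j := fun j => by
      rw [mul_row (g m) hy j, one_mul]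
    have e3 : lead (ent2 ((x : GL75) * g n)) = c := by
      rw [lead_mul hc e1, lead_rep (hr n), hl n (Nat.lt_succ_iff.mp n.2), Nat.cast_one, mul_one]
    have e4 : lead (ent2 ((y : GL75) * g m)) = d := by
      rw [lead_mul hd e2, lead_rep (hr m), hl m (Nat.lt_succ_iff.mp m.2), Nat.cast_one, mul_one]
    have e5 : c = d := by rw [← e3, ← e4, h1]
    have e6 : ∀ j, ent2 (g n) j = ent2 (g m) j := by
      intro j
      have e7 := e1 j
      rw [h1, e2 j, ← e5] at e7
      exact (mul_left_cancel₀ hc e7).symm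
    have e7 := row2N_eq (hr n) (hr m) e6
    have e8 : n = m := by
      rcases Nat.lt_trichotomy n m with h3 | h3 | h3
      · have : row2N (f n) < row2N (f m) := hm n m h3 (by omega)
        omega
      · exact Fin.ext h3
      · have : row2N (f m) < row2N (f n) := hm m n h3 (by omega)
        omega
    subst e8
    exact Prod.ext rfl (Subtype.ext (mul_right_cancel h1))
  have := Nat.card_le_card_of_injective _ hinj
  simpa using this


theorem tabL : tabChk TL WL 204 STL = true := by decide +kernel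

theorem sortL : sortedL TL 216 SL 3905 = true := by decide +kernel

theorem inL : ∀ n < 216, In Hhat (tab TL n) := tabChk_spec tabL Hhat fun w _ => ev_mem_Hhat w

theorem card_L_le (h : Nat.card Hhat ≤ 5859000000) : Nat.card L ≤ 1500000 := by
  obtain ⟨h1, h2, h3⟩ := sortedL_spec sortL
  have h4 := card_L_mul_le (f := pairK TL SL) (fun n hn => pairK_in inL (h1 n hn)) h2 h3
  omega

/-! ### The 625 conjugates of `t` -/

/-- The involution `t = a⁴`. -/
def t : GL75 := ev gen [0, 0, 0, 0]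

/-- For the pairs `n ≤ N`: `X` fixes `e₂`, `Y` is its inverse, and the codes of `Y t X` increase. -/
noncomputable def conjK (T SX SY T0 n : ℕ) : ℕ := mulF (mulF (pairK T SY n) T0) (pairK T SX n)

noncomputable def sortedC (T nT SX SY T0 N : ℕ) : Bool :=
  allN (fun n => bif pairOk nT SX n then bif pairOk nT SY n then
    bif Nat.beq (row2N (pairK T SX n)) 4294967296 then
    bif Nat.beq (mulF (pairK T SX n) (pairK T SY n)) oneN then
      bif Nat.blt n N then Nat.blt (conjK T SX SY T0 n) (conjK T SX SY T0 (Nat.succ n)) else true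
    else false else false else false else false) (Nat.succ N)

theorem row2N_one_iff {X : ℕ} {g : GL75} (h : Rep X g) (e : row2N X = 4294967296) : ∀ j, ent2 g j = ent2 1 j := by
  have h1 : row2N X = E 16 (fun j => dg 16 X (7 * 2 + j)) 7 := row_eq X 2
  have h2 : ∀ j < 7, dg 16 X (7 * 2 + j) < 2 ^ 16 := fun j _ => by
    have := h.1.2 (7 * 2 + j)
    omega
  have key : ∀ j : Fin 7, ((dg 16 4294967296 j : ℕ) : ZMod 5) = if j = 2 then 1 else 0 := by decide +kernel
  intro j
  have h3 := dg_E h2 j.2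
  rw [← h1, e] at h3
  rw [rep_ent2 h, ent2_one]
  change ((dg 16 X (7 * 2 + j) : ℕ) : ZMod 5) = _
  rw [← h3]
  exact key j

theorem card_CL_mul_le {T nT SX SY T0 N : ℕ} (hT : ∀ i < nT, In Hhat (tab T i)) (hT0 : Rep T0 t)
    (h : sortedC T nT SX SY T0 N = true) :
    (N + 1) * Nat.card (Subgroup.centralizer {t} ⊓ L : Subgroup GL75) ≤ Nat.card L := by
  classical
  have h1 := allN_spec h
  have h2 : ∀ n ≤ N, pairOk nT SX n = true ∧ pairOk nT SY n = true ∧ row2N (pairK T SX n) = 4294967296 ∧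
      mulF (pairK T SX n) (pairK T SY n) = oneN ∧ (n < N → conjK T SX SY T0 n < conjK T SX SY T0 (n + 1)) := by
    intro n hn
    have h3 := h1 n (Nat.lt_succ_of_le hn)
    simp only [Bool.cond_false_right, Bool.and_eq_true] at h3
    obtain ⟨h4, h5, h6, h7, h8⟩ := h3
    refine ⟨h4, h5, Nat.eq_of_beq_eq_true h6, Nat.eq_of_beq_eq_true h7, fun hn' => ?_⟩
    have h9 : Nat.blt n N = true := by
      unfold Nat.blt
      exact Nat.ble_eq.mpr hn'
    rw [h9, cond_true] at h8
    exact blt_lt h8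
  have hm := strictMono_of (f := conjK T SX SY T0) fun n hn => (h2 n hn.le).2.2.2.2 hn
  choose g hg hr using fun n : Fin (N + 1) => pairK_in hT (h2 n (Nat.lt_succ_iff.mp n.2)).1
  choose g' hg' hr' using fun n : Fin (N + 1) => pairK_in hT (h2 n (Nat.lt_succ_iff.mp n.2)).2.1
  have hinv : ∀ n, g' n = (g n)⁻¹ := by
    intro n
    have h3 := (hr n).mul (hr' n)
    rw [(h2 n (Nat.lt_succ_iff.mp n.2)).2.2.2.1] at h3
    exact (inv_eq_of_mul_eq_one_right (h3.inj rep_one)).symm
  have hgL : ∀ n, g n ∈ L := fun n => ⟨hg n, 1, one_ne_zero, fun j => by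
    rw [one_mul]; exact row2N_one_iff (hr n) (h2 n (Nat.lt_succ_iff.mp n.2)).2.2.1 j⟩
  have hconj : ∀ n : Fin (N + 1), Rep (conjK T SX SY T0 n) ((g n)⁻¹ * t * g n) := by
    intro n
    rw [← hinv n]
    exact ((hr' n).mul hT0).mul (hr n)
  have hinj : Function.Injective (fun p : Fin (N + 1) × (Subgroup.centralizer {t} ⊓ L : Subgroup GL75) =>
      (⟨(p.2 : GL75) * g p.1, L.mul_mem p.2.2.2 (hgL _)⟩ : L)) := by
    rintro ⟨n, x⟩ ⟨m, y⟩ h
    have h3 : (x : GL75) * g n = y * g m := congrArg Subtype.val h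
    have hx : (x : GL75) * t = t * x := Subgroup.mem_centralizer_singleton_iff.mp x.2.1
    have hy : (y : GL75) * t = t * y := Subgroup.mem_centralizer_singleton_iff.mp y.2.1
    have e1 : ∀ (z : GL75) (u : GL75), z * t = t * z → (z * u)⁻¹ * t * (z * u) = u⁻¹ * t * u := by
      intro z u hz
      rw [mul_inv_rev]
      calc u⁻¹ * z⁻¹ * t * (z * u) = u⁻¹ * z⁻¹ * (t * z) * u := by simp only [mul_assoc]
        _ = u⁻¹ * z⁻¹ * (z * t) * u := by rw [hz]
        _ = u⁻¹ * t * u := by simp only [mul_assoc, inv_mul_cancel_left]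
    have e2 : (g n)⁻¹ * t * g n = (g m)⁻¹ * t * g m := by
      rw [← e1 x (g n) hx, h3, e1 y (g m) hy]
    have h4 := hconj n
    rw [e2] at h4
    have h5 := h4.code (hconj m)
    have e8 : n = m := by
      rcases Nat.lt_trichotomy n m with h6 | h6 | h6
      · have := hm n m h6 (by omega); omega
      · exact Fin.ext h6
      · have := hm m n h6 (by omega); omega
    subst e8
    exact Prod.ext rfl (Subtype.ext (mul_right_cancel h3))
  have := Nat.card_le_card_of_injective _ hinj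
  simpa using this

theorem tabH : tabChk TH WH 44 STH = true := by decide +kernel

theorem sortC : sortedC TH 50 SH SI (tab TH 5) 624 = true := by decide +kernel

theorem inH : ∀ n < 50, In Hhat (tab TH n) := tabChk_spec tabH Hhat fun w _ => ev_mem_Hhat w

theorem tabH5 : tab TH 5 = evalW [0, 0, 0, 0] := by decide +kernel

theorem card_CL_le (h : Nat.card Hhat ≤ 5859000000) :
    Nat.card (Subgroup.centralizer {t} ⊓ L : Subgroup GL75) ≤ 2400 := by
  have h1 := card_L_le h
  have h2 := card_CL_mul_le inH (by rw [tabH5]; exact rep_evalW _) sortC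
  omega


/-! ### The quadratic form -/

/-- Code of the Gram matrix. -/
def BC : ℕ := 0x3000000000000000000000002000000000000000000000003000000000000000000000001000000000000000000000003000000000000000000000002000000000000000000000003000000000000000000000000

/-- Codes of the transposes of the generators. -/
def TT : ℕ := 0x10000000000000000000000000000000100000000000100000000000000000000000000000001000000000000000000000000000000010000000000040000000000000000000000000000000400000000000000000000000100000003000200000003000400000001000100020003000400020000000000010000000000030000000000000000000100000001000400000000000000000001000100020000000000000000000000010000000000000000000000000000000100010000000000000000000000000001000100000000000000000000000000000001000000000000000000000000000200010000000000000000000000010001000100000000000000000000000000000001000000000000000000000000000100010003000300000000000000000000000300020000000000000000000000000000000200020002000000000000000000040000000100000000000000000002000300020000000000000000000000000000000400040000000000000000000000040001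

/-- `Y` is the transpose of `X`. -/
noncomputable def trK (X Y : ℕ) : Bool :=
  allBelow (fun l => Nat.beq (dgK X l) (dgK Y (Nat.add (Nat.mul 7 (Nat.mod l 7)) (Nat.div l 7)))) 49

theorem trK_spec {X Y : ℕ} (h : trK X Y = true) : toM Y = (toM X).transpose := by
  have h1 := allBelow_spec h
  ext i j
  have h2 := Nat.eq_of_beq_eq_true (h1 (7 * j + i) (by omega))
  rw [dgK_eq, dgK_eq] at h2
  have e1 : Nat.mod (7 * j + i) 7 = i := by
    change (7 * (j : ℕ) + i) % 7 = i
    omega
  have e2 : Nat.div (7 * j + i) 7 = j := by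
    change (7 * (j : ℕ) + i) / 7 = j
    omega
  rw [e1, e2] at h2
  change ((dg 16 Y (7 * i + j) : ℕ) : ZMod 5) = ((dg 16 X (7 * j + i) : ℕ) : ZMod 5)
  rw [h2]
  rfl

theorem form_of {X Y : ℕ} {g : GL75} (hX : Rep X g) (hY : okN Y = true) (ht : trK X Y = true)
    (h : mulN (mulN X BC) Y = BC) : (g : Matrix (Fin 7) (Fin 7) (ZMod 5)) * toM BC * (g : Matrix _ _ _).transpose = toM BC := by
  have hB : Ok BC := okN_spec (by decide +kernel)
  rw [hX.2, ← trK_spec ht, ← toM_mulN hX.1 hB, ← toM_mulN (mulN_ok hX.1 hB) (okN_spec hY), h]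

theorem form_Hhat {g : GL75} (hg : g ∈ Hhat) :
    (g : Matrix (Fin 7) (Fin 7) (ZMod 5)) * toM BC * (g : Matrix _ _ _).transpose = toM BC := by
  have hmul : ∀ x y : GL75, (x : Matrix (Fin 7) (Fin 7) (ZMod 5)) * toM BC * (x : Matrix _ _ _).transpose = toM BC →
      (y : Matrix (Fin 7) (Fin 7) (ZMod 5)) * toM BC * (y : Matrix _ _ _).transpose = toM BC →
      ((x * y : GL75) : Matrix (Fin 7) (Fin 7) (ZMod 5)) * toM BC * ((x * y : GL75) : Matrix _ _ _).transpose = toM BC := by
    intro x y hx hy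
    rw [Units.val_mul, Matrix.transpose_mul]
    calc _ = (x : Matrix (Fin 7) (Fin 7) (ZMod 5)) * ((y : Matrix (Fin 7) (Fin 7) (ZMod 5)) * toM BC *
          (y : Matrix _ _ _).transpose) * (x : Matrix _ _ _).transpose := by simp only [Matrix.mul_assoc]
      _ = toM BC := by rw [hy, hx]
  refine Subgroup.closure_induction (p := fun (g : GL75) _ => (g : Matrix (Fin 7) (Fin 7) (ZMod 5)) * toM BC *
    (g : Matrix _ _ _).transpose = toM BC) ?_ ?_ ?_ ?_ hg
  · rintro _ ⟨i, rfl⟩
    have hr : ∀ l, Rep (genN l) (letter gen l) := fun l => ⟨genN_ok l, (toM_genN l).symm⟩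
    fin_cases i
    · exact form_of (hr 0) (Y := tab TT 0) (by decide +kernel) (by decide +kernel) (by decide +kernel)
    · exact form_of (hr 1) (Y := tab TT 1) (by decide +kernel) (by decide +kernel) (by decide +kernel)
    · exact form_of (hr 2) (Y := tab TT 2) (by decide +kernel) (by decide +kernel) (by decide +kernel)
    · exact form_of (hr 3) (Y := tab TT 3) (by decide +kernel) (by decide +kernel) (by decide +kernel)
  · rw [Units.val_one, Matrix.transpose_one, Matrix.one_mul, Matrix.mul_one]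
  · intro x y _ _ hx hy
    exact hmul x y hx hy
  · intro x _ hx
    have h1 : ((x⁻¹ : GL75) : Matrix (Fin 7) (Fin 7) (ZMod 5)) * (x : Matrix (Fin 7) (Fin 7) (ZMod 5)) = 1 := by
      rw [← Units.val_mul, inv_mul_cancel, Units.val_one]
    calc _ = ((x⁻¹ : GL75) : Matrix (Fin 7) (Fin 7) (ZMod 5)) * ((x : Matrix (Fin 7) (Fin 7) (ZMod 5)) * toM BC *
          (x : Matrix _ _ _).transpose) * ((x⁻¹ : GL75) : Matrix _ _ _).transpose := by rw [hx]
      _ = (((x⁻¹ : GL75) : Matrix (Fin 7) (Fin 7) (ZMod 5)) * (x : Matrix (Fin 7) (Fin 7) (ZMod 5))) * toM BC *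
          (((x⁻¹ : GL75) : Matrix (Fin 7) (Fin 7) (ZMod 5)) * (x : Matrix (Fin 7) (Fin 7) (ZMod 5))).transpose := by
            rw [Matrix.transpose_mul]; simp only [Matrix.mul_assoc]
      _ = toM BC := by rw [h1, Matrix.transpose_one, Matrix.one_mul, Matrix.mul_one]

/-- Entries of the Gram matrix. -/
def Bf : Matrix (Fin 7) (Fin 7) (ZMod 5) :=
  !![0, 0, 0, 0, 0, 0, 3; 0, 0, 0, 0, 0, 2, 0; 0, 0, 0, 0, 3, 0, 0; 0, 0, 0, 1, 0, 0, 0; 0, 0, 3, 0, 0, 0, 0;
    0, 2, 0, 0, 0, 0, 0; 3, 0, 0, 0, 0, 0, 0]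

theorem BC_eq : toM BC = Bf := by
  ext i j
  fin_cases i <;> fin_cases j <;> decide +kernel

/-- The rows of the elements of `Ĥ` are singular. -/
theorem singular {g : GL75} (hg : g ∈ Hhat) :
    ent2 g 0 * ent2 g 6 * 6 + ent2 g 1 * ent2 g 5 * 4 + ent2 g 2 * ent2 g 4 * 6 + ent2 g 3 * ent2 g 3 = 0 := by
  have h := congrFun (congrFun (form_Hhat hg) 2) 2
  rw [BC_eq] at h
  simp only [Matrix.mul_apply, Matrix.transpose_apply, Fin.sum_univ_seven, Bf] at h
  simp at h
  unfold ent2
  rw [← h]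
  ring


/-! ### The centraliser of `t` -/

/-- Code of `t`. -/
def TC : ℕ := 0x4000000000000000000000000000000040000000000000000000000000000000100000000000000000000000000000001000000000000000000000000000000010000000000000000000000000000000400000000000000000000000000000004

theorem TC_eq : evalW [0, 0, 0, 0] = TC := by decide +kernel

theorem TC_diag : toM TC = Matrix.diagonal ![4, 4, 1, 1, 1, 4, 4] := by
  ext i j
  fin_cases i <;> fin_cases j <;> decide +kernel

theorem t_coe : (t : Matrix (Fin 7) (Fin 7) (ZMod 5)) = Matrix.diagonal ![4, 4, 1, 1, 1, 4, 4] := by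
  have h : Rep (evalW [0, 0, 0, 0]) t := rep_evalW [0, 0, 0, 0]
  rw [h.2, TC_eq, TC_diag]

theorem three_ne : (3 : ZMod 5) ≠ 0 := by decide

/-- Third rows of elements of `C(t)`. -/
theorem row_of_comm {x : GL75} (h : x * t = t * x) : ent2 x 0 = 0 ∧ ent2 x 1 = 0 ∧ ent2 x 5 = 0 ∧ ent2 x 6 = 0 := by
  have h1 : ∀ j, ent2 x j * (![4, 4, 1, 1, 1, 4, 4] : Fin 7 → ZMod 5) j = ent2 x j := by
    intro j
    have h2 := congrFun (congrFun (congrArg (fun g : GL75 => (g : Matrix (Fin 7) (Fin 7) (ZMod 5))) h) 2) j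
    simp only [Units.val_mul, t_coe, Matrix.mul_diagonal, Matrix.diagonal_mul] at h2
    unfold ent2
    rw [h2]
    exact one_mul _
  have h3 : ∀ j, (![4, 4, 1, 1, 1, 4, 4] : Fin 7 → ZMod 5) j = 4 → ent2 x j = 0 := by
    intro j hj
    have h4 := h1 j
    rw [hj] at h4
    have h5 : ent2 x j * 3 = 0 := by linear_combination h4
    exact (mul_eq_zero.mp h5).resolve_right three_ne
  exact ⟨h3 0 rfl, h3 1 rfl, h3 5 rfl, h3 6 rfl⟩

/-- The six singular lines in the fixed space of `t`. -/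
theorem six_lines : ∀ x y z : ZMod 5, ¬ (x = 0 ∧ y = 0 ∧ z = 0) → x * z * 6 + y * y = 0 →
    ∃ i : Fin 6, ∃ c : ZMod 5, c ≠ 0 ∧ x = c * (![1, 1, 1, 1, 1, 0] : Fin 6 → ZMod 5) i ∧
      y = c * (![0, 1, 2, 3, 4, 0] : Fin 6 → ZMod 5) i ∧ z = c * (![0, 4, 1, 1, 4, 1] : Fin 6 → ZMod 5) i := by
  decide +kernel

theorem row_ne_zero (x : GL75) : ¬ ∀ j, ent2 x j = 0 := by
  intro h
  have h1 := mul_row (x := x) (y := 1) (c := 0) x⁻¹ (fun j => by rw [h j, zero_mul]) 2
  rw [mul_inv_cancel, zero_mul, ent2_one, if_pos rfl] at h1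
  exact one_ne_zero h1

theorem exists_line {x : GL75} (hx : x ∈ Hhat) (h : x * t = t * x) :
    ∃ i : Fin 6, ∃ c : ZMod 5, c ≠ 0 ∧ ∀ j, ent2 x j = c * (![0, 0, (![1, 1, 1, 1, 1, 0] : Fin 6 → ZMod 5) i,
      (![0, 1, 2, 3, 4, 0] : Fin 6 → ZMod 5) i, (![0, 4, 1, 1, 4, 1] : Fin 6 → ZMod 5) i, 0, 0] : Fin 7 → ZMod 5) j := by
  obtain ⟨h0, h1, h5, h6⟩ := row_of_comm h
  have hs := singular hx
  rw [h0, h1, zero_mul, zero_mul, zero_mul, zero_mul, zero_add, zero_add] at hs
  obtain ⟨i, c, hc, e2, e3, e4⟩ := six_lines (ent2 x 2) (ent2 x 3) (ent2 x 4) (by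
    rintro ⟨a2, a3, a4⟩
    apply row_ne_zero x
    intro j
    fin_cases j
    · exact h0
    · exact h1
    · exact a2
    · exact a3
    · exact a4
    · exact h5
    · exact h6) hs
  refine ⟨i, c, hc, ?_⟩
  intro j
  fin_cases j
  · exact h0.trans (mul_zero c).symm
  · exact h1.trans (mul_zero c).symm
  · exact e2
  · exact e3
  · exact e4
  · exact h5.trans (mul_zero c).symm
  · exact h6.trans (mul_zero c).symm

theorem card_C_le_mul : Nat.card (Subgroup.centralizer {t} ⊓ Hhat : Subgroup GL75) ≤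
    6 * Nat.card (Subgroup.centralizer {t} ⊓ L : Subgroup GL75) := by
  classical
  have hcm : ∀ x : (Subgroup.centralizer {t} ⊓ Hhat : Subgroup GL75), (x : GL75) * t = t * x := fun x =>
    Subgroup.mem_centralizer_singleton_iff.mp x.2.1
  choose ψ c hc hψ using fun x : (Subgroup.centralizer {t} ⊓ Hhat : Subgroup GL75) => exists_line x.2.2 (hcm x)
  -- representatives
  let rep : Fin 6 → GL75 := fun i =>
    if h : ∃ x : (Subgroup.centralizer {t} ⊓ Hhat : Subgroup GL75), ψ x = i then (h.choose : GL75) else 1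
  have hrep : ∀ x, ∃ y : (Subgroup.centralizer {t} ⊓ Hhat : Subgroup GL75), rep (ψ x) = y ∧ ψ y = ψ x := by
    intro x
    have h : ∃ y, ψ y = ψ x := ⟨x, rfl⟩
    refine ⟨h.choose, ?_, h.choose_spec⟩
    simp only [rep]
    rw [dif_pos h]
  have hmem : ∀ x : (Subgroup.centralizer {t} ⊓ Hhat : Subgroup GL75),
      (x : GL75) * (rep (ψ x))⁻¹ ∈ (Subgroup.centralizer {t} ⊓ L : Subgroup GL75) := by
    intro x
    obtain ⟨y, hy, hyx⟩ := hrep x
    rw [hy]
    refine ⟨Subgroup.mul_mem _ x.2.1 (Subgroup.inv_mem _ y.2.1), ?_⟩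
    refine mul_inv_mem_L x.2.2 y.2.2 (c := c x * (c y)⁻¹) (mul_ne_zero (hc x) (inv_ne_zero (hc y))) ?_
    intro j
    rw [hψ x j, hψ y j, hyx, mul_assoc, inv_mul_cancel_left₀ (hc y)]
  have hinj : Function.Injective (fun x : (Subgroup.centralizer {t} ⊓ Hhat : Subgroup GL75) =>
      ((ψ x, ⟨(x : GL75) * (rep (ψ x))⁻¹, hmem x⟩) : Fin 6 × (Subgroup.centralizer {t} ⊓ L : Subgroup GL75))) := by
    intro x y h
    simp only [Prod.mk.injEq, Subtype.mk.injEq] at h
    obtain ⟨h1, h2⟩ := h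
    rw [h1] at h2
    exact Subtype.ext (mul_right_cancel h2)
  have := Nat.card_le_card_of_injective _ hinj
  simpa using this

/-- **The involution centraliser in `G₂(5)`.** -/
theorem card_centralizer_le (h : Nat.card Hhat ≤ 5859000000) :
    Nat.card (Subgroup.centralizer {t} ⊓ Hhat : Subgroup GL75) ≤ 14400 := by
  have h1 := card_CL_le h
  have h2 := card_C_le_mul
  omega

theorem t_eq : t = gen 0 ^ 4 := by
  simp [t, ev, letter, pow_succ, mul_assoc]

end Cfsg.Agent.Ly.Centr
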