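import Mathlib
import Cfsg.Prelude.Def_Spor_Ly

/-!
# The presented Lyons group in terms of its five essential generators a, b, c, d, z

`relWords` is the list of the 52 relators of `Cfsg.Spor.Ly` which do not merely define an auxiliary generator, written
as reduced words in a, b, c, d, z (letters `(0..4, true/false)`).

* `hom`: five elements of a group `P` satisfying the words of `relWords` give a homomorphism `Cfsg.Spor.Ly →* P`.
* `rel_hold`: the five generators of the presented group satisfy the words.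
* `closure_gens`: they generate it.
-/

set_option autoImplicit false
set_option linter.unusedSimpArgs false

namespace Cfsg.Agent.Ly.Pres

open Cfsg.Spor

/-- free letter -/
def w_a : FreeGroup (Fin 5) := FreeGroup.of 0

/-- free letter -/
def w_b : FreeGroup (Fin 5) := FreeGroup.of 1

/-- free letter -/
def w_c : FreeGroup (Fin 5) := FreeGroup.of 2

/-- free letter -/
def w_d : FreeGroup (Fin 5) := FreeGroup.of 3

/-- free letter -/
def w_z : FreeGroup (Fin 5) := FreeGroup.of 4

/-- c1 as a word in a, b, c, d -/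
def w_c1 : FreeGroup (Fin 5) := w_c

/-- c2 as a word in a, b, c, d -/
def w_c2 : FreeGroup (Fin 5) := (w_a⁻¹ * w_c * w_a)

/-- c3 as a word in a, b, c, d -/
def w_c3 : FreeGroup (Fin 5) := (w_b⁻¹ * w_c * w_b)

/-- c4 as a word in a, b, c, d -/
def w_c4 : FreeGroup (Fin 5) := ((w_b⁻¹)⁻¹ * w_c * (w_b⁻¹))

/-- c5 as a word in a, b, c, d -/
def w_c5 : FreeGroup (Fin 5) := (w_c1⁻¹ * w_c2⁻¹ * w_c1 * w_c2)

/-- e as a word in a, b, c, d -/
def w_e : FreeGroup (Fin 5) := (((w_b ^ 2)⁻¹) * (w_a⁻¹ * w_c1⁻¹ * w_a * w_c1) * (w_a⁻¹) * w_c1 * w_a * w_d * w_c1 * w_b * w_a * (w_b⁻¹) * w_d * w_c1 * w_d)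

/-- a1 as a word in a, b, c, d -/
def w_a1 : FreeGroup (Fin 5) := w_a

/-- a2 as a word in a, b, c, d -/
def w_a2 : FreeGroup (Fin 5) := ((w_b⁻¹)⁻¹ * w_a * (w_b⁻¹))

/-- a3 as a word in a, b, c, d -/
def w_a3 : FreeGroup (Fin 5) := (((w_b ^ 2)⁻¹)⁻¹ * w_a * ((w_b ^ 2)⁻¹))

/-- a4 as a word in a, b, c, d -/
def w_a4 : FreeGroup (Fin 5) := ((w_b ^ 2)⁻¹ * w_a * (w_b ^ 2))

/-- u as a word in a, b, c, d -/
def w_u : FreeGroup (Fin 5) := (w_a ^ 2)

/-- x23 as a word in a, b, c, d -/
def w_x23 : FreeGroup (Fin 5) := w_d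

/-- x24 as a word in a, b, c, d -/
def w_x24 : FreeGroup (Fin 5) := (w_d⁻¹)

/-- x25 as a word in a, b, c, d -/
def w_x25 : FreeGroup (Fin 5) := ((w_b ^ 2) * (w_a⁻¹) * (w_b⁻¹) * (w_a⁻¹) * (w_b ^ 2) * (w_c⁻¹) * w_a * w_c * (w_a⁻¹) * (w_c⁻¹) * w_d * (w_c⁻¹) * (w_b ^ 2) * (w_a⁻¹) * w_c * w_b)

/-- x29 as a word in a, b, c, d -/
def w_x29 : FreeGroup (Fin 5) := (w_a * w_b * (w_a⁻¹) * (w_b ^ 2) * (w_a⁻¹) * (w_b ^ 2) * (w_c⁻¹) * w_a * w_c * w_b * w_c * (w_b⁻¹) * w_d * w_c * ((w_b ^ 2)⁻¹) * w_d * w_c * w_b * w_c)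

/-- x47 as a word in a, b, c, d -/
def w_x47 : FreeGroup (Fin 5) := ((w_c⁻¹) * (w_d⁻¹) * (w_a⁻¹) * (w_c⁻¹) * (w_a⁻¹) * w_b * (w_c⁻¹) * (w_d⁻¹))

/-- x96 as a word in a, b, c, d -/
def w_x96 : FreeGroup (Fin 5) := (w_b * w_d)

/-- x129 as a word in a, b, c, d -/
def w_x129 : FreeGroup (Fin 5) := ((w_d⁻¹) * (w_b⁻¹))

/-- x162 as a word in a, b, c, d -/
def w_x162 : FreeGroup (Fin 5) := ((w_a⁻¹) * (w_b⁻¹) * (w_a⁻¹) * w_b * (w_c⁻¹) * (w_b⁻¹) * w_a * (w_c⁻¹) * w_b * w_a)

/-- x163 as a word in a, b, c, d -/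
def w_x163 : FreeGroup (Fin 5) := (((w_b ^ 2)⁻¹) * w_a * w_c * (w_a⁻¹) * w_b * w_c * w_b)

/-- x164 as a word in a, b, c, d -/
def w_x164 : FreeGroup (Fin 5) := ((w_a⁻¹) * (w_b⁻¹) * (w_a⁻¹) * w_c * w_a * w_b * w_a)

/-- x165 as a word in a, b, c, d -/
def w_x165 : FreeGroup (Fin 5) := ((w_b⁻¹) * (w_a⁻¹) * w_b * w_c * (w_b⁻¹) * w_a * w_b)

/-- x166 as a word in a, b, c, d -/
def w_x166 : FreeGroup (Fin 5) := ((w_b ^ 2) * (w_a⁻¹) * (w_b⁻¹) * w_c * w_b * w_a * w_c * ((w_b ^ 2)⁻¹) * (w_c⁻¹))

/-- x167 as a word in a, b, c, d -/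
def w_x167 : FreeGroup (Fin 5) := ((w_a ^ 3)⁻¹)

/-- x168 as a word in a, b, c, d -/
def w_x168 : FreeGroup (Fin 5) := (w_b * (w_a⁻¹) * (w_b⁻¹) * ((w_a ^ 2)⁻¹))

/-- x169 as a word in a, b, c, d -/
def w_x169 : FreeGroup (Fin 5) := (w_a * (w_b ^ 2) * w_a * ((w_b ^ 2)⁻¹) * (w_a⁻¹))

/-- x364 as a word in a, b, c, d -/
def w_x364 : FreeGroup (Fin 5) := ((w_a⁻¹) * w_d * (w_b⁻¹) * (w_c⁻¹) * (w_a⁻¹) * w_b * (w_c⁻¹) * (w_d⁻¹) * w_b * (w_c⁻¹) * (w_b⁻¹) * (w_a⁻¹) * (w_c⁻¹) * w_a * (w_b⁻¹) * w_a * w_b * w_a * (w_b⁻¹))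

/-- x365 as a word in a, b, c, d -/
def w_x365 : FreeGroup (Fin 5) := (w_a * ((w_b ^ 2)⁻¹) * (w_a⁻¹) * w_c * w_b * (w_c⁻¹) * w_b * (w_a⁻¹) * ((w_c ^ 2)⁻¹) * w_d * w_c * w_a * w_c * (w_a⁻¹) * w_c * (w_b⁻¹) * (w_d⁻¹))

/-- x366 as a word in a, b, c, d -/
def w_x366 : FreeGroup (Fin 5) := (w_b * w_a * (w_b⁻¹) * (w_a⁻¹) * ((w_b ^ 2)⁻¹) * (w_a⁻¹) * (w_b⁻¹) * w_c * (w_b ^ 2) * w_c * w_b * w_d * w_c * ((w_b ^ 2)⁻¹) * w_d * w_c * w_b * w_c)

/-- x367 as a word in a, b, c, d -/
def w_x367 : FreeGroup (Fin 5) := ((w_c⁻¹) * (w_b⁻¹) * (w_c⁻¹) * (w_d⁻¹) * (w_b ^ 2) * (w_c⁻¹) * (w_d⁻¹) * (w_b⁻¹) * (w_c⁻¹) * ((w_b ^ 2)⁻¹) * (w_c⁻¹) * w_b * w_a * (w_b ^ 2) * w_a * w_b * (w_a⁻¹) * (w_b⁻¹))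

/-- x368 as a word in a, b, c, d -/
def w_x368 : FreeGroup (Fin 5) := ((w_a⁻¹) * (w_c⁻¹) * (w_d⁻¹) * w_a * (w_c⁻¹) * (w_b⁻¹) * w_a * (w_c⁻¹) * (w_d⁻¹) * (w_a⁻¹) * (w_c⁻¹) * w_a * w_c * ((w_b ^ 2)⁻¹) * (w_c⁻¹) * (w_b⁻¹) * (w_a⁻¹) * ((w_b ^ 2)⁻¹))

/-- x369 as a word in a, b, c, d -/
def w_x369 : FreeGroup (Fin 5) := ((w_a⁻¹) * (w_c⁻¹) * (w_d⁻¹) * w_b * (w_a⁻¹) * (w_b⁻¹) * (w_c⁻¹) * (w_d⁻¹) * w_b * (w_a⁻¹) * (w_b⁻¹) * (w_c⁻¹) * (w_b⁻¹) * w_a * ((w_b ^ 2)⁻¹) * w_a * (w_b⁻¹))

/-- x370 as a word in a, b, c, d -/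
def w_x370 : FreeGroup (Fin 5) := ((w_d⁻¹) * w_a * w_c * w_b * w_c * (w_a⁻¹) * (w_c⁻¹) * (w_d⁻¹) * w_a * (w_b⁻¹) * (w_a⁻¹) * w_c * (w_a⁻¹) * ((w_b ^ 2)⁻¹) * (w_a⁻¹) * w_b * (w_a⁻¹))

/-- x371 as a word in a, b, c, d -/
def w_x371 : FreeGroup (Fin 5) := ((w_c⁻¹) * (w_a⁻¹) * w_c * w_b * (w_c⁻¹) * (w_d⁻¹) * w_c * (w_a⁻¹) * w_c * w_a * w_c * (w_b⁻¹) * (w_a⁻¹) * (w_b⁻¹) * (w_a⁻¹) * w_b)

/-- the 39 generators as words in a, b, c, d, z -/
def gw : Ly.Gen → FreeGroup (Fin 5)
  | .a => w_a
  | .b => w_b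
  | .c => w_c
  | .d => w_d
  | .z => w_z
  | .e => w_e
  | .a1 => w_a1
  | .a2 => w_a2
  | .a3 => w_a3
  | .a4 => w_a4
  | .c1 => w_c1
  | .c2 => w_c2
  | .c3 => w_c3
  | .c4 => w_c4
  | .c5 => w_c5
  | .u => w_u
  | .x23 => w_x23
  | .x24 => w_x24
  | .x25 => w_x25
  | .x29 => w_x29
  | .x47 => w_x47
  | .x96 => w_x96
  | .x129 => w_x129
  | .x162 => w_x162
  | .x163 => w_x163
  | .x164 => w_x164
  | .x165 => w_x165
  | .x166 => w_x166
  | .x167 => w_x167
  | .x168 => w_x168
  | .x169 => w_x169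
  | .x364 => w_x364
  | .x365 => w_x365
  | .x366 => w_x366
  | .x367 => w_x367
  | .x368 => w_x368
  | .x369 => w_x369
  | .x370 => w_x370
  | .x371 => w_x371

/-- relator (1): aaaaaaaa -/
def rel1 : List (Fin 5 × Bool) := [(0, true), (0, true), (0, true), (0, true), (0, true), (0, true), (0, true), (0, true)]

/-- relator (2): bbbbb -/
def rel2 : List (Fin 5 × Bool) := [(1, true), (1, true), (1, true), (1, true), (1, true)]

/-- relator (3): abababab -/
def rel3 : List (Fin 5 × Bool) := [(0, true), (1, true), (0, true), (1, true), (0, true), (1, true), (0, true), (1, true)]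

/-- relator (4): AABaab -/
def rel4 : List (Fin 5 × Bool) := [(0, false), (0, false), (1, false), (0, true), (0, true), (1, true)]

/-- relator (5): ABabABabABab -/
def rel5 : List (Fin 5 × Bool) := [(0, false), (1, false), (0, true), (1, true), (0, false), (1, false), (0, true), (1, true), (0, false), (1, false), (0, true), (1, true)]

/-- relator (11): ccccc -/
def rel11 : List (Fin 5 × Bool) := [(2, true), (2, true), (2, true), (2, true), (2, true)]

/-- relator (12): CACacAcaCACacAcaCACacAcaCACacAcaCACacAca -/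
def rel12 : List (Fin 5 × Bool) := [(2, false), (0, false), (2, false), (0, true), (2, true), (0, false), (2, true), (0, true), (2, false), (0, false), (2, false), (0, true), (2, true), (0, false), (2, true), (0, true), (2, false), (0, false), (2, false), (0, true), (2, true), (0, false), (2, true), (0, true), (2, false), (0, false), (2, false), (0, true), (2, true), (0, false), (2, true), (0, true), (2, false), (0, false), (2, false), (0, true), (2, true), (0, false), (2, true), (0, true)]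

/-- relator (13): CACaCAcacACacAca -/
def rel13 : List (Fin 5 × Bool) := [(2, false), (0, false), (2, false), (0, true), (2, false), (0, false), (2, true), (0, true), (2, true), (0, false), (2, false), (0, true), (2, true), (0, false), (2, true), (0, true)]

/-- relator (14): ACCaCAcacAcaCACacAca -/
def rel14 : List (Fin 5 × Bool) := [(0, false), (2, false), (2, false), (0, true), (2, false), (0, false), (2, true), (0, true), (2, true), (0, false), (2, true), (0, true), (2, false), (0, false), (2, false), (0, true), (2, true), (0, false), (2, true), (0, true)]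

/-- relator (15): BCbACaCAcacBcbCACacAca -/
def rel15 : List (Fin 5 × Bool) := [(1, false), (2, false), (1, true), (0, false), (2, false), (0, true), (2, false), (0, false), (2, true), (0, true), (2, true), (1, false), (2, true), (1, true), (2, false), (0, false), (2, false), (0, true), (2, true), (0, false), (2, true), (0, true)]

/-- relator (16): bCBACaCAcacbcBCACacAca -/
def rel16 : List (Fin 5 × Bool) := [(1, true), (2, false), (1, false), (0, false), (2, false), (0, true), (2, false), (0, false), (2, true), (0, true), (2, true), (1, true), (2, true), (1, false), (2, false), (0, false), (2, false), (0, true), (2, true), (0, false), (2, true), (0, true)]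

/-- relator (17): CBCbcBcbCACacAcaCACacAca -/
def rel17 : List (Fin 5 × Bool) := [(2, false), (1, false), (2, false), (1, true), (2, true), (1, false), (2, true), (1, true), (2, false), (0, false), (2, false), (0, true), (2, true), (0, false), (2, true), (0, true), (2, false), (0, false), (2, false), (0, true), (2, true), (0, false), (2, true), (0, true)]

/-- relator (18): CbCBcbcBACaCAcacACaCAcac -/
def rel18 : List (Fin 5 × Bool) := [(2, false), (1, true), (2, false), (1, false), (2, true), (1, true), (2, true), (1, false), (0, false), (2, false), (0, true), (2, false), (0, false), (2, true), (0, true), (2, true), (0, false), (2, false), (0, true), (2, false), (0, false), (2, true), (0, true), (2, true)]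

/-- relator (19): ACaBCbAcaBcbCACacAca -/
def rel19 : List (Fin 5 × Bool) := [(0, false), (2, false), (0, true), (1, false), (2, false), (1, true), (0, false), (2, true), (0, true), (1, false), (2, true), (1, true), (2, false), (0, false), (2, false), (0, true), (2, true), (0, false), (2, true), (0, true)]

/-- relator (20): ACabCBAcabcB -/
def rel20 : List (Fin 5 × Bool) := [(0, false), (2, false), (0, true), (1, true), (2, false), (1, false), (0, false), (2, true), (0, true), (1, true), (2, true), (1, false)]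

/-- relator (21): BCbbCBBcbbcBCACacAca -/
def rel21 : List (Fin 5 × Bool) := [(1, false), (2, false), (1, true), (1, true), (2, false), (1, false), (1, false), (2, true), (1, true), (1, true), (2, true), (1, false), (2, false), (0, false), (2, false), (0, true), (2, true), (0, false), (2, true), (0, true)]

/-- relator (22): AAcaacc -/
def rel22 : List (Fin 5 × Bool) := [(0, false), (0, false), (2, true), (0, true), (0, true), (2, true), (2, true)]

/-- relator (23): ABcbabCBCBccb -/
def rel23 : List (Fin 5 × Bool) := [(0, false), (1, false), (2, true), (1, true), (0, true), (1, true), (2, false), (1, false), (2, false), (1, false), (2, true), (2, true), (1, true)]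

/-- relator (24): AbcBabCBCbCBBcbAcaC -/
def rel24 : List (Fin 5 × Bool) := [(0, false), (1, true), (2, true), (1, false), (0, true), (1, true), (2, false), (1, false), (2, false), (1, true), (2, false), (1, false), (1, false), (2, true), (1, true), (0, false), (2, true), (0, true), (2, false)]

/-- relator (25): ACACacAcaCaCAcacACaCAcac -/
def rel25 : List (Fin 5 × Bool) := [(0, false), (2, false), (0, false), (2, false), (0, true), (2, true), (0, false), (2, true), (0, true), (2, false), (0, true), (2, false), (0, false), (2, true), (0, true), (2, true), (0, false), (2, false), (0, true), (2, false), (0, false), (2, true), (0, true), (2, true)]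

/-- relator (26): BAcabbcBcbcBBCbACa -/
def rel26 : List (Fin 5 × Bool) := [(1, false), (0, false), (2, true), (0, true), (1, true), (1, true), (2, true), (1, false), (2, true), (1, true), (2, true), (1, false), (1, false), (2, false), (1, true), (0, false), (2, false), (0, true)]

/-- relator (27): BBcbccbbCBCC -/
def rel27 : List (Fin 5 × Bool) := [(1, false), (1, false), (2, true), (1, true), (2, true), (2, true), (1, true), (1, true), (2, false), (1, false), (2, false), (2, false)]

/-- relator (28): BCACacAcabACaCAcac -/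
def rel28 : List (Fin 5 × Bool) := [(1, false), (2, false), (0, false), (2, false), (0, true), (2, true), (0, false), (2, true), (0, true), (1, true), (0, false), (2, false), (0, true), (2, false), (0, false), (2, true), (0, true), (2, true)]

/-- relator (30): BBACacAcadcbaBdcdBBACacAcadcbaBdcd -/
def rel30 : List (Fin 5 × Bool) := [(1, false), (1, false), (0, false), (2, false), (0, true), (2, true), (0, false), (2, true), (0, true), (3, true), (2, true), (1, true), (0, true), (1, false), (3, true), (2, true), (3, true), (1, false), (1, false), (0, false), (2, false), (0, true), (2, true), (0, false), (2, true), (0, true), (3, true), (2, true), (1, true), (0, true), (1, false), (3, true), (2, true), (3, true)]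

/-- relator (31): DCDbABCDACaCAcabbcBBACacAcadcbaBdcdcBBC -/
def rel31 : List (Fin 5 × Bool) := [(3, false), (2, false), (3, false), (1, true), (0, false), (1, false), (2, false), (3, false), (0, false), (2, false), (0, true), (2, false), (0, false), (2, true), (0, true), (1, true), (1, true), (2, true), (1, false), (1, false), (0, false), (2, false), (0, true), (2, true), (0, false), (2, true), (0, true), (3, true), (2, true), (1, true), (0, true), (1, false), (3, true), (2, true), (3, true), (2, true), (1, false), (1, false), (2, false)]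

/-- relator (32): DCDbABCDACaCAcabcBACacAcadcbaBdcdabcBcACBB -/
def rel32 : List (Fin 5 × Bool) := [(3, false), (2, false), (3, false), (1, true), (0, false), (1, false), (2, false), (3, false), (0, false), (2, false), (0, true), (2, false), (0, false), (2, true), (0, true), (1, true), (2, true), (1, false), (0, false), (2, false), (0, true), (2, true), (0, false), (2, true), (0, true), (3, true), (2, true), (1, true), (0, true), (1, false), (3, true), (2, true), (3, true), (0, true), (1, true), (2, true), (1, false), (2, true), (0, false), (2, false), (1, false), (1, false)]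

/-- relator (33): DCDbABCDACaCAcabbbcBBBACacAcadcbaBdcdbCBBcB -/
def rel33 : List (Fin 5 × Bool) := [(3, false), (2, false), (3, false), (1, true), (0, false), (1, false), (2, false), (3, false), (0, false), (2, false), (0, true), (2, false), (0, false), (2, true), (0, true), (1, true), (1, true), (1, true), (2, true), (1, false), (1, false), (1, false), (0, false), (2, false), (0, true), (2, true), (0, false), (2, true), (0, true), (3, true), (2, true), (1, true), (0, true), (1, false), (3, true), (2, true), (3, true), (1, true), (2, false), (1, false), (1, false), (2, true), (1, false)]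

/-- relator (34): DCDbABCDACaCAcabbCACacAcaBBACacAcadcbaBdcdbcBCBcbC -/
def rel34 : List (Fin 5 × Bool) := [(3, false), (2, false), (3, false), (1, true), (0, false), (1, false), (2, false), (3, false), (0, false), (2, false), (0, true), (2, false), (0, false), (2, true), (0, true), (1, true), (1, true), (2, false), (0, false), (2, false), (0, true), (2, true), (0, false), (2, true), (0, true), (1, false), (1, false), (0, false), (2, false), (0, true), (2, true), (0, false), (2, true), (0, true), (3, true), (2, true), (1, true), (0, true), (1, false), (3, true), (2, true), (3, true), (1, true), (2, true), (1, false), (2, false), (1, false), (2, true), (1, true), (2, false)]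

/-- relator (35): BBACacAcadcbaBdcdaaBBACacAcadcbaBdcdbcBACaCAcbABBA -/
def rel35 : List (Fin 5 × Bool) := [(1, false), (1, false), (0, false), (2, false), (0, true), (2, true), (0, false), (2, true), (0, true), (3, true), (2, true), (1, true), (0, true), (1, false), (3, true), (2, true), (3, true), (0, true), (0, true), (1, false), (1, false), (0, false), (2, false), (0, true), (2, true), (0, false), (2, true), (0, true), (3, true), (2, true), (1, true), (0, true), (1, false), (3, true), (2, true), (3, true), (1, true), (2, true), (1, false), (0, false), (2, false), (0, true), (2, false), (0, false), (2, true), (1, true), (0, false), (1, false), (1, false), (0, false)]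

/-- relator (36): DCDbABCDACaCAcabACacAcadcbaBdcdbccBBcbC -/
def rel36 : List (Fin 5 × Bool) := [(3, false), (2, false), (3, false), (1, true), (0, false), (1, false), (2, false), (3, false), (0, false), (2, false), (0, true), (2, false), (0, false), (2, true), (0, true), (1, true), (0, false), (2, false), (0, true), (2, true), (0, false), (2, true), (0, true), (3, true), (2, true), (1, true), (0, true), (1, false), (3, true), (2, true), (3, true), (1, true), (2, true), (2, true), (1, false), (1, false), (2, true), (1, true), (2, false)]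

/-- relator (37): BBACacAcadcbaBdcdabbaBaBBACacAcadcbaBdcdbcBACaCAcA -/
def rel37 : List (Fin 5 × Bool) := [(1, false), (1, false), (0, false), (2, false), (0, true), (2, true), (0, false), (2, true), (0, true), (3, true), (2, true), (1, true), (0, true), (1, false), (3, true), (2, true), (3, true), (0, true), (1, true), (1, true), (0, true), (1, false), (0, true), (1, false), (1, false), (0, false), (2, false), (0, true), (2, true), (0, false), (2, true), (0, true), (3, true), (2, true), (1, true), (0, true), (1, false), (3, true), (2, true), (3, true), (1, true), (2, true), (1, false), (0, false), (2, false), (0, true), (2, false), (0, false), (2, true), (0, false)]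

/-- relator (38): BBACacAcadcbaBdcdAcaBBACacAcadcbaBdcdACaBBACacAcadcbaBdcdAcabCBaBcbaaa -/
def rel38 : List (Fin 5 × Bool) := [(1, false), (1, false), (0, false), (2, false), (0, true), (2, true), (0, false), (2, true), (0, true), (3, true), (2, true), (1, true), (0, true), (1, false), (3, true), (2, true), (3, true), (0, false), (2, true), (0, true), (1, false), (1, false), (0, false), (2, false), (0, true), (2, true), (0, false), (2, true), (0, true), (3, true), (2, true), (1, true), (0, true), (1, false), (3, true), (2, true), (3, true), (0, false), (2, false), (0, true), (1, false), (1, false), (0, false), (2, false), (0, true), (2, true), (0, false), (2, true), (0, true), (3, true), (2, true), (1, true), (0, true), (1, false), (3, true), (2, true), (3, true), (0, false), (2, true), (0, true), (1, true), (2, false), (1, false), (0, true), (1, false), (2, true), (1, true), (0, true), (0, true), (0, true)]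

/-- relator (39): CDbABCDACaCAcabAcDCDbABCDACaCAcabbADCDbABCDACaCAcabbACACacAcabcBcbaBBA -/
def rel39 : List (Fin 5 × Bool) := [(2, false), (3, false), (1, true), (0, false), (1, false), (2, false), (3, false), (0, false), (2, false), (0, true), (2, false), (0, false), (2, true), (0, true), (1, true), (0, false), (2, true), (3, false), (2, false), (3, false), (1, true), (0, false), (1, false), (2, false), (3, false), (0, false), (2, false), (0, true), (2, false), (0, false), (2, true), (0, true), (1, true), (1, true), (0, false), (3, false), (2, false), (3, false), (1, true), (0, false), (1, false), (2, false), (3, false), (0, false), (2, false), (0, true), (2, false), (0, false), (2, true), (0, true), (1, true), (1, true), (0, false), (2, false), (0, false), (2, false), (0, true), (2, true), (0, false), (2, true), (0, true), (1, true), (2, true), (1, false), (2, true), (1, true), (0, true), (1, false), (1, false), (0, false)]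

/-- relator (40): ddAAAA -/
def rel40 : List (Fin 5 × Bool) := [(3, true), (3, true), (0, false), (0, false), (0, false), (0, false)]

/-- relator (41): BDbd -/
def rel41 : List (Fin 5 × Bool) := [(1, false), (3, false), (1, true), (3, true)]

/-- relator (42): DadAAA -/
def rel42 : List (Fin 5 × Bool) := [(3, false), (0, true), (3, true), (0, false), (0, false), (0, false)]

/-- relator (43): dCACacAcadCACacAcadCACacAcadCACacAcadCACacAca -/
def rel43 : List (Fin 5 × Bool) := [(3, true), (2, false), (0, false), (2, false), (0, true), (2, true), (0, false), (2, true), (0, true), (3, true), (2, false), (0, false), (2, false), (0, true), (2, true), (0, false), (2, true), (0, true), (3, true), (2, false), (0, false), (2, false), (0, true), (2, true), (0, false), (2, true), (0, true), (3, true), (2, false), (0, false), (2, false), (0, true), (2, true), (0, false), (2, true), (0, true), (3, true), (2, false), (0, false), (2, false), (0, true), (2, true), (0, false), (2, true), (0, true)]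

/-- relator (44): dCACacAcadACaCAcacdCACacAcA -/
def rel44 : List (Fin 5 × Bool) := [(3, true), (2, false), (0, false), (2, false), (0, true), (2, true), (0, false), (2, true), (0, true), (3, true), (0, false), (2, false), (0, true), (2, false), (0, false), (2, true), (0, true), (2, true), (3, true), (2, false), (0, false), (2, false), (0, true), (2, true), (0, false), (2, true), (0, false)]

/-- relator (73): ZczABcAbcBaba -/
def rel73 : List (Fin 5 × Bool) := [(4, false), (2, true), (4, true), (0, false), (1, false), (2, true), (0, false), (1, true), (2, true), (1, false), (0, true), (1, true), (0, true)]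

/-- relator (74): ZAcazBCBaCAbb -/
def rel74 : List (Fin 5 × Bool) := [(4, false), (0, false), (2, true), (0, true), (4, true), (1, false), (2, false), (1, false), (0, true), (2, false), (0, false), (1, true), (1, true)]

/-- relator (75): ZBcbzABACaba -/
def rel75 : List (Fin 5 × Bool) := [(4, false), (1, false), (2, true), (1, true), (4, true), (0, false), (1, false), (0, false), (2, false), (0, true), (1, true), (0, true)]

/-- relator (76): ZbcBzBAbCBab -/
def rel76 : List (Fin 5 × Bool) := [(4, false), (1, true), (2, true), (1, false), (4, true), (1, false), (0, false), (1, true), (2, false), (1, false), (0, true), (1, true)]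

/-- relator (77): ZCACacAcazcbbCABCbaBB -/
def rel77 : List (Fin 5 × Bool) := [(4, false), (2, false), (0, false), (2, false), (0, true), (2, true), (0, false), (2, true), (0, true), (4, true), (2, true), (1, true), (1, true), (2, false), (0, false), (1, false), (2, false), (1, true), (0, true), (1, false), (1, false)]

/-- relator (78): Zazaaa -/
def rel78 : List (Fin 5 × Bool) := [(4, false), (0, true), (4, true), (0, true), (0, true), (0, true)]

/-- relator (79): ZbaBzaabaB -/
def rel79 : List (Fin 5 × Bool) := [(4, false), (1, true), (0, true), (1, false), (4, true), (0, true), (0, true), (1, true), (0, true), (1, false)]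

/-- relator (80): ZbbaBBzabbABBA -/
def rel80 : List (Fin 5 × Bool) := [(4, false), (1, true), (1, true), (0, true), (1, false), (1, false), (4, true), (0, true), (1, true), (1, true), (0, false), (1, false), (1, false), (0, false)]

/-- relator (81): zzAA -/
def rel81 : List (Fin 5 × Bool) := [(4, true), (4, true), (0, false), (0, false)]

/-- relator (82): BBabbzBBabbzBBabbzaa -/
def rel82 : List (Fin 5 × Bool) := [(1, false), (1, false), (0, true), (1, true), (1, true), (4, true), (1, false), (1, false), (0, true), (1, true), (1, true), (4, true), (1, false), (1, false), (0, true), (1, true), (1, true), (4, true), (0, true), (0, true)]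

/-- relator (83): CDACAbCDzAdBCAbCDbCBACaBabaBzACDaCBaCDACacBBCBABBz -/
def rel83 : List (Fin 5 × Bool) := [(2, false), (3, false), (0, false), (2, false), (0, false), (1, true), (2, false), (3, false), (4, true), (0, false), (3, true), (1, false), (2, false), (0, false), (1, true), (2, false), (3, false), (1, true), (2, false), (1, false), (0, false), (2, false), (0, true), (1, false), (0, true), (1, true), (0, true), (1, false), (4, true), (0, false), (2, false), (3, false), (0, true), (2, false), (1, false), (0, true), (2, false), (3, false), (0, false), (2, false), (0, true), (2, true), (1, false), (1, false), (2, false), (1, false), (0, false), (1, false), (1, false), (4, true)]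

/-- relator (84): ZDZACDbABCDbABCBaBBaBzdzabAbbAbbCacbcBdcBBdcbc -/
def rel84 : List (Fin 5 × Bool) := [(4, false), (3, false), (4, false), (0, false), (2, false), (3, false), (1, true), (0, false), (1, false), (2, false), (3, false), (1, true), (0, false), (1, false), (2, false), (1, false), (0, true), (1, false), (1, false), (0, true), (1, false), (4, true), (3, true), (4, true), (0, true), (1, true), (0, false), (1, true), (1, true), (0, false), (1, true), (1, true), (2, false), (0, true), (2, true), (1, true), (2, true), (1, false), (3, true), (2, true), (1, false), (1, false), (3, true), (2, true), (1, true), (2, true)]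

/-- relator (85): zbaBABBABcbbcbdcBBdcbczaBBAcbCbACCdcacAcBDZCBCDbbCDBCBBCbabbabABZDacbcACDaBAcABBAbA -/
def rel85 : List (Fin 5 × Bool) := [(4, true), (1, true), (0, true), (1, false), (0, false), (1, false), (1, false), (0, false), (1, false), (2, true), (1, true), (1, true), (2, true), (1, true), (3, true), (2, true), (1, false), (1, false), (3, true), (2, true), (1, true), (2, true), (4, true), (0, true), (1, false), (1, false), (0, false), (2, true), (1, true), (2, false), (1, true), (0, false), (2, false), (2, false), (3, true), (2, true), (0, true), (2, true), (0, false), (2, true), (1, false), (3, false), (4, false), (2, false), (1, false), (2, false), (3, false), (1, true), (1, true), (2, false), (3, false), (1, false), (2, false), (1, false), (1, false), (2, false), (1, true), (0, true), (1, true), (1, true), (0, true), (1, true), (0, false), (1, false), (4, false), (3, false), (0, true), (2, true), (1, true), (2, true), (0, false), (2, false), (3, false), (0, true),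 (1, false), (0, false), (2, true), (0, false), (1, false), (1, false), (0, false), (1, true), (0, false)]

/-- relator (86): zbdzbbABAbbCacACdCbbAcbZDBZCAcbCDcAcacBABAb -/
def rel86 : List (Fin 5 × Bool) := [(4, true), (1, true), (3, true), (4, true), (1, true), (1, true), (0, false), (1, false), (0, false), (1, true), (1, true), (2, false), (0, true), (2, true), (0, false), (2, false), (3, true), (2, false), (1, true), (1, true), (0, false), (2, true), (1, true), (4, false), (3, false), (1, false), (4, false), (2, false), (0, false), (2, true), (1, true), (2, false), (3, false), (2, true), (0, false), (2, true), (0, true), (2, true), (1, false), (0, false), (1, false), (0, false), (1, true)]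

/-- The relators of the presented Lyons group as words in a, b, c, d, z (52 words). -/
def relWords : List (List (Fin 5 × Bool)) :=
  [rel1, rel2, rel3, rel4, rel5, rel11, rel12, rel13, rel14, rel15, rel16, rel17, rel18, rel19, rel20, rel21, rel22, rel23, rel24, rel25, rel26, rel27, rel28, rel30, rel31, rel32, rel33, rel34, rel35, rel36, rel37, rel38, rel39, rel40, rel41, rel42, rel43, rel44, rel73, rel74, rel75, rel76, rel77, rel78, rel79, rel80, rel81, rel82, rel83, rel84, rel85, rel86]

theorem extra_words :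
    ∀ r ∈ Ly.extra, (FreeGroup.lift gw r).toWord = [] ∨ (FreeGroup.lift gw r).toWord ∈ relWords := by
  decide +kernel

theorem words_extra :
    ∀ w ∈ relWords, ∃ r ∈ Ly.extra, (FreeGroup.lift gw r).toWord = w := by
  decide +kernel

theorem lift_lift {P : Type*} [Group P] (g : Fin 5 → P) (r : FreeGroup Ly.Gen) :
    FreeGroup.lift (fun x => FreeGroup.lift g (gw x)) r = FreeGroup.lift g (FreeGroup.lift gw r) := by
  have h : (FreeGroup.lift (fun x => FreeGroup.lift g (gw x)) : FreeGroup Ly.Gen →* P) =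
      (FreeGroup.lift g).comp (FreeGroup.lift gw) := by
    ext x
    simp
  rw [h]
  rfl

/-- The set of relators of the presented Lyons group. -/
abbrev rset : Set (FreeGroup Ly.Gen) := coxRelators Ly.edges ∪ {r | r ∈ Ly.extra}

theorem mem_rset {r : FreeGroup Ly.Gen} : r ∈ rset ↔ r ∈ Ly.extra := by
  constructor
  · rintro (⟨x, hx, _⟩ | h)
    · exact absurd hx (by simp [coxNodes, Ly.edges])
    · exact h
  · exact Or.inr

theorem lift_eq_one {P : Type*} [Group P] (g : Fin 5 → P)
    (h : ∀ w ∈ relWords, FreeGroup.lift g (FreeGroup.mk w) = 1) (r : FreeGroup Ly.Gen) (hr : r ∈ rset) :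
    FreeGroup.lift (fun x => FreeGroup.lift g (gw x)) r = 1 := by
  rw [lift_lift]
  rcases extra_words r (mem_rset.mp hr) with h1 | h1
  · rw [FreeGroup.toWord_eq_nil_iff] at h1
    rw [h1, map_one]
  · have h2 := h _ h1
    rwa [FreeGroup.mk_toWord] at h2

/-- Five elements satisfying the 52 words give a homomorphism from the presented Lyons group. -/
def hom {P : Type*} [Group P] (g : Fin 5 → P)
    (h : ∀ w ∈ relWords, FreeGroup.lift g (FreeGroup.mk w) = 1) : Cfsg.Spor.Ly →* P :=
  PresentedGroup.toGroup (lift_eq_one g h)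

theorem hom_of {P : Type*} [Group P] (g : Fin 5 → P)
    (h : ∀ w ∈ relWords, FreeGroup.lift g (FreeGroup.mk w) = 1) (x : Ly.Gen) :
    hom g h (PresentedGroup.of x) = FreeGroup.lift g (gw x) :=
  PresentedGroup.toGroup.of (lift_eq_one g h)

/-- The generators a, b, c, d, z of the presented group. -/
def gens : Fin 5 → Cfsg.Spor.Ly :=
  ![PresentedGroup.of Ly.Gen.a, PresentedGroup.of Ly.Gen.b, PresentedGroup.of Ly.Gen.c,
    PresentedGroup.of Ly.Gen.d, PresentedGroup.of Ly.Gen.z]

/-- The projection from the free group. -/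
abbrev pm : FreeGroup Ly.Gen →* Cfsg.Spor.Ly := PresentedGroup.mk rset

theorem pm_eq_one {r : FreeGroup Ly.Gen} (h : r ∈ Ly.extra) : pm r = 1 :=
  PresentedGroup.one_of_mem (mem_rset.mpr h)

theorem pm_eq {x w : FreeGroup Ly.Gen} (h : x * w⁻¹ ∈ Ly.extra) : pm x = pm w := by
  have h1 := pm_eq_one h
  rwa [map_mul, map_inv, mul_inv_eq_one] at h1

theorem g_a : FreeGroup.lift gens w_a = pm Ly.a := by
  rw [w_a, FreeGroup.lift_apply_of]
  rfl

theorem g_b : FreeGroup.lift gens w_b = pm Ly.b := by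
  rw [w_b, FreeGroup.lift_apply_of]
  rfl

theorem g_c : FreeGroup.lift gens w_c = pm Ly.c := by
  rw [w_c, FreeGroup.lift_apply_of]
  rfl

theorem g_d : FreeGroup.lift gens w_d = pm Ly.d := by
  rw [w_d, FreeGroup.lift_apply_of]
  rfl

theorem g_z : FreeGroup.lift gens w_z = pm Ly.z := by
  rw [w_z, FreeGroup.lift_apply_of]
  rfl

theorem g_c1 : FreeGroup.lift gens w_c1 = pm Ly.c1 := by
  have h : Ly.c1 * (Ly.c)⁻¹ ∈ Ly.extra := List.getElem_mem (l := Ly.extra) (n := 5) (by decide)
  rw [pm_eq h]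
  simp only [w_c1, map_mul, map_inv, map_pow, g_c]

theorem g_c2 : FreeGroup.lift gens w_c2 = pm Ly.c2 := by
  have h : Ly.c2 * ((Ly.a⁻¹ * Ly.c * Ly.a))⁻¹ ∈ Ly.extra := List.getElem_mem (l := Ly.extra) (n := 6) (by decide)
  rw [pm_eq h]
  simp only [w_c2, map_mul, map_inv, map_pow, g_a, g_c]

theorem g_c3 : FreeGroup.lift gens w_c3 = pm Ly.c3 := by
  have h : Ly.c3 * ((Ly.b⁻¹ * Ly.c * Ly.b))⁻¹ ∈ Ly.extra := List.getElem_mem (l := Ly.extra) (n := 7) (by decide)
  rw [pm_eq h]
  simp only [w_c3, map_mul, map_inv, map_pow, g_b, g_c]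

theorem g_c4 : FreeGroup.lift gens w_c4 = pm Ly.c4 := by
  have h : Ly.c4 * (((Ly.b⁻¹)⁻¹ * Ly.c * (Ly.b⁻¹)))⁻¹ ∈ Ly.extra := List.getElem_mem (l := Ly.extra) (n := 8) (by decide)
  rw [pm_eq h]
  simp only [w_c4, map_mul, map_inv, map_pow, g_b, g_c]

theorem g_c5 : FreeGroup.lift gens w_c5 = pm Ly.c5 := by
  have h : Ly.c5 * ((Ly.c1⁻¹ * Ly.c2⁻¹ * Ly.c1 * Ly.c2))⁻¹ ∈ Ly.extra := List.getElem_mem (l := Ly.extra) (n := 9) (by decide)
  rw [pm_eq h]
  simp only [w_c5, map_mul, map_inv, map_pow, g_c1, g_c2]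

theorem g_e : FreeGroup.lift gens w_e = pm Ly.e := by
  have h : Ly.e * ((((Ly.b ^ 2)⁻¹) * (Ly.a⁻¹ * Ly.c1⁻¹ * Ly.a * Ly.c1) * (Ly.a⁻¹) * Ly.c1 * Ly.a * Ly.d * Ly.c1 * Ly.b * Ly.a * (Ly.b⁻¹) * Ly.d * Ly.c1 * Ly.d))⁻¹ ∈ Ly.extra := List.getElem_mem (l := Ly.extra) (n := 28) (by decide)
  rw [pm_eq h]
  simp only [w_e, map_mul, map_inv, map_pow, g_a, g_b, g_c1, g_d]

theorem g_a1 : FreeGroup.lift gens w_a1 = pm Ly.a1 := by
  have h : Ly.a1 * (Ly.a)⁻¹ ∈ Ly.extra := List.getElem_mem (l := Ly.extra) (n := 44) (by decide)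
  rw [pm_eq h]
  simp only [w_a1, map_mul, map_inv, map_pow, g_a]

theorem g_a2 : FreeGroup.lift gens w_a2 = pm Ly.a2 := by
  have h : Ly.a2 * (((Ly.b⁻¹)⁻¹ * Ly.a * (Ly.b⁻¹)))⁻¹ ∈ Ly.extra := List.getElem_mem (l := Ly.extra) (n := 45) (by decide)
  rw [pm_eq h]
  simp only [w_a2, map_mul, map_inv, map_pow, g_a, g_b]

theorem g_a3 : FreeGroup.lift gens w_a3 = pm Ly.a3 := by
  have h : Ly.a3 * ((((Ly.b ^ 2)⁻¹)⁻¹ * Ly.a * ((Ly.b ^ 2)⁻¹)))⁻¹ ∈ Ly.extra := List.getElem_mem (l := Ly.extra) (n := 46) (by decide)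
  rw [pm_eq h]
  simp only [w_a3, map_mul, map_inv, map_pow, g_a, g_b]

theorem g_a4 : FreeGroup.lift gens w_a4 = pm Ly.a4 := by
  have h : Ly.a4 * (((Ly.b ^ 2)⁻¹ * Ly.a * (Ly.b ^ 2)))⁻¹ ∈ Ly.extra := List.getElem_mem (l := Ly.extra) (n := 47) (by decide)
  rw [pm_eq h]
  simp only [w_a4, map_mul, map_inv, map_pow, g_a, g_b]

theorem g_u : FreeGroup.lift gens w_u = pm Ly.u := by
  have h : Ly.u * ((Ly.a ^ 2))⁻¹ ∈ Ly.extra := List.getElem_mem (l := Ly.extra) (n := 48) (by decide)
  rw [pm_eq h]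
  simp only [w_u, map_mul, map_inv, map_pow, g_a]

theorem g_x23 : FreeGroup.lift gens w_x23 = pm Ly.x23 := by
  have h : Ly.x23 * (Ly.d)⁻¹ ∈ Ly.extra := List.getElem_mem (l := Ly.extra) (n := 49) (by decide)
  rw [pm_eq h]
  simp only [w_x23, map_mul, map_inv, map_pow, g_d]

theorem g_x24 : FreeGroup.lift gens w_x24 = pm Ly.x24 := by
  have h : Ly.x24 * ((Ly.d⁻¹))⁻¹ ∈ Ly.extra := List.getElem_mem (l := Ly.extra) (n := 50) (by decide)
  rw [pm_eq h]
  simp only [w_x24, map_mul, map_inv, map_pow, g_d]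

theorem g_x25 : FreeGroup.lift gens w_x25 = pm Ly.x25 := by
  have h : Ly.x25 * (((Ly.b ^ 2) * (Ly.a⁻¹) * (Ly.b⁻¹) * (Ly.a⁻¹) * (Ly.b ^ 2) * (Ly.c⁻¹) * Ly.a * Ly.c * (Ly.a⁻¹) * (Ly.c⁻¹) * Ly.d * (Ly.c⁻¹) * (Ly.b ^ 2) * (Ly.a⁻¹) * Ly.c * Ly.b))⁻¹ ∈ Ly.extra := List.getElem_mem (l := Ly.extra) (n := 51) (by decide)
  rw [pm_eq h]
  simp only [w_x25, map_mul, map_inv, map_pow, g_a, g_b, g_c, g_d]

theorem g_x29 : FreeGroup.lift gens w_x29 = pm Ly.x29 := by
  have h : Ly.x29 * ((Ly.a * Ly.b * (Ly.a⁻¹) * (Ly.b ^ 2) * (Ly.a⁻¹) * (Ly.b ^ 2) * (Ly.c⁻¹) * Ly.a * Ly.c * Ly.b * Ly.c * (Ly.b⁻¹) * Ly.d * Ly.c * ((Ly.b ^ 2)⁻¹) * Ly.d * Ly.c * Ly.b * Ly.c))⁻¹ ∈ Ly.extra := List.getElem_mem (l := Ly.extra) (n := 52) (by decide)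
  rw [pm_eq h]
  simp only [w_x29, map_mul, map_inv, map_pow, g_a, g_b, g_c, g_d]

theorem g_x47 : FreeGroup.lift gens w_x47 = pm Ly.x47 := by
  have h : Ly.x47 * (((Ly.c⁻¹) * (Ly.d⁻¹) * (Ly.a⁻¹) * (Ly.c⁻¹) * (Ly.a⁻¹) * Ly.b * (Ly.c⁻¹) * (Ly.d⁻¹)))⁻¹ ∈ Ly.extra := List.getElem_mem (l := Ly.extra) (n := 53) (by decide)
  rw [pm_eq h]
  simp only [w_x47, map_mul, map_inv, map_pow, g_a, g_b, g_c, g_d]

theorem g_x96 : FreeGroup.lift gens w_x96 = pm Ly.x96 := by
  have h : Ly.x96 * ((Ly.b * Ly.d))⁻¹ ∈ Ly.extra := List.getElem_mem (l := Ly.extra) (n := 54) (by decide)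
  rw [pm_eq h]
  simp only [w_x96, map_mul, map_inv, map_pow, g_b, g_d]

theorem g_x129 : FreeGroup.lift gens w_x129 = pm Ly.x129 := by
  have h : Ly.x129 * (((Ly.d⁻¹) * (Ly.b⁻¹)))⁻¹ ∈ Ly.extra := List.getElem_mem (l := Ly.extra) (n := 55) (by decide)
  rw [pm_eq h]
  simp only [w_x129, map_mul, map_inv, map_pow, g_b, g_d]

theorem g_x162 : FreeGroup.lift gens w_x162 = pm Ly.x162 := by
  have h : Ly.x162 * (((Ly.a⁻¹) * (Ly.b⁻¹) * (Ly.a⁻¹) * Ly.b * (Ly.c⁻¹) * (Ly.b⁻¹) * Ly.a * (Ly.c⁻¹) * Ly.b * Ly.a))⁻¹ ∈ Ly.extra := List.getElem_mem (l := Ly.extra) (n := 56) (by decide)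
  rw [pm_eq h]
  simp only [w_x162, map_mul, map_inv, map_pow, g_a, g_b, g_c]

theorem g_x163 : FreeGroup.lift gens w_x163 = pm Ly.x163 := by
  have h : Ly.x163 * ((((Ly.b ^ 2)⁻¹) * Ly.a * Ly.c * (Ly.a⁻¹) * Ly.b * Ly.c * Ly.b))⁻¹ ∈ Ly.extra := List.getElem_mem (l := Ly.extra) (n := 57) (by decide)
  rw [pm_eq h]
  simp only [w_x163, map_mul, map_inv, map_pow, g_a, g_b, g_c]

theorem g_x164 : FreeGroup.lift gens w_x164 = pm Ly.x164 := by
  have h : Ly.x164 * (((Ly.a⁻¹) * (Ly.b⁻¹) * (Ly.a⁻¹) * Ly.c * Ly.a * Ly.b * Ly.a))⁻¹ ∈ Ly.extra := List.getElem_mem (l := Ly.extra) (n := 58) (by decide)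
  rw [pm_eq h]
  simp only [w_x164, map_mul, map_inv, map_pow, g_a, g_b, g_c]

theorem g_x165 : FreeGroup.lift gens w_x165 = pm Ly.x165 := by
  have h : Ly.x165 * (((Ly.b⁻¹) * (Ly.a⁻¹) * Ly.b * Ly.c * (Ly.b⁻¹) * Ly.a * Ly.b))⁻¹ ∈ Ly.extra := List.getElem_mem (l := Ly.extra) (n := 59) (by decide)
  rw [pm_eq h]
  simp only [w_x165, map_mul, map_inv, map_pow, g_a, g_b, g_c]

theorem g_x166 : FreeGroup.lift gens w_x166 = pm Ly.x166 := by
  have h : Ly.x166 * (((Ly.b ^ 2) * (Ly.a⁻¹) * (Ly.b⁻¹) * Ly.c * Ly.b * Ly.a * Ly.c * ((Ly.b ^ 2)⁻¹) * (Ly.c⁻¹)))⁻¹ ∈ Ly.extra := List.getElem_mem (l := Ly.extra) (n := 60) (by decide)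
  rw [pm_eq h]
  simp only [w_x166, map_mul, map_inv, map_pow, g_a, g_b, g_c]

theorem g_x167 : FreeGroup.lift gens w_x167 = pm Ly.x167 := by
  have h : Ly.x167 * (((Ly.a ^ 3)⁻¹))⁻¹ ∈ Ly.extra := List.getElem_mem (l := Ly.extra) (n := 61) (by decide)
  rw [pm_eq h]
  simp only [w_x167, map_mul, map_inv, map_pow, g_a]

theorem g_x168 : FreeGroup.lift gens w_x168 = pm Ly.x168 := by
  have h : Ly.x168 * ((Ly.b * (Ly.a⁻¹) * (Ly.b⁻¹) * ((Ly.a ^ 2)⁻¹)))⁻¹ ∈ Ly.extra := List.getElem_mem (l := Ly.extra) (n := 62) (by decide)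
  rw [pm_eq h]
  simp only [w_x168, map_mul, map_inv, map_pow, g_a, g_b]

theorem g_x169 : FreeGroup.lift gens w_x169 = pm Ly.x169 := by
  have h : Ly.x169 * ((Ly.a * (Ly.b ^ 2) * Ly.a * ((Ly.b ^ 2)⁻¹) * (Ly.a⁻¹)))⁻¹ ∈ Ly.extra := List.getElem_mem (l := Ly.extra) (n := 63) (by decide)
  rw [pm_eq h]
  simp only [w_x169, map_mul, map_inv, map_pow, g_a, g_b]

theorem g_x364 : FreeGroup.lift gens w_x364 = pm Ly.x364 := by
  have h : Ly.x364 * (((Ly.a⁻¹) * Ly.d * (Ly.b⁻¹) * (Ly.c⁻¹) * (Ly.a⁻¹) * Ly.b * (Ly.c⁻¹) * (Ly.d⁻¹) * Ly.b * (Ly.c⁻¹) * (Ly.b⁻¹) * (Ly.a⁻¹) * (Ly.c⁻¹) * Ly.a * (Ly.b⁻¹) * Ly.a * Ly.b * Ly.a * (Ly.b⁻¹)))⁻¹ ∈ Ly.extra := List.getElem_mem (l := Ly.extra) (n := 64) (by decide)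
  rw [pm_eq h]
  simp only [w_x364, map_mul, map_inv, map_pow, g_a, g_b, g_c, g_d]

theorem g_x365 : FreeGroup.lift gens w_x365 = pm Ly.x365 := by
  have h : Ly.x365 * ((Ly.a * ((Ly.b ^ 2)⁻¹) * (Ly.a⁻¹) * Ly.c * Ly.b * (Ly.c⁻¹) * Ly.b * (Ly.a⁻¹) * ((Ly.c ^ 2)⁻¹) * Ly.d * Ly.c * Ly.a * Ly.c * (Ly.a⁻¹) * Ly.c * (Ly.b⁻¹) * (Ly.d⁻¹)))⁻¹ ∈ Ly.extra := List.getElem_mem (l := Ly.extra) (n := 65) (by decide)
  rw [pm_eq h]
  simp only [w_x365, map_mul, map_inv, map_pow, g_a, g_b, g_c, g_d]

theorem g_x366 : FreeGroup.lift gens w_x366 = pm Ly.x366 := by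
  have h : Ly.x366 * ((Ly.b * Ly.a * (Ly.b⁻¹) * (Ly.a⁻¹) * ((Ly.b ^ 2)⁻¹) * (Ly.a⁻¹) * (Ly.b⁻¹) * Ly.c * (Ly.b ^ 2) * Ly.c * Ly.b * Ly.d * Ly.c * ((Ly.b ^ 2)⁻¹) * Ly.d * Ly.c * Ly.b * Ly.c))⁻¹ ∈ Ly.extra := List.getElem_mem (l := Ly.extra) (n := 66) (by decide)
  rw [pm_eq h]
  simp only [w_x366, map_mul, map_inv, map_pow, g_a, g_b, g_c, g_d]

theorem g_x367 : FreeGroup.lift gens w_x367 = pm Ly.x367 := by
  have h : Ly.x367 * (((Ly.c⁻¹) * (Ly.b⁻¹) * (Ly.c⁻¹) * (Ly.d⁻¹) * (Ly.b ^ 2) * (Ly.c⁻¹) * (Ly.d⁻¹) * (Ly.b⁻¹) * (Ly.c⁻¹) * ((Ly.b ^ 2)⁻¹) * (Ly.c⁻¹) * Ly.b * Ly.a * (Ly.b ^ 2) * Ly.a * Ly.b * (Ly.a⁻¹) * (Ly.b⁻¹)))⁻¹ ∈ Ly.extra := List.getElem_mem (l := Ly.extra) (n := 67) (by decide)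
  rw [pm_eq h]
  simp only [w_x367, map_mul, map_inv, map_pow, g_a, g_b, g_c, g_d]

theorem g_x368 : FreeGroup.lift gens w_x368 = pm Ly.x368 := by
  have h : Ly.x368 * (((Ly.a⁻¹) * (Ly.c⁻¹) * (Ly.d⁻¹) * Ly.a * (Ly.c⁻¹) * (Ly.b⁻¹) * Ly.a * (Ly.c⁻¹) * (Ly.d⁻¹) * (Ly.a⁻¹) * (Ly.c⁻¹) * Ly.a * Ly.c * ((Ly.b ^ 2)⁻¹) * (Ly.c⁻¹) * (Ly.b⁻¹) * (Ly.a⁻¹) * ((Ly.b ^ 2)⁻¹)))⁻¹ ∈ Ly.extra := List.getElem_mem (l := Ly.extra) (n := 68) (by decide)
  rw [pm_eq h]
  simp only [w_x368, map_mul, map_inv, map_pow, g_a, g_b, g_c, g_d]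

theorem g_x369 : FreeGroup.lift gens w_x369 = pm Ly.x369 := by
  have h : Ly.x369 * (((Ly.a⁻¹) * (Ly.c⁻¹) * (Ly.d⁻¹) * Ly.b * (Ly.a⁻¹) * (Ly.b⁻¹) * (Ly.c⁻¹) * (Ly.d⁻¹) * Ly.b * (Ly.a⁻¹) * (Ly.b⁻¹) * (Ly.c⁻¹) * (Ly.b⁻¹) * Ly.a * ((Ly.b ^ 2)⁻¹) * Ly.a * (Ly.b⁻¹)))⁻¹ ∈ Ly.extra := List.getElem_mem (l := Ly.extra) (n := 69) (by decide)
  rw [pm_eq h]
  simp only [w_x369, map_mul, map_inv, map_pow, g_a, g_b, g_c, g_d]

theorem g_x370 : FreeGroup.lift gens w_x370 = pm Ly.x370 := by
  have h : Ly.x370 * (((Ly.d⁻¹) * Ly.a * Ly.c * Ly.b * Ly.c * (Ly.a⁻¹) * (Ly.c⁻¹) * (Ly.d⁻¹) * Ly.a * (Ly.b⁻¹) * (Ly.a⁻¹) * Ly.c * (Ly.a⁻¹) * ((Ly.b ^ 2)⁻¹) * (Ly.a⁻¹) * Ly.b * (Ly.a⁻¹)))⁻¹ ∈ Ly.extra := List.getElem_mem (l := Ly.extra) (n := 70) (by decide)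
  rw [pm_eq h]
  simp only [w_x370, map_mul, map_inv, map_pow, g_a, g_b, g_c, g_d]

theorem g_x371 : FreeGroup.lift gens w_x371 = pm Ly.x371 := by
  have h : Ly.x371 * (((Ly.c⁻¹) * (Ly.a⁻¹) * Ly.c * Ly.b * (Ly.c⁻¹) * (Ly.d⁻¹) * Ly.c * (Ly.a⁻¹) * Ly.c * Ly.a * Ly.c * (Ly.b⁻¹) * (Ly.a⁻¹) * (Ly.b⁻¹) * (Ly.a⁻¹) * Ly.b))⁻¹ ∈ Ly.extra := List.getElem_mem (l := Ly.extra) (n := 71) (by decide)
  rw [pm_eq h]
  simp only [w_x371, map_mul, map_inv, map_pow, g_a, g_b, g_c, g_d]

theorem lift_gens_gw (x : Ly.Gen) : FreeGroup.lift gens (gw x) = pm (FreeGroup.of x) := by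
  cases x
  · exact g_a
  · exact g_b
  · exact g_c
  · exact g_d
  · exact g_z
  · exact g_e
  · exact g_a1
  · exact g_a2
  · exact g_a3
  · exact g_a4
  · exact g_c1
  · exact g_c2
  · exact g_c3
  · exact g_c4
  · exact g_c5
  · exact g_u
  · exact g_x23
  · exact g_x24
  · exact g_x25
  · exact g_x29
  · exact g_x47
  · exact g_x96
  · exact g_x129
  · exact g_x162
  · exact g_x163
  · exact g_x164
  · exact g_x165
  · exact g_x166
  · exact g_x167
  · exact g_x168
  · exact g_x169
  · exact g_x364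
  · exact g_x365
  · exact g_x366
  · exact g_x367
  · exact g_x368
  · exact g_x369
  · exact g_x370
  · exact g_x371

theorem lift_gens_lift_gw (r : FreeGroup Ly.Gen) : FreeGroup.lift gens (FreeGroup.lift gw r) = pm r := by
  rw [← lift_lift]
  have h : (FreeGroup.lift (fun x => FreeGroup.lift gens (gw x)) : FreeGroup Ly.Gen →* Cfsg.Spor.Ly) = pm := by
    ext x
    rw [FreeGroup.lift_apply_of, lift_gens_gw]
  rw [h]

/-- The generators a, b, c, d, z of the presented Lyons group satisfy the 52 words. -/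
theorem rel_hold : ∀ w ∈ relWords, FreeGroup.lift gens (FreeGroup.mk w) = 1 := by
  intro w hw
  obtain ⟨r, hr, h⟩ := words_extra w hw
  rw [← h, FreeGroup.mk_toWord, lift_gens_lift_gw, pm_eq_one hr]

theorem of_mem_closure (x : Ly.Gen) : (PresentedGroup.of x : Cfsg.Spor.Ly) ∈ Subgroup.closure (Set.range gens) := by
  have h : (PresentedGroup.of x : Cfsg.Spor.Ly) = FreeGroup.lift gens (gw x) := (lift_gens_gw x).symm
  rw [h, ← FreeGroup.range_lift_eq_closure]
  exact ⟨gw x, rfl⟩

theorem closure_gens : Subgroup.closure (Set.range gens) = (⊤ : Subgroup Cfsg.Spor.Ly) := by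
  rw [eq_top_iff, ← PresentedGroup.closure_range_of rset, Subgroup.closure_le]
  rintro _ ⟨x, rfl⟩
  exact of_mem_closure x

/-- `hom` maps the generators to the given elements. -/
theorem hom_gens {P : Type*} [Group P] (g : Fin 5 → P)
    (h : ∀ w ∈ relWords, FreeGroup.lift g (FreeGroup.mk w) = 1) (i : Fin 5) : hom g h (gens i) = g i := by
  fin_cases i
  · change hom g h (PresentedGroup.of Ly.Gen.a) = g 0
    rw [hom_of]
    change FreeGroup.lift g w_a = _
    rw [w_a, FreeGroup.lift_apply_of]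
  · change hom g h (PresentedGroup.of Ly.Gen.b) = g 1
    rw [hom_of]
    change FreeGroup.lift g w_b = _
    rw [w_b, FreeGroup.lift_apply_of]
  · change hom g h (PresentedGroup.of Ly.Gen.c) = g 2
    rw [hom_of]
    change FreeGroup.lift g w_c = _
    rw [w_c, FreeGroup.lift_apply_of]
  · change hom g h (PresentedGroup.of Ly.Gen.d) = g 3
    rw [hom_of]
    change FreeGroup.lift g w_d = _
    rw [w_d, FreeGroup.lift_apply_of]
  · change hom g h (PresentedGroup.of Ly.Gen.z) = g 4
    rw [hom_of]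
    change FreeGroup.lift g w_z = _
    rw [w_z, FreeGroup.lift_apply_of]

end Cfsg.Agent.Ly.Pres
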