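import Cfsg.Agent.Ly.Data111
import Cfsg.Agent.Ly.Pres

/-!
# Relators of the Lyons group on 111 x 111 matrices, part B (kernel computation)
-/

set_option autoImplicit false

namespace Cfsg.Agent.Ly.Rel111B

open Cfsg.Agent.Lib.PackMat Cfsg.Agent.Ly.Data111 Cfsg.Agent.Ly.Pres

theorem r26 : checkScalar C (rel26.map code) 1 0 C.n = true := by decide +kernel

theorem r27 : checkScalar C (rel27.map code) 1 0 C.n = true := by decide +kernel

theorem r28 : checkScalar C (rel28.map code) 1 0 C.n = true := by decide +kernel

theorem r30 : checkScalar C (rel30.map code) 1 0 C.n = true := by decide +kernel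

theorem r31 : checkScalar C (rel31.map code) 1 0 C.n = true := by decide +kernel

theorem r32 : checkScalar C (rel32.map code) 1 0 C.n = true := by decide +kernel

theorem r33 : checkScalar C (rel33.map code) 1 0 C.n = true := by decide +kernel

theorem r34 : checkScalar C (rel34.map code) 1 0 C.n = true := by decide +kernel

theorem r35 : checkScalar C (rel35.map code) 1 0 C.n = true := by decide +kernel

theorem r36 : checkScalar C (rel36.map code) 1 0 C.n = true := by decide +kernel

end Cfsg.Agent.Ly.Rel111B
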