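import Cfsg.Agent.Ly.Data111
import Cfsg.Agent.Ly.Pres

/-!
# Relators of the Lyons group on 111 x 111 matrices, part C (kernel computation)
-/

set_option autoImplicit false

namespace Cfsg.Agent.Ly.Rel111C

open Cfsg.Agent.Lib.PackMat Cfsg.Agent.Ly.Data111 Cfsg.Agent.Ly.Pres

theorem r37 : checkScalar C (rel37.map code) 1 0 C.n = true := by decide +kernel

theorem r38 : checkScalar C (rel38.map code) 1 0 C.n = true := by decide +kernel

theorem r39 : checkScalar C (rel39.map code) 1 0 C.n = true := by decide +kernel

theorem r40 : checkScalar C (rel40.map code) 1 0 C.n = true := by decide +kernel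

theorem r41 : checkScalar C (rel41.map code) 1 0 C.n = true := by decide +kernel

theorem r42 : checkScalar C (rel42.map code) 1 0 C.n = true := by decide +kernel

theorem r43 : checkScalar C (rel43.map code) 1 0 C.n = true := by decide +kernel

theorem r44 : checkScalar C (rel44.map code) 1 0 C.n = true := by decide +kernel

theorem r73 : checkScalar C (rel73.map code) 1 0 C.n = true := by decide +kernel

theorem r74 : checkScalar C (rel74.map code) 1 0 C.n = true := by decide +kernel

end Cfsg.Agent.Ly.Rel111C
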