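import Cfsg.Agent.Ly.Data111
import Cfsg.Agent.Ly.Pres

/-!
# Relators of the Lyons group on 111 x 111 matrices, part D (kernel computation)
-/

set_option autoImplicit false

namespace Cfsg.Agent.Ly.Rel111D

open Cfsg.Agent.Lib.PackMat Cfsg.Agent.Ly.Data111 Cfsg.Agent.Ly.Pres

theorem r75 : checkScalar C (rel75.map code) 1 0 C.n = true := by decide +kernel

theorem r76 : checkScalar C (rel76.map code) 1 0 C.n = true := by decide +kernel

theorem r77 : checkScalar C (rel77.map code) 1 0 C.n = true := by decide +kernel

theorem r78 : checkScalar C (rel78.map code) 1 0 C.n = true := by decide +kernel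

theorem r79 : checkScalar C (rel79.map code) 1 0 C.n = true := by decide +kernel

theorem r80 : checkScalar C (rel80.map code) 1 0 C.n = true := by decide +kernel

theorem r81 : checkScalar C (rel81.map code) 1 0 C.n = true := by decide +kernel

theorem r82 : checkScalar C (rel82.map code) 1 0 C.n = true := by decide +kernel

theorem r83 : checkScalar C (rel83.map code) 1 0 C.n = true := by decide +kernel

theorem r84 : checkScalar C (rel84.map code) 1 0 C.n = true := by decide +kernel

theorem r85 : checkScalar C (rel85.map code) 1 0 C.n = true := by decide +kernel

theorem r86 : checkScalar C (rel86.map code) 1 0 C.n = true := by decide +kernel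

end Cfsg.Agent.Ly.Rel111D
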