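import Cfsg.Agent.Ly.Rel111A
import Cfsg.Agent.Ly.Rel111B
import Cfsg.Agent.Ly.Rel111C
import Cfsg.Agent.Ly.Rel111D

/-!
# The 111-dimensional representation of the presented Lyons group over GF(5)

* `gl i` (`i : Fin 5`): the matrices of a, b, c, d, z in `GL (Fin 111) (ZMod 5)`;
* `coe_word`: a word in the letters has the matrix `((w.map code).map (mat C)).prod`, so that equalities between words
  can be checked in the kernel with `Cfsg.Agent.Lib.PackMat`;
* `rho : Cfsg.Spor.Ly →* GL (Fin 111) (ZMod 5)`, `rho_gens`.
-/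

set_option autoImplicit false

namespace Cfsg.Agent.Ly.Rep111

open Cfsg.Agent.Lib.PackMat Cfsg.Agent.Ly.Data111 Cfsg.Agent.Ly.Pres

theorem mul_code {x y : Fin 5 × Bool} (h : checkScalar C [code x, code y] 1 0 C.n = true) :
    mat C (code x) * mat C (code y) = 1 := by
  have h1 := prod_one_of_check good (w := [code x, code y]) (by decide) (by
    intro g hg
    simp only [List.mem_cons, List.not_mem_nil, or_false] at hg
    rcases hg with rfl | rfl <;> exact ok _) h
  simpa using h1

/-- The matrices of a, b, c, d, z. -/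
def gl (i : Fin 5) : GL (Fin 111) (ZMod 5) where
  val := mat C (code (i, true))
  inv := mat C (code (i, false))
  val_inv := mul_code (inv_right i)
  inv_val := mul_code (inv_left i)

theorem coe_letter (x : Fin 5 × Bool) :
    ((cond x.2 (gl x.1) (gl x.1)⁻¹ : GL (Fin 111) (ZMod 5)) : Matrix (Fin 111) (Fin 111) (ZMod 5)) =
      mat C (code x) := by
  obtain ⟨i, b⟩ := x
  cases b <;> rfl

/-- The value of a word. -/
def word (w : List (Fin 5 × Bool)) : GL (Fin 111) (ZMod 5) := FreeGroup.lift gl (FreeGroup.mk w)

theorem word_def (w : List (Fin 5 × Bool)) : word w = FreeGroup.lift gl (FreeGroup.mk w) := rfl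

theorem word_nil : word [] = 1 := by
  rw [word_def, FreeGroup.lift_mk]
  rfl

theorem word_cons (x : Fin 5 × Bool) (w : List (Fin 5 × Bool)) :
    word (x :: w) = cond x.2 (gl x.1) (gl x.1)⁻¹ * word w := by
  rw [word_def, word_def, FreeGroup.lift_mk, FreeGroup.lift_mk, List.map_cons, List.prod_cons]

theorem word_append (v w : List (Fin 5 × Bool)) : word (v ++ w) = word v * word w := by
  rw [word_def, word_def, word_def, ← map_mul, FreeGroup.mul_mk]

theorem coe_word (w : List (Fin 5 × Bool)) :
    (word w : Matrix (Fin 111) (Fin 111) (ZMod 5)) = ((w.map code).map (mat C)).prod := by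
  induction w with
  | nil => rw [word_nil]; rfl
  | cons x w ih =>
    rw [word_cons, Units.val_mul, ih, coe_letter, List.map_cons, List.map_cons, List.prod_cons]
    rfl

theorem ok_map (w : List (Fin 5 × Bool)) : ∀ g ∈ w.map code, okG C g = true := by
  intro g hg
  obtain ⟨x, -, rfl⟩ := List.mem_map.mp hg
  exact ok x

theorem word_eq_one {w : List (Fin 5 × Bool)} (h : checkScalar C (w.map code) 1 0 C.n = true) : word w = 1 := by
  apply Units.ext
  rw [coe_word, Units.val_one]
  exact prod_one_of_check good (by decide) (ok_map w) h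

theorem word_eq {v w : List (Fin 5 × Bool)} (h : checkEq C (v.map code) (w.map code) 0 C.n = true) :
    word v = word w := by
  apply Units.ext
  rw [coe_word, coe_word]
  exact prod_eq_of_check good (by decide) (ok_map v) (ok_map w) h

theorem word_rel : ∀ w ∈ relWords, word w = 1 := by
  intro w hw
  simp only [relWords, List.mem_cons, List.not_mem_nil, or_false] at hw
  apply word_eq_one
  rcases hw with rfl | rfl | rfl | rfl | rfl | rfl | rfl | rfl | rfl | rfl | rfl | rfl | rfl | rfl | rfl | rfl | rfl | rfl | rfl | rfl | rfl | rfl | rfl | rfl | rfl | rfl | rfl | rfl | rfl | rfl | rfl | rfl | rfl | rfl | rfl | rfl | rfl | rfl | rfl | rfl | rfl | rfl | rfl | rfl | rfl | rfl | rfl | rfl | rfl | rfl | rfl | rfl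
  · exact Rel111A.r1
  · exact Rel111A.r2
  · exact Rel111A.r3
  · exact Rel111A.r4
  · exact Rel111A.r5
  · exact Rel111A.r11
  · exact Rel111A.r12
  · exact Rel111A.r13
  · exact Rel111A.r14
  · exact Rel111A.r15
  · exact Rel111A.r16
  · exact Rel111A.r17
  · exact Rel111A.r18
  · exact Rel111A.r19
  · exact Rel111A.r20
  · exact Rel111A.r21
  · exact Rel111A.r22
  · exact Rel111A.r23
  · exact Rel111A.r24
  · exact Rel111A.r25
  · exact Rel111B.r26
  · exact Rel111B.r27
  · exact Rel111B.r28
  · exact Rel111B.r30
  · exact Rel111B.r31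
  · exact Rel111B.r32
  · exact Rel111B.r33
  · exact Rel111B.r34
  · exact Rel111B.r35
  · exact Rel111B.r36
  · exact Rel111C.r37
  · exact Rel111C.r38
  · exact Rel111C.r39
  · exact Rel111C.r40
  · exact Rel111C.r41
  · exact Rel111C.r42
  · exact Rel111C.r43
  · exact Rel111C.r44
  · exact Rel111C.r73
  · exact Rel111C.r74
  · exact Rel111D.r75
  · exact Rel111D.r76
  · exact Rel111D.r77
  · exact Rel111D.r78
  · exact Rel111D.r79
  · exact Rel111D.r80
  · exact Rel111D.r81
  · exact Rel111D.r82
  · exact Rel111D.r83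
  · exact Rel111D.r84
  · exact Rel111D.r85
  · exact Rel111D.r86

/-- The 111-dimensional representation over GF(5) of the presented Lyons group. -/
def rho : Cfsg.Spor.Ly →* GL (Fin 111) (ZMod 5) := hom gl word_rel

theorem rho_gens (i : Fin 5) : rho (gens i) = gl i := hom_gens gl word_rel i

theorem rho_lift (w : List (Fin 5 × Bool)) : rho (FreeGroup.lift gens (FreeGroup.mk w)) = word w := by
  have h : rho.comp (FreeGroup.lift gens) = FreeGroup.lift gl := by
    ext i
    rw [MonoidHom.comp_apply, FreeGroup.lift_apply_of, rho_gens, FreeGroup.lift_apply_of]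
  rw [word_def, ← h]
  rfl

end Cfsg.Agent.Ly.Rep111
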