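import Cfsg.Agent.Ly.Cover
import Cfsg.Agent.SporRec.LyG2.Hom

/-!
# `Ĥ = ⟨a,b,c,d⟩` (matrices of `Mat7`) and the relations 1–44

The matrices of `Ly.Mat7` are those of `SporRec.LyG2`; hence `|Ĥ| = 5859000000` and for every group containing elements
satisfying the relations 1–44 there is a homomorphism from `Ĥ` mapping the generators to them.
-/

set_option autoImplicit false

namespace Cfsg.Agent.Ly.T1

open Cfsg.Agent.Lib.PackMat Cfsg.Agent.Ly.Mat7 Cfsg.Agent.Ly.CoverCore Cfsg.Agent.Ly.Cover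
open Cfsg.Agent.SporRec.LyG2.M7Data (C7)
open Cfsg.Agent.SporRec.LyG2.M7 (GL7 M7 cd X X_val card_M7)
open Cfsg.Agent.SporRec.LyG2.Hom (gen7 closure_gen7 psi psi_gen7)
open Cfsg.Agent.SporRec.LyG2.Rel (Rel44)

theorem dig (k : Fin 4) : ∀ i < 7, ∀ j < 7, dg 16 (tab TG k) (7 * i + j) = dg C7.s (cd (2 * k)) (i + C7.n * j) := by
  fin_cases k <;> decide +kernel

theorem gen_eq (k : Fin 4) : (gen k : GL75) = (gen7 k : GL7) := by
  have key : ∀ k : Fin 4, toM (tab TG k) = mat C7 (cd (2 * k)) := by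
    intro k
    funext i j
    change ((dg 16 (tab TG k) (7 * i + j) : ℕ) : ZMod 5) = ((dg C7.s (cd (2 * k)) (i + C7.n * j) : ℕ) : ZMod 5)
    rw [dig k i i.2 j j.2]
  apply Units.ext
  fin_cases k
  · exact (key 0).trans (X_val 0).symm
  · exact (key 1).trans (X_val 2).symm
  · exact (key 2).trans (X_val 4).symm
  · exact (key 3).trans (X_val 6).symm

theorem Hhat_eq_M7 : (Hhat : Subgroup GL75) = (M7 : Subgroup GL7) := by
  rw [← closure_gen7]
  have h : (gen : Fin 4 → GL75) = (gen7 : Fin 4 → GL7) := funext gen_eq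
  exact congrArg (fun f : Fin 4 → GL75 => Subgroup.closure (Set.range f)) h

theorem card_Hhat : Nat.card Hhat = 5859000000 := by
  rw [Hhat_eq_M7]
  exact card_M7

theorem gen_mem (i : Fin 4) : gen i ∈ Hhat := Subgroup.subset_closure ⟨i, rfl⟩

/-- The homomorphism given by the relations 1–44. -/
theorem exists_hom {G : Type*} [Group G] {a b c d e c1 c2 c3 c4 c5 : G} (h : Rel44 a b c d e c1 c2 c3 c4 c5) :
    ∃ φ : Hhat →* G, ∀ i, φ ⟨gen i, gen_mem i⟩ = ![a, b, c, d] i := by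
  have e : (Hhat : Subgroup GL75) = (M7 : Subgroup GL7) := Hhat_eq_M7
  refine ⟨(psi h).comp (MulEquiv.subgroupCongr e).toMonoidHom, fun i => ?_⟩
  have hi : gen7 i ∈ M7 := by
    rw [← closure_gen7]
    exact Subgroup.subset_closure ⟨i, rfl⟩
  rw [← psi_gen7 h i hi, MonoidHom.comp_apply]
  congr 1
  exact Subtype.ext (gen_eq i)

theorem hom_ev {G : Type*} [Group G] (φ : Hhat →* G) (x : Fin 4 → G) (hφ : ∀ i, φ ⟨gen i, gen_mem i⟩ = x i)
    (w : List ℕ) : φ ⟨ev gen w, ev_mem_Hhat w⟩ = ev x w := by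
  have h1 : (⟨ev gen w, ev_mem_Hhat w⟩ : Hhat) = ev (fun i => (⟨gen i, gen_mem i⟩ : Hhat)) w := by
    apply Subtype.ext
    change ev gen w = Hhat.subtype (ev (fun i => (⟨gen i, gen_mem i⟩ : Hhat)) w)
    rw [map_ev]
    rfl
  rw [h1, map_ev]
  congr 1
  funext i
  exact hφ i

/-- Words with the same matrix have the same value in every group satisfying the relations 1–44. -/
theorem ev_eq_of {G : Type*} [Group G] {a b c d e c1 c2 c3 c4 c5 : G} (h : Rel44 a b c d e c1 c2 c3 c4 c5)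
    {v w : List ℕ} (hvw : ev gen v = ev gen w) : ev ![a, b, c, d] v = ev ![a, b, c, d] w := by
  obtain ⟨φ, hφ⟩ := exists_hom h
  rw [← hom_ev φ _ hφ v, ← hom_ev φ _ hφ w]
  congr 1
  exact Subtype.ext hvw

end Cfsg.Agent.Ly.T1
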