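import Cfsg.Agent.Ly.Upper
import Cfsg.Agent.Ly.T1

/-!
# The index of ⟨a, b, c, d⟩ in the Lyons group is at most 8835156
-/

set_option autoImplicit false

namespace Cfsg.Agent.Ly.Index

open Cfsg.Agent.Ly.Mat7 Cfsg.Agent.Ly.Pres Cfsg.Agent.Ly.WalkCtx Cfsg.Agent.Ly.CoverCore Cfsg.Agent.Ly.Cover
  Cfsg.Agent.Ly.Upper

/-- the stabilisers as subgroups of `Hhat` -/
abbrev S (i : ℕ) : Subgroup Hhat := (Hsub i).subgroupOf Hhat

theorem card_S (i : ℕ) : Nat.card (S i) = Nat.card (Hsub i) :=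
  Nat.card_congr (Subgroup.subgroupOfEquivOfLe (Hsub_le_Hhat i)).toEquiv

instance : Finite Hhat := Nat.finite_of_card_ne_zero (by rw [T1.card_Hhat]; norm_num)

theorem index_S_le {i a m : ℕ} (ha : 0 < a) (hA : a ≤ Nat.card (Hsub i)) (ham : a * m = 5859000000) :
    Nat.card (Hhat ⧸ S i) ≤ m := by
  have h1 := (S i).card_mul_index
  rw [T1.card_Hhat, ← ham] at h1
  rw [← card_S] at hA
  have h2 : a * (S i).index ≤ a * m := by
    rw [← h1]
    exact Nat.mul_le_mul_right _ hA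
  exact Nat.le_of_mul_le_mul_left h2 ha

section

variable {P : Type*} [Group P] {x : Fin 5 → P} (D : Data x)

theorem conj_S' (i : ℕ) (hi : i < 5) (s : Hhat) (hs : s ∈ S i) : base x i * D.φ s * (base x i)⁻¹ ∈ HH x := by
  rcases Nat.eq_zero_or_pos i with rfl | hpos
  · show 1 * D.φ s * 1⁻¹ ∈ HH x
    rw [one_mul, inv_one, mul_one, ← D.range_φ]
    exact ⟨s, rfl⟩
  · exact D.conj_S i hpos (by omega) s hs

/-- the map onto the cosets -/
def f : (Σ i : Fin 5, Hhat ⧸ S i) → P ⧸ HH x := fun p =>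
  Quotient.liftOn' p.2 (fun y => (QuotientGroup.mk (D.φ y * (base x p.1)⁻¹) : P ⧸ HH x)) (by
    intro y y' h
    rw [QuotientGroup.leftRel_apply] at h
    rw [QuotientGroup.eq]
    have h1 := conj_S' D p.1 p.1.2 _ h
    rw [map_mul, map_inv] at h1
    have e : (D.φ y * (base x p.1)⁻¹)⁻¹ * (D.φ y' * (base x p.1)⁻¹) =
        base x p.1 * ((D.φ y)⁻¹ * D.φ y') * (base x p.1)⁻¹ := by group
    rw [e]
    exact h1)

theorem f_surjective (hgen : Subgroup.closure (Set.range x) = ⊤) : Function.Surjective (f D) := by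
  intro q
  induction q using QuotientGroup.induction_on with
  | H g =>
    obtain ⟨i, hi, h1, hh1, h2, hh2, hg⟩ := D.double_cosets hgen g⁻¹
    have hh3 := (HH x).inv_mem hh2
    rw [← D.range_φ] at hh3
    obtain ⟨y, hy⟩ := hh3
    refine ⟨⟨⟨i, hi⟩, QuotientGroup.mk y⟩, ?_⟩
    show (QuotientGroup.mk (D.φ y * (base x i)⁻¹) : P ⧸ HH x) = QuotientGroup.mk g
    rw [QuotientGroup.eq, hy]
    have e : (h2⁻¹ * (base x i)⁻¹)⁻¹ * g = h1⁻¹ := by
      have hg2 : g = (h1 * base x i * h2)⁻¹ := by rw [← hg, inv_inv]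
      rw [hg2]; group
    rw [e]
    exact (HH x).inv_mem hh1

include D in
theorem index_le (hgen : Subgroup.closure (Set.range x) = ⊤) :
    Finite (P ⧸ HH x) ∧ (HH x).index ≤ 8835156 := by
  have hf := f_surjective D hgen
  have hfin : Finite (P ⧸ HH x) := Finite.of_surjective _ hf
  refine ⟨hfin, ?_⟩
  have h1 : Nat.card (P ⧸ HH x) ≤ Nat.card (Σ i : Fin 5, Hhat ⧸ S i) := Nat.card_le_card_of_surjective _ hf
  rw [Nat.card_sigma, Fin.sum_univ_five] at h1
  have h2 : Nat.card (Hhat ⧸ S ((0 : Fin 5) : ℕ)) ≤ 1 := by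
    refine index_S_le (a := 5859000000) (by norm_num) ?_ (by norm_num)
    show 5859000000 ≤ Nat.card (Hsub 0)
    rw [Hsub_zero, T1.card_Hhat]
  have h3 : Nat.card (Hhat ⧸ S ((1 : Fin 5) : ℕ)) ≤ 19530 :=
    index_S_le (a := 300000) (by norm_num) card_Hsub_one (by norm_num)
  have h4 : Nat.card (Hhat ⧸ S ((2 : Fin 5) : ℕ)) ≤ 968750 :=
    index_S_le (a := 6048) (by norm_num) card_Hsub_two (by norm_num)
  have h5 : Nat.card (Hhat ⧸ S ((3 : Fin 5) : ℕ)) ≤ 2034375 :=
    index_S_le (a := 2880) (by norm_num) card_Hsub_three (by norm_num)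
  have h6 : Nat.card (Hhat ⧸ S ((4 : Fin 5) : ℕ)) ≤ 5812500 :=
    index_S_le (a := 1008) (by norm_num) card_Hsub_four (by norm_num)
  have h7 : (HH x).index = Nat.card (P ⧸ HH x) := rfl
  rw [h7]
  omega

include D in
theorem finite_HH : Finite (HH x) ∧ Nat.card (HH x) ≤ 5859000000 := by
  have h : Finite D.φ.range := Finite.of_surjective D.φ.rangeRestrict D.φ.rangeRestrict_surjective
  have h2 : Nat.card D.φ.range ≤ 5859000000 := by
    rw [← T1.card_Hhat]
    exact Nat.card_le_card_of_surjective D.φ.rangeRestrict D.φ.rangeRestrict_surjective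
  rw [D.range_φ] at h h2
  exact ⟨h, h2⟩

include D in
theorem card_le (hgen : Subgroup.closure (Set.range x) = ⊤) :
    Finite P ∧ Nat.card P ≤ 51765179004000000 := by
  obtain ⟨h1, h2⟩ := index_le D hgen
  obtain ⟨h3, h4⟩ := finite_HH D
  have hP : Finite P := by
    have e : P ≃ (P ⧸ HH x) × HH x := Subgroup.groupEquivQuotientProdSubgroup
    exact Finite.of_equiv _ e.symm
  refine ⟨hP, ?_⟩
  rw [← (HH x).card_mul_index]
  calc Nat.card (HH x) * (HH x).index ≤ 5859000000 * 8835156 := Nat.mul_le_mul h4 h2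
    _ = 51765179004000000 := by norm_num

end

/-! ### The presented group -/

theorem nonempty_data : Nonempty (Data gens) := by
  obtain ⟨φ, hφ⟩ := T1.exists_hom SporRec.LyG2.Hom.rel44_ly
  exact ⟨⟨rel_hold, φ, fun i => by
    rw [show (⟨gen i, Subgroup.subset_closure ⟨i, rfl⟩⟩ : Hhat) = ⟨gen i, T1.gen_mem i⟩ from rfl, hφ i]
    fin_cases i <;> rfl⟩⟩

/-- a fixed choice of the homomorphism -/
noncomputable def data : Data gens := nonempty_data.some

/-- The presented Lyons group is finite of order at most the order of the Lyons group. -/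
theorem card_ly_le : Finite Cfsg.Spor.Ly ∧ Nat.card Cfsg.Spor.Ly ≤ 51765179004000000 := card_le data closure_gens

/-- The index of ⟨a, b, c, d⟩. -/
theorem index_ly_le : (HH gens).index ≤ 8835156 := (index_le data closure_gens).2

end Cfsg.Agent.Ly.Index
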