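import Cfsg.Prelude.Def_SporadicB
import Cfsg.Agent.Lib.AltCarmichael

/-!
# Recognition of the non-split double cover of an alternating group

`doubleCover_of_carmichael`: a finite group with a central involution `t`, of order at most `n!`, containing
elements satisfying the relations of Carmichael modulo `t` and a square root of `t`, is a non-split double cover of
the alternating group.
-/

set_option autoImplicit false

namespace Cfsg.Agent.Ly.DoubleCover

open Subgroup
open Cfsg.Agent.Lib.AltCarmichael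

/-- Carmichael's presentation of `A_11`, for a family indexed by `Fin 9`. -/
theorem carmichael11 {C : Type*} [Group C] (x : Fin 9 → C) (h3 : ∀ i, x i ^ 3 = 1)
    (h2 : ∀ i j, i ≠ j → (x i * x j) ^ 2 = 1) :
    ∃ f : alternatingGroup (Fin 11) →* C, ∀ i, x i ∈ f.range := by
  let y : ℕ → C := fun i => if h : i < 9 then x ⟨i, h⟩ else 1
  have hy : ∀ i (h : i < 9), y i = x ⟨i, h⟩ := fun i h => dif_pos h
  have hrel : Rel 9 y := by
    constructor
    · intro i hi
      rw [hy i hi]; exact h3 _
    · intro i hi j hj hij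
      rw [hy i hi, hy j hj]
      exact h2 _ _ (fun h => hij (Fin.mk.inj_iff.mp h))
  obtain ⟨f, hf⟩ := exists_hom (by omega) hrel
  refine ⟨f, fun i => ⟨⟨cyc 9 i, cyc_mem 9 i i.2⟩, ?_⟩⟩
  rw [hf i i.2, hy i i.2]

/-- General form: `n ≥ 5` points. -/
theorem doubleCover {n : ℕ} (hn : 5 ≤ n) {C : Type*} [Group C] [Finite C] (t : C) (ht : orderOf t = 2)
    (hc : ∀ g, g * t = t * g) (hcard : Nat.card C ≤ n.factorial) (x : ℕ → C)
    (h3 : ∀ i < n - 2, x i ^ 3 = 1 ∨ x i ^ 3 = t)
    (h2 : ∀ i < n - 2, ∀ j < n - 2, i ≠ j → (x i * x j) ^ 2 = 1 ∨ (x i * x j) ^ 2 = t)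
    (hx : ∃ i < n - 2, x i ≠ 1 ∧ x i ≠ t) (g : C) (hg : g ^ 2 = t) :
    Nat.card C = n.factorial ∧ Cfsg.IsNonsplitDoubleCover C (alternatingGroup (Fin n)) := by
  classical
  obtain ⟨m, rfl⟩ : ∃ m, n = m + 2 := ⟨n - 2, by omega⟩
  rw [Nat.add_sub_cancel] at h3 h2 hx
  have ht2 : t ^ 2 = 1 := by rw [← ht]; exact pow_orderOf_eq_one t
  have ht1 : t ≠ 1 := by
    intro h; rw [h, orderOf_one] at ht; omega
  have hmemZ : ∀ y, y ∈ zpowers t ↔ y = 1 ∨ y = t := by
    intro y
    constructor
    · intro hy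
      rw [mem_zpowers_iff_mem_range_orderOf (x := t), ht] at hy
      simp only [Finset.mem_image, Finset.mem_range] at hy
      obtain ⟨k, hk, rfl⟩ := hy
      interval_cases k
      · left; exact pow_zero t
      · right; exact pow_one t
    · rintro (rfl | rfl)
      · exact one_mem _
      · exact mem_zpowers _
  have hZc : zpowers t ≤ center C := by
    rw [zpowers_le, mem_center_iff]
    exact hc
  have : (zpowers t).Normal := ⟨fun a ha g => by
    have := mem_center_iff.mp (hZc ha) g
    rw [this, mul_inv_cancel_right]; exact ha⟩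
  have hZcard : Nat.card (zpowers t) = 2 := by rw [Nat.card_zpowers, ht]
  let q : C →* C ⧸ zpowers t := QuotientGroup.mk' (zpowers t)
  have hqk : ∀ y, q y = 1 ↔ y = 1 ∨ y = t := fun y => by
    rw [← hmemZ]; exact QuotientGroup.eq_one_iff y
  have hrel : Rel m (fun i => q (x i)) := by
    constructor
    · intro i hi
      show q (x i) ^ 3 = 1
      rw [← map_pow, hqk]
      exact h3 i hi
    · intro i hi j hj hij
      show (q (x i) * q (x j)) ^ 2 = 1
      rw [← map_mul, ← map_pow, hqk]
      exact h2 i hi j hj hij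
  obtain ⟨f, hf⟩ := exists_hom (by omega) hrel
  have hcardα : Nat.card (Fin (m + 2)) = m + 2 := by rw [Nat.card_eq_fintype_card, Fintype.card_fin]
  have hsimple : IsSimpleGroup (alternatingGroup (Fin (m + 2))) :=
    alternatingGroup.isSimpleGroup (by rw [hcardα]; omega)
  have hinj : Function.Injective f := by
    rw [← MonoidHom.ker_eq_bot_iff]
    rcases (inferInstance : f.ker.Normal).eq_bot_or_eq_top with hb | htop
    · exact hb
    · exfalso
      obtain ⟨i, hi, hxi1, hxit⟩ := hx
      have h1 : (⟨cyc m i, cyc_mem m i hi⟩ : alternatingGroup (Fin (m + 2))) ∈ f.ker := by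
        rw [htop]; exact mem_top _
      rw [MonoidHom.mem_ker, hf i hi, hqk] at h1
      rcases h1 with h | h
      · exact hxi1 h
      · exact hxit h
  have hcardA : 2 * Nat.card (alternatingGroup (Fin (m + 2))) = (m + 2).factorial := by
    have : Nontrivial (Fin (m + 2)) := ⟨⟨0, 1, by simp⟩⟩
    rw [Nat.card_eq_fintype_card, two_mul_card_alternatingGroup, Fintype.card_perm, Fintype.card_fin]
  have hcardC : Nat.card C = Nat.card (C ⧸ zpowers t) * 2 := by
    rw [card_eq_card_quotient_mul_card_subgroup (zpowers t), hZcard]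
  have hle : Nat.card (alternatingGroup (Fin (m + 2))) ≤ Nat.card (C ⧸ zpowers t) :=
    Nat.card_le_card_of_injective f hinj
  have heq : Nat.card (alternatingGroup (Fin (m + 2))) = Nat.card (C ⧸ zpowers t) := by omega
  have hbij : Function.Bijective f := (Nat.bijective_iff_injective_and_card f).mpr ⟨hinj, heq⟩
  let e : alternatingGroup (Fin (m + 2)) ≃* C ⧸ zpowers t := MulEquiv.ofBijective f hbij
  have hcenterA : center (alternatingGroup (Fin (m + 2))) = ⊥ :=
    alternatingGroup.center_eq_bot (by rw [hcardα]; omega)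
  have hcenter : center C = zpowers t := by
    apply le_antisymm _ hZc
    intro z hz
    have h1 : e.symm (q z) ∈ center (alternatingGroup (Fin (m + 2))) := by
      rw [mem_center_iff]
      intro a
      apply e.injective
      rw [map_mul, map_mul, e.apply_symm_apply]
      obtain ⟨c, hc'⟩ := QuotientGroup.mk'_surjective (zpowers t) (e a)
      rw [← hc']
      show q c * q z = q z * q c
      rw [← map_mul, ← map_mul, mem_center_iff.mp hz c]
    rw [hcenterA, mem_bot] at h1
    have h2 : q z = 1 := by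
      rw [← e.apply_symm_apply (q z), h1, map_one]
    exact (QuotientGroup.eq_one_iff z).mp h2
  refine ⟨by omega, ?_, ?_, ?_⟩
  · rw [hcenter, hZcard]
  · exact ⟨(QuotientGroup.quotientMulEquivOfEq hcenter).trans e.symm⟩
  · intro L hL
    rw [hcenter] at hL
    have hbot : zpowers t ⊓ L = ⊥ := hL.disjoint.eq_bot
    have htop : zpowers t ⊔ L = ⊤ := hL.sup_eq_top
    have hgm : g ∈ zpowers t ⊔ L := by rw [htop]; exact mem_top _
    obtain ⟨z, hz, l, hl, hzl⟩ := mem_sup_of_normal_left.mp hgm
    have hz2 : z ^ 2 = 1 := by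
      rcases (hmemZ z).mp hz with rfl | rfl
      · exact one_pow 2
      · exact ht2
    have hcomm : Commute z l := (mem_center_iff.mp (hZc hz) l).symm
    have h3 : l ^ 2 = t := by
      rw [← hg, ← hzl, hcomm.mul_pow, hz2, one_mul]
    have h4 : t ∈ zpowers t ⊓ L := ⟨mem_zpowers t, by rw [← h3]; exact pow_mem hl 2⟩
    rw [hbot, mem_bot] at h4
    exact ht1 h4

/-- The case `n = 11`, used for the Lyons group. -/
theorem doubleCover_of_carmichael {C : Type*} [Group C] [Finite C] (t : C) (ht : orderOf t = 2)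
    (hc : ∀ g, g * t = t * g) (hcard : Nat.card C ≤ 39916800) (x : Fin 9 → C)
    (h3 : ∀ i, x i ^ 3 = 1 ∨ x i ^ 3 = t)
    (h2 : ∀ i j, i ≠ j → (x i * x j) ^ 2 = 1 ∨ (x i * x j) ^ 2 = t)
    (hx : x 0 ≠ 1 ∧ x 0 ≠ t) (g : C) (hg : g ^ 2 = t) :
    Nat.card C = 39916800 ∧ Cfsg.IsNonsplitDoubleCover C (alternatingGroup (Fin 11)) := by
  let y : ℕ → C := fun i => if h : i < 9 then x ⟨i, h⟩ else 1
  have hy : ∀ i (h : i < 9), y i = x ⟨i, h⟩ := fun i h => dif_pos h
  have hfac : (11).factorial = 39916800 := by decide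
  have h := doubleCover (n := 11) (by omega) t ht hc (by rw [hfac]; exact hcard) y
    (by intro i hi; rw [hy i hi]; exact h3 _)
    (by
      intro i hi j hj hij
      rw [hy i hi, hy j hj]
      exact h2 _ _ (fun h => hij (Fin.mk.inj_iff.mp h)))
    ⟨0, by omega, by rw [hy 0 (by omega)]; exact hx⟩ g hg
  rwa [hfac] at h

end Cfsg.Agent.Ly.DoubleCover
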