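import Cfsg.Prelude.Def_SporadicB
import Cfsg.Prelude.Def_Sporadic
import Cfsg.Prelude.Def_Exceptional
import Cfsg.Agent.Lib.PermRealization
import Cfsg.Agent.Ly.DoubleCover

/-!
# Assembly of S0454 from an abstract Lyons group

`of_group`: a simple group of the order of `Ly` with a subgroup of the order of `G₂(5)` which is simple and an
involution with centraliser `2·A₁₁` gives the statement of S0454.  `isNonsplitDoubleCover_congr` transports
`IsNonsplitDoubleCover` along isomorphisms.
-/

set_option autoImplicit false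

namespace Cfsg.Agent.Ly.Assembly

open Subgroup
open Cfsg.Agent.Lib.PermRealization

theorem map_center {H H' : Type*} [Group H] [Group H'] (e : H ≃* H') :
    (center H).map e.toMonoidHom = center H' := by
  ext z
  rw [mem_map, mem_center_iff]
  constructor
  · rintro ⟨y, hy, rfl⟩ g
    rw [mem_center_iff] at hy
    show g * e y = e y * g
    rw [← e.apply_symm_apply g, ← map_mul, ← map_mul, hy]
  · intro h
    refine ⟨e.symm z, ?_, e.apply_symm_apply z⟩
    rw [mem_center_iff]
    intro g
    apply e.injective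
    rw [map_mul, map_mul, e.apply_symm_apply, h]

/-- `IsNonsplitDoubleCover` is invariant under isomorphism of the cover. -/
theorem isNonsplitDoubleCover_congr {H H' K : Type*} [Group H] [Group H'] [Group K] (e : H ≃* H')
    (h : Cfsg.IsNonsplitDoubleCover H K) : Cfsg.IsNonsplitDoubleCover H' K := by
  obtain ⟨h1, ⟨f⟩, h3⟩ := h
  have hmap : (center H).map e.toMonoidHom = center H' := map_center e
  refine ⟨?_, ?_, ?_⟩
  · rw [← Nat.card_congr (centerCongr e).toEquiv, h1]
  · exact ⟨(QuotientGroup.congr (center H) (center H') e hmap).symm.trans f⟩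
  · intro L hL
    apply h3 (L.comap e.toMonoidHom)
    rw [isComplement'_def, isComplement_iff_existsUnique] at hL ⊢
    intro g
    obtain ⟨⟨⟨a, ha⟩, ⟨b, hb⟩⟩, hab, huniq⟩ := hL (e g)
    have ha' : e.symm a ∈ (center H : Set H) := by
      have : a ∈ (center H).map e.toMonoidHom := by rw [hmap]; exact ha
      obtain ⟨y, hy, hya⟩ := this
      have : e.symm a = y := by rw [← hya]; exact e.symm_apply_apply y
      rw [this]; exact hy
    have hb' : e.symm b ∈ (L.comap e.toMonoidHom : Set H) := by
      show e (e.symm b) ∈ L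
      rw [e.apply_symm_apply]; exact hb
    refine ⟨(⟨e.symm a, ha'⟩, ⟨e.symm b, hb'⟩), ?_, ?_⟩
    · show e.symm a * e.symm b = g
      have : a * b = e g := hab
      rw [← map_mul, this, e.symm_apply_apply]
    · rintro ⟨⟨c, hc⟩, ⟨d, hd⟩⟩ hcd
      have hc' : e c ∈ (center H' : Set H') := by
        rw [← hmap]; exact ⟨c, hc, rfl⟩
      have hd' : e d ∈ (L : Set H') := hd
      have hcd' : c * d = g := hcd
      have h4 := huniq (⟨e c, hc'⟩, ⟨e d, hd'⟩) (by
        show e c * e d = e g
        rw [← map_mul, hcd'])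
      have h5 : e c = a := congrArg (fun p => (p.1 : H')) h4
      have h6 : e d = b := congrArg (fun p => (p.2 : H')) h4
      refine Prod.ext (Subtype.ext ?_) (Subtype.ext ?_)
      · show c = e.symm a
        rw [← h5, e.symm_apply_apply]
      · show d = e.symm b
        rw [← h6, e.symm_apply_apply]

/-- Centralisers of corresponding elements. -/
theorem nonempty_centralizer_equiv {G H : Type*} [Group G] [Group H] (e : G ≃* H) (t : G) :
    Nonempty (centralizer ({t} : Set G) ≃* centralizer ({e t} : Set H)) := by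
  have hmap : (centralizer ({t} : Set G)).map e.toMonoidHom = centralizer ({e t} : Set H) := by
    ext z
    rw [mem_map, mem_centralizer_singleton_iff]
    constructor
    · rintro ⟨y, hy, rfl⟩
      rw [mem_centralizer_singleton_iff] at hy
      show e y * e t = e t * e y
      rw [← map_mul, ← map_mul, hy]
    · intro h
      refine ⟨e.symm z, ?_, e.apply_symm_apply z⟩
      rw [mem_centralizer_singleton_iff]
      apply e.injective
      rw [map_mul, map_mul, e.apply_symm_apply, h]
  exact ⟨(e.subgroupMap _).trans (MulEquiv.subgroupCongr hmap)⟩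

/-- The statement of S0454 from an abstract group. -/
theorem of_group {G : Type*} [Group G] [Finite G] (hG : Cfsg.IsLy G) (K : Subgroup G)
    (hcard : Nat.card K = 5859000000) (hK : IsSimpleGroup K) (t : G) (ht : orderOf t = 2)
    (hcov : Cfsg.IsNonsplitDoubleCover (centralizer ({t} : Set G)) (alternatingGroup (Fin 11))) :
    ∃ H : Subgroup (Equiv.Perm (Fin 8835156)), Cfsg.IsLy H ∧ MulAction.IsPretransitive H (Fin 8835156) ∧
      Cfsg.IsG2 (MulAction.stabilizer H (0 : Fin 8835156)) ∧
      ∃ t : H, orderOf t = 2 ∧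
        Cfsg.IsNonsplitDoubleCover (Subgroup.centralizer ({t} : Set H)) (alternatingGroup (Fin 11)) := by
  obtain ⟨hsimple, hcardG⟩ := hG
  obtain ⟨H, e, hHs, hHc, htrans, f, -⟩ := exists_perm_subgroup_of_card K 8835156 51765179004000000
    (by norm_num) hcardG (by rw [hcard])
  refine ⟨H, ⟨hHs, hHc⟩, htrans, ⟨?_, 5, ?_, by norm_num, ?_⟩, e t, ?_, ?_⟩
  · exact isSimpleGroup_of_mulEquiv f
  · exact Nat.Prime.isPrimePow (by norm_num)
  · rw [← Nat.card_congr f.toEquiv, hcard]
    norm_num
  · rw [← ht]; exact MulEquiv.orderOf_eq e t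
  · obtain ⟨c⟩ := nonempty_centralizer_equiv e t
    exact isNonsplitDoubleCover_congr c hcov

/-- The same with the centraliser given by an order bound, Carmichael elements and a square root of `t`. -/
theorem of_carmichael {G : Type*} [Group G] [Finite G] (hG : Cfsg.IsLy G) (K : Subgroup G)
    (hcard : Nat.card K = 5859000000) (hK : IsSimpleGroup K) (t : G) (ht : orderOf t = 2)
    (hle : Nat.card (centralizer ({t} : Set G)) ≤ 39916800) (x : Fin 9 → G)
    (hxc : ∀ i, x i * t = t * x i)
    (h3 : ∀ i, x i ^ 3 = 1 ∨ x i ^ 3 = t)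
    (h2 : ∀ i j, i ≠ j → (x i * x j) ^ 2 = 1 ∨ (x i * x j) ^ 2 = t)
    (hx : x 0 ≠ 1 ∧ x 0 ≠ t) (g : G) (hg : g ^ 2 = t) :
    ∃ H : Subgroup (Equiv.Perm (Fin 8835156)), Cfsg.IsLy H ∧ MulAction.IsPretransitive H (Fin 8835156) ∧
      Cfsg.IsG2 (MulAction.stabilizer H (0 : Fin 8835156)) ∧
      ∃ t : H, orderOf t = 2 ∧
        Cfsg.IsNonsplitDoubleCover (Subgroup.centralizer ({t} : Set H)) (alternatingGroup (Fin 11)) := by
  refine of_group hG K hcard hK t ht ?_
  let C := centralizer ({t} : Set G)
  have hmem : ∀ y : G, y * t = t * y → y ∈ C := fun y hy => mem_centralizer_singleton_iff.mpr hy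
  let t' : C := ⟨t, hmem t rfl⟩
  let x' : Fin 9 → C := fun i => ⟨x i, hmem _ (hxc i)⟩
  let g' : C := ⟨g, hmem _ (by rw [← hg, ← pow_succ, ← pow_succ'])⟩
  refine (DoubleCover.doubleCover_of_carmichael (C := C) t' ?_ ?_ hle x' ?_ ?_ ?_ g' ?_).2
  · rw [← ht, ← orderOf_coe]
  · intro y
    apply Subtype.ext
    exact mem_centralizer_singleton_iff.mp y.2
  · intro i
    rcases h3 i with h | h
    · left; exact Subtype.ext h
    · right; exact Subtype.ext h
  · intro i j hij
    rcases h2 i j hij with h | h
    · left; exact Subtype.ext h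
    · right; exact Subtype.ext h
  · exact ⟨fun h => hx.1 (congrArg Subtype.val h), fun h => hx.2 (congrArg Subtype.val h)⟩
  · exact Subtype.ext hg

end Cfsg.Agent.Ly.Assembly
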