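import Cfsg.Agent.Ly.CardLevel

/-!
Orbits for the primes 7, 11, 31, 37, 67 dividing the order of the 111-dimensional matrix group over GF(5).
-/

set_option autoImplicit false

namespace Cfsg.Agent.Ly.CardDataP

open Cfsg.Agent.Lib.PackMat Cfsg.Agent.Lib.PackOrbDvd Cfsg.Agent.Ly.Data111 Cfsg.Agent.Ly.Rep111 Cfsg.Agent.Ly.CardLevel

/-- row of level 0 of the chain F7 -/
def vF7_0 : ℕ := 0x1000000000000000000000000000000000000000000000000000000000000000000000000000000000000000000000000000000000000000000000000000000000000000000000000000000000000000000000000000000000000000000000000000000000000000000000000000000000000000000000000000000000000000000000000000000000000000000000000000000000000000000000000000000000000000000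

/-- words of level 0 of the chain F7 -/
def wF7_0 : List (List (Fin 5 × Bool)) := [
  [(3, true), (2, true), (1, true), (1, true)]]

theorem okF7_0 : okRB C vF7_0 = true := by decide +kernel

set_option maxRecDepth 100000 in
theorem orbF7_0 : orbB C (wF7_0.map fun w => w.map code) vF7_0 7 = true := by
  decide +kernel

theorem dvdF7_0 : 7 ∣ Nat.card (cl wF7_0) := level_last _ _ okF7_0 orbF7_0

/-- row of level 0 of the chain F11 -/
def vF11_0 : ℕ := 0x1000000000000000000000000000000000000000000000000000000000000000000000000000000000000000000000000000000000000000000000000000000000000000000000000000000000000000000000000000000000000000000000000000000000000000000000000000000000000000000000000000000000000000000000000000000000000000000000000000000000000000000000000000000000000000000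

/-- words of level 0 of the chain F11 -/
def wF11_0 : List (List (Fin 5 × Bool)) := [
  [(1, false), (2, false), (3, false), (4, true), (2, true)]]

theorem okF11_0 : okRB C vF11_0 = true := by decide +kernel

set_option maxRecDepth 100000 in
theorem orbF11_0 : orbB C (wF11_0.map fun w => w.map code) vF11_0 11 = true := by
  decide +kernel

theorem dvdF11_0 : 11 ∣ Nat.card (cl wF11_0) := level_last _ _ okF11_0 orbF11_0

/-- row of level 0 of the chain F31 -/
def vF31_0 : ℕ := 0x1000000000000000000000000000000000000000000000000000000000000000000000000000000000000000000000000000000000000000000000000000000000000000000000000000000000000000000000000000000000000000000000000000000000000000000000000000000000000000000000000000000000000000000000000000000000000000000000000000000000000000000000000000000000000000000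

/-- words of level 0 of the chain F31 -/
def wF31_0 : List (List (Fin 5 × Bool)) := [
  [(3, true), (2, true), (0, true)]]

theorem okF31_0 : okRB C vF31_0 = true := by decide +kernel

set_option maxRecDepth 100000 in
theorem orbF31_0 : orbB C (wF31_0.map fun w => w.map code) vF31_0 31 = true := by
  decide +kernel

theorem dvdF31_0 : 31 ∣ Nat.card (cl wF31_0) := level_last _ _ okF31_0 orbF31_0

/-- row of level 0 of the chain F37 -/
def vF37_0 : ℕ := 0x1000000000000000000000000000000000000000000000000000000000000000000000000000000000000000000000000000000000000000000000000000000000000000000000000000000000000000000000000000000000000000000000000000000000000000000000000000000000000000000000000000000000000000000000000000000000000000000000000000000000000000000000000000000000000000000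

/-- words of level 0 of the chain F37 -/
def wF37_0 : List (List (Fin 5 × Bool)) := [
  [(4, false), (3, true), (2, true), (0, true)]]

theorem okF37_0 : okRB C vF37_0 = true := by decide +kernel

set_option maxRecDepth 100000 in
theorem orbF37_0 : orbB C (wF37_0.map fun w => w.map code) vF37_0 37 = true := by
  decide +kernel

theorem dvdF37_0 : 37 ∣ Nat.card (cl wF37_0) := level_last _ _ okF37_0 orbF37_0

/-- row of level 0 of the chain F67 -/
def vF67_0 : ℕ := 0x1000000000000000000000000000000000000000000000000000000000000000000000000000000000000000000000000000000000000000000000000000000000000000000000000000000000000000000000000000000000000000000000000000000000000000000000000000000000000000000000000000000000000000000000000000000000000000000000000000000000000000000000000000000000000000000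

/-- words of level 0 of the chain F67 -/
def wF67_0 : List (List (Fin 5 × Bool)) := [
  [(4, false), (3, true), (1, true), (2, false), (0, true)]]

theorem okF67_0 : okRB C vF67_0 = true := by decide +kernel

set_option maxRecDepth 100000 in
theorem orbF67_0 : orbB C (wF67_0.map fun w => w.map code) vF67_0 67 = true := by
  decide +kernel

theorem dvdF67_0 : 67 ∣ Nat.card (cl wF67_0) := level_last _ _ okF67_0 orbF67_0

end Cfsg.Agent.Ly.CardDataP
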