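import Cfsg.Agent.Ly.Rep111
import Cfsg.Agent.Lib.PackOrbDvd

/-!
Divisibility of the order of a subgroup of the 111-dimensional matrix group by orbit chains: one level.
-/

set_option autoImplicit false

namespace Cfsg.Agent.Ly.CardLevel

open Cfsg.Agent.Lib.PackMat Cfsg.Agent.Lib.PackOrbDvd Cfsg.Agent.Ly.Data111 Cfsg.Agent.Ly.Rep111

/-- the group generated by the values of words -/
def cl (W : List (List (Fin 5 × Bool))) : Subgroup (GL (Fin 111) (ZMod 5)) :=
  Subgroup.closure {g | g ∈ W.map word}

/-- the word number `x.1` of the list, or its inverse -/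
def sgn (W : List (List (Fin 5 × Bool))) (x : ℕ × Bool) : List (Fin 5 × Bool) :=
  cond x.2 (W.getD x.1 []) (FreeGroup.invRev (W.getD x.1 []))

/-- product of words and their inverses -/
def flat (W : List (List (Fin 5 × Bool))) (e : List (ℕ × Bool)) : List (Fin 5 × Bool) :=
  (e.map (sgn W)).flatten

theorem word_getD_mem (W : List (List (Fin 5 × Bool))) (i : ℕ) : word (W.getD i []) ∈ cl W := by
  rw [List.getD_eq_getElem?_getD]
  cases h : W[i]? with
  | none =>
    rw [Option.getD_none, word_nil]
    exact (cl W).one_mem
  | some w =>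
    rw [Option.getD_some]
    exact Subgroup.subset_closure (List.mem_map_of_mem (List.mem_of_getElem? h))

theorem word_invRev (w : List (Fin 5 × Bool)) : word (FreeGroup.invRev w) = (word w)⁻¹ := by
  rw [word_def, word_def, ← FreeGroup.inv_mk, map_inv]

theorem word_sgn_mem (W : List (List (Fin 5 × Bool))) (x : ℕ × Bool) : word (sgn W x) ∈ cl W := by
  obtain ⟨i, b⟩ := x
  cases b with
  | true => exact word_getD_mem W i
  | false =>
    change word (FreeGroup.invRev (W.getD i [])) ∈ cl W
    rw [word_invRev]
    exact (cl W).inv_mem (word_getD_mem W i)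

theorem word_flat_mem (W : List (List (Fin 5 × Bool))) (e : List (ℕ × Bool)) : word (flat W e) ∈ cl W := by
  induction e with
  | nil =>
    change word [] ∈ cl W
    rw [word_nil]
    exact (cl W).one_mem
  | cons x e ih =>
    change word (sgn W x ++ flat W e) ∈ cl W
    rw [word_append]
    exact (cl W).mul_mem (word_sgn_mem W x) ih

theorem word_reduce (w : List (Fin 5 × Bool)) : word (FreeGroup.reduce w) = word w := by
  rw [word_def, word_def, FreeGroup.reduce.self]

/-- the inclusion of the next group -/
theorem cl_le {W W' : List (List (Fin 5 × Bool))} (E : List (List (ℕ × Bool)))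
    (h : (E.map fun e => FreeGroup.reduce (flat W e)) = W') : cl W' ≤ cl W := by
  subst h
  rw [cl, Subgroup.closure_le]
  rintro g hg
  change g ∈ (E.map fun e => FreeGroup.reduce (flat W e)).map word at hg
  rw [List.map_map, List.mem_map] at hg
  obtain ⟨e, -, rfl⟩ := hg
  change word (FreeGroup.reduce (flat W e)) ∈ cl W
  rw [word_reduce]
  exact word_flat_mem W e

theorem fix_of {W : List (List (Fin 5 × Bool))} {v : ℕ} (hv : OkR C v)
    (hf : fixB C (W.map fun w => w.map code) v = true) :
    ∀ g ∈ cl W, Matrix.vecMul (rowVec C v) (g : Matrix (Fin 111) (Fin 111) (ZMod 5)) = rowVec C v := by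
  intro g hg
  refine vecMul_closure ?_ hg
  rintro g hg
  obtain ⟨w, hw, rfl⟩ := List.mem_map.1 hg
  rw [coe_word]
  have h2 := (run_spec (good_of_check good) (w.map code) (ok_map w) hv).2
  rw [fixB_spec hf _ (List.mem_map.2 ⟨w, hw, rfl⟩)] at h2
  exact h2.symm

/-- **One level of an orbit chain** -/
theorem level {W W' : List (List (Fin 5 × Bool))} (v m : ℕ) (hv : okRB C v = true)
    (hb : orbB C (W.map fun w => w.map code) v m = true)
    (hf : fixB C (W'.map fun w => w.map code) v = true) (hle : cl W' ≤ cl W) :
    m * Nat.card (cl W') ∣ Nat.card (cl W) := by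
  have hC := good_of_check good
  refine orbit_mul_dvd hC (W.map fun w => w.map code) (W.map word) ?_ v m (okRB_spec hv) hb (cl W') hle
    (fix_of (okRB_spec hv) hf)
  clear hb hle
  induction W with
  | nil => exact List.Forall₂.nil
  | cons w W ih => exact List.Forall₂.cons ⟨coe_word w, ok_map w⟩ ih

/-- the last level -/
theorem level_last {W : List (List (Fin 5 × Bool))} (v m : ℕ) (hv : okRB C v = true)
    (hb : orbB C (W.map fun w => w.map code) v m = true) : m ∣ Nat.card (cl W) := by
  have h : m * Nat.card (cl []) ∣ Nat.card (cl W) :=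
    level v m hv hb rfl (cl_le (W := W) [] rfl)
  exact dvd_of_mul_right_dvd h

/-- the groups generated by words are in the group generated by the letters -/
theorem cl_le_of {W : List (List (Fin 5 × Bool))} {R : Subgroup (GL (Fin 111) (ZMod 5))} (h : ∀ i, gl i ∈ R) :
    cl W ≤ R := by
  have hw : ∀ w : List (Fin 5 × Bool), word w ∈ R := by
    intro w
    induction w with
    | nil => rw [word_nil]; exact R.one_mem
    | cons x w ih =>
      rw [word_cons]
      refine R.mul_mem ?_ ih
      cases x.2
      · exact R.inv_mem (h _)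
      · exact h _
  rw [cl, Subgroup.closure_le]
  intro g hg
  obtain ⟨w, -, rfl⟩ := List.mem_map.1 hg
  exact hw w

/-- the order of a group generated by words divides the order of a group mapping onto the letters -/
theorem dvd_of {G : Type*} [Group G] [Finite G] (f : G →* GL (Fin 111) (ZMod 5)) (h : ∀ i, gl i ∈ f.range)
    {k : ℕ} {W : List (List (Fin 5 × Bool))} (hk : k ∣ Nat.card (cl W)) : k ∣ Nat.card G :=
  (hk.trans (Subgroup.card_dvd_of_le (cl_le_of h))).trans (Subgroup.card_range_dvd f)

end Cfsg.Agent.Ly.CardLevel
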