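import Mathlib

/-!
# An upper bound for the index of a subgroup from a closed system of orbits

`P` is generated by the image of a finite group `Hh` and an element `z` which normalises (on the left) the image of a
subgroup `K`.  Finitely many cosets `x i` whose `Hh`-orbits are permuted by `z` (a finite list of identities, one for
every `(K, H_i)`-double coset) exhaust the coset space.
-/

set_option autoImplicit false

namespace Cfsg.Agent.Ly.CosetBound

open Subgroup

variable {P Hh : Type*} [Group P] [Group Hh]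

/-- The union of the orbits. -/
def orbs {ι X : Type*} [MulAction P X] (φ : Hh →* P) (x : ι → X) : Set X :=
  {y | ∃ i, ∃ h : Hh, y = φ h • x i}

theorem orbs_def {ι X : Type*} [MulAction P X] (φ : Hh →* P) (x : ι → X) (y : X) :
    y ∈ orbs φ x ↔ ∃ i, ∃ h : Hh, y = φ h • x i := Iff.rfl

/-- A finite set stable under a generating set of a transitive group is everything. -/
theorem eq_univ_of_stable {X : Type*} [MulAction P X] [MulAction.IsPretransitive P X] (S : Set P)
    (hS : closure S = ⊤) (Y : Set X) (hfin : Y.Finite) (hne : Y.Nonempty)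
    (hst : ∀ s ∈ S, ∀ y ∈ Y, s • y ∈ Y) : Y = Set.univ := by
  have hinv : ∀ s ∈ S, ∀ y ∈ Y, s⁻¹ • y ∈ Y := by
    intro s hs y hy
    have himg : (fun y => s • y) '' Y = Y := by
      apply Set.eq_of_subset_of_ncard_le _ _ hfin
      · rintro _ ⟨y, hy, rfl⟩
        exact hst s hs y hy
      · rw [Set.ncard_image_of_injective Y (MulAction.injective s)]
    rw [← himg] at hy
    obtain ⟨y', hy', rfl⟩ := hy
    show s⁻¹ • s • y' ∈ Y
    rw [inv_smul_smul]
    exact hy'
  have hall : ∀ g ∈ closure S, ∀ y ∈ Y, g • y ∈ Y := by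
    intro g hg
    induction hg using closure_induction with
    | mem s hs => exact hst s hs
    | one => intro y hy; rwa [one_smul]
    | mul a b _ _ iha ihb => intro y hy; rw [mul_smul]; exact iha _ (ihb _ hy)
    | inv a _ iha =>
      intro y hy
      have himg : (fun y => a • y) '' Y = Y := by
        apply Set.eq_of_subset_of_ncard_le _ _ hfin
        · rintro _ ⟨y, hy, rfl⟩
          exact iha y hy
        · rw [Set.ncard_image_of_injective Y (MulAction.injective a)]
      rw [← himg] at hy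
      obtain ⟨y', hy', rfl⟩ := hy
      show a⁻¹ • a • y' ∈ Y
      rw [inv_smul_smul]
      exact hy'
  rw [Set.eq_univ_iff_forall]
  intro y
  obtain ⟨y₀, hy₀⟩ := hne
  obtain ⟨g, rfl⟩ := MulAction.exists_smul_eq P y₀ y
  exact hall g (by rw [hS]; trivial) y₀ hy₀

/-- Size of one orbit. -/
theorem ncard_orbit_le [Finite Hh] {X : Type*} [MulAction P X] (φ : Hh →* P) (x : X) (Hi : Subgroup Hh)
    (hfix : ∀ h ∈ Hi, φ h • x = x) : (Set.range fun h : Hh => φ h • x).ncard ≤ Hi.index := by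
  let f : Hh ⧸ Hi → X := Quotient.lift (fun h : Hh => φ h • x) (by
    intro a b hab
    have hab' : a⁻¹ * b ∈ Hi := QuotientGroup.leftRel_apply.mp hab
    show φ a • x = φ b • x
    have h := hfix _ hab'
    rw [map_mul, map_inv, mul_smul, inv_smul_eq_iff] at h
    exact h.symm)
  have hrange : (Set.range fun h : Hh => φ h • x) = Set.range f := by
    ext y
    constructor
    · rintro ⟨h, rfl⟩
      exact ⟨QuotientGroup.mk h, rfl⟩
    · rintro ⟨q, rfl⟩
      obtain ⟨h, rfl⟩ := QuotientGroup.mk_surjective q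
      exact ⟨h, rfl⟩
  rw [hrange, ← Nat.card_coe_set_eq]
  exact Nat.card_le_card_of_surjective (fun q : Hh ⧸ Hi => (⟨f q, q, rfl⟩ : Set.range f))
    (fun ⟨_, q, hq⟩ => ⟨q, Subtype.ext hq⟩)

/-- **Index bound.** -/
theorem index_le [Finite Hh] (φ : Hh →* P) (z : P) (hgen : closure ((φ.range : Set P) ∪ {z}) = ⊤)
    {ι κ : Type*} [Fintype ι] [Nonempty ι] (x : ι → P ⧸ φ.range)
    (Hi : ι → Subgroup Hh) (hfix : ∀ i, ∀ h ∈ Hi i, φ h • x i = x i)
    (K : Subgroup Hh) (τ : Hh → Hh) (hτ : ∀ k ∈ K, z * φ k = φ (τ k) * z)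
    (idx : κ → ι) (hO : κ → Hh) (gO : κ → Hh) (jO : κ → ι)
    (hcover : ∀ i, ∀ h : Hh, ∃ o, idx o = i ∧ ∃ k ∈ K, ∃ h' ∈ Hi i, h = k * hO o * h')
    (htrans : ∀ o, (z * φ (hO o)) • x (idx o) = φ (gO o) • x (jO o))
    (n : ι → ℕ) (hn : ∀ i, (Hi i).index ≤ n i) :
    Finite (P ⧸ φ.range) ∧ φ.range.index ≤ ∑ i, n i := by
  classical
  have heq : orbs φ x = ⋃ i, Set.range fun h : Hh => φ h • x i := by
    ext y
    rw [Set.mem_iUnion, orbs_def]
    constructor
    · rintro ⟨i, h, rfl⟩; exact ⟨i, h, rfl⟩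
    · rintro ⟨i, h, rfl⟩; exact ⟨i, h, rfl⟩
  have hfin : (orbs φ x).Finite := by
    rw [heq]
    exact Set.finite_iUnion fun i => Set.finite_range _
  have huniv : orbs φ x = Set.univ := by
    apply eq_univ_of_stable ((φ.range : Set P) ∪ {z}) hgen _ hfin
    · obtain ⟨i₀⟩ := ‹Nonempty ι›
      exact ⟨x i₀, i₀, 1, by rw [map_one, one_smul]⟩
    · rintro s (⟨h, rfl⟩ | hs) y ⟨i, h', rfl⟩
      · exact ⟨i, h * h', by rw [map_mul, mul_smul]⟩
      · rw [Set.mem_singleton_iff] at hs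
        subst hs
        obtain ⟨o, rfl, k, hk, l, hl, rfl⟩ := hcover i h'
        refine ⟨jO o, τ k * gO o, ?_⟩
        calc s • φ (k * hO o * l) • x (idx o) = (s * φ k) • φ (hO o) • φ l • x (idx o) := by
              rw [map_mul, map_mul, mul_smul, mul_smul, mul_smul]
          _ = φ (τ k) • (s * φ (hO o)) • x (idx o) := by
              rw [hfix _ l hl, hτ k hk, mul_smul, mul_smul]
          _ = φ (τ k * gO o) • x (jO o) := by
              rw [htrans o, map_mul, mul_smul]
  have hfinX : Finite (P ⧸ φ.range) := by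
    rw [← Set.finite_univ_iff, ← huniv]; exact hfin
  refine ⟨hfinX, ?_⟩
  have h1 : φ.range.index = (Set.univ : Set (P ⧸ φ.range)).ncard := by
    rw [Set.ncard_univ]; rfl
  rw [h1, ← huniv, heq]
  have h2 : (⋃ i, Set.range fun h : Hh => φ h • x i).ncard ≤
      ∑ i, (Set.range fun h : Hh => φ h • x i).ncard := by
    have h3 : (⋃ i, Set.range fun h : Hh => φ h • x i) =
        ↑(Finset.univ.biUnion fun i => (Set.finite_range fun h : Hh => φ h • x i).toFinset) := by
      ext y
      simp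
    rw [h3, Set.ncard_coe_finset]
    refine le_trans Finset.card_biUnion_le ?_
    apply Finset.sum_le_sum
    intro i _
    rw [Set.ncard_eq_toFinset_card _ (Set.finite_range fun h : Hh => φ h • x i)]
  refine le_trans h2 (Finset.sum_le_sum fun i _ => ?_)
  exact le_trans (ncard_orbit_le φ (x i) (Hi i) (hfix i)) (hn i)

/-- Order bound. -/
theorem card_le [Finite Hh] (φ : Hh →* P) (z : P) (hgen : closure ((φ.range : Set P) ∪ {z}) = ⊤)
    {ι κ : Type*} [Fintype ι] [Nonempty ι] (x : ι → P ⧸ φ.range)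
    (Hi : ι → Subgroup Hh) (hfix : ∀ i, ∀ h ∈ Hi i, φ h • x i = x i)
    (K : Subgroup Hh) (τ : Hh → Hh) (hτ : ∀ k ∈ K, z * φ k = φ (τ k) * z)
    (idx : κ → ι) (hO : κ → Hh) (gO : κ → Hh) (jO : κ → ι)
    (hcover : ∀ i, ∀ h : Hh, ∃ o, idx o = i ∧ ∃ k ∈ K, ∃ h' ∈ Hi i, h = k * hO o * h')
    (htrans : ∀ o, (z * φ (hO o)) • x (idx o) = φ (gO o) • x (jO o))
    (n : ι → ℕ) (hn : ∀ i, (Hi i).index ≤ n i) :
    Finite P ∧ Nat.card P ≤ Nat.card Hh * ∑ i, n i := by
  obtain ⟨hfin, hidx⟩ := index_le φ z hgen x Hi hfix K τ hτ idx hO gO jO hcover htrans n hn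
  have hfr : Finite φ.range := by
    have : Finite (Set.range φ) := Set.finite_range φ
    exact this
  have hfP : Finite P := by
    have e : P ≃ (P ⧸ φ.range) × φ.range := groupEquivQuotientProdSubgroup
    exact Finite.of_equiv _ e.symm
  refine ⟨hfP, ?_⟩
  rw [← φ.range.card_mul_index]
  refine Nat.mul_le_mul ?_ hidx
  exact Nat.card_le_card_of_surjective φ.rangeRestrict φ.rangeRestrict_surjective

theorem index_le_of_mul {H : Type*} [Group H] [Finite H] (A : Subgroup H) (N a m : ℕ) (hN : Nat.card H = N)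
    (ha : 0 < a) (hA : a ≤ Nat.card A) (ham : a * m = N) : A.index ≤ m := by
  have h1 := A.card_mul_index
  rw [hN, ← ham] at h1
  have h2 : a * A.index ≤ a * m := by
    rw [← h1]
    exact Nat.mul_le_mul_right _ hA
  exact Nat.le_of_mul_le_mul_left h2 ha

/-- The numbers of the Lyons group. -/
theorem lyons_bound [Finite Hh] (hcard : Nat.card Hh = 5859000000) (φ : Hh →* P) (z : P)
    (hgen : closure ((φ.range : Set P) ∪ {z}) = ⊤) {κ : Type*} (x : Fin 5 → P ⧸ φ.range)
    (Hi : Fin 5 → Subgroup Hh) (hfix : ∀ i, ∀ h ∈ Hi i, φ h • x i = x i)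
    (h0 : 5859000000 ≤ Nat.card (Hi 0)) (h1 : 300000 ≤ Nat.card (Hi 1)) (h2 : 6048 ≤ Nat.card (Hi 2))
    (h3 : 2880 ≤ Nat.card (Hi 3)) (h4 : 1008 ≤ Nat.card (Hi 4))
    (K : Subgroup Hh) (τ : Hh → Hh) (hτ : ∀ k ∈ K, z * φ k = φ (τ k) * z)
    (idx : κ → Fin 5) (hO : κ → Hh) (gO : κ → Hh) (jO : κ → Fin 5)
    (hcover : ∀ i, ∀ h : Hh, ∃ o, idx o = i ∧ ∃ k ∈ K, ∃ h' ∈ Hi i, h = k * hO o * h')
    (htrans : ∀ o, (z * φ (hO o)) • x (idx o) = φ (gO o) • x (jO o)) :
    Finite P ∧ φ.range.index ≤ 8835156 ∧ Nat.card P ≤ 51765179004000000 := by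
  have hn : ∀ i, (Hi i).index ≤ ![1, 19530, 968750, 2034375, 5812500] i := by
    rw [Fin.forall_fin_succ, Fin.forall_fin_succ, Fin.forall_fin_succ, Fin.forall_fin_succ,
      Fin.forall_fin_one]
    refine ⟨?_, ?_, ?_, ?_, ?_⟩
    · exact index_le_of_mul _ _ 5859000000 1 hcard (by norm_num) h0 (by norm_num)
    · exact index_le_of_mul _ _ 300000 19530 hcard (by norm_num) h1 (by norm_num)
    · exact index_le_of_mul _ _ 6048 968750 hcard (by norm_num) h2 (by norm_num)
    · exact index_le_of_mul _ _ 2880 2034375 hcard (by norm_num) h3 (by norm_num)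
    · exact index_le_of_mul _ _ 1008 5812500 hcard (by norm_num) h4 (by norm_num)
  have hsum : ∑ i, ![1, 19530, 968750, 2034375, 5812500] i = 8835156 := by
    rw [Fin.sum_univ_five]
    show 1 + 19530 + 968750 + 2034375 + 5812500 = 8835156
    norm_num
  obtain ⟨-, hidx⟩ := index_le φ z hgen x Hi hfix K τ hτ idx hO gO jO hcover htrans _ hn
  obtain ⟨hfP, hcP⟩ := card_le φ z hgen x Hi hfix K τ hτ idx hO gO jO hcover htrans _ hn
  rw [hsum] at hidx hcP
  rw [hcard] at hcP
  exact ⟨hfP, hidx, le_trans hcP (by norm_num)⟩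

end Cfsg.Agent.Ly.CosetBound
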