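import Cfsg.Agent.Ly.Mat7

/-!
# Certified double coset decompositions in `⟨a,b,c,d⟩ ≤ GL_7(5)`: generic part

Tables of matrices, membership of tables in subgroups, certificates.
-/

set_option autoImplicit false

namespace Cfsg.Agent.Ly.CoverCore

open Cfsg.Agent.Lib.PackMat Cfsg.Agent.Ly.Mat7

/-- `GL_7(5)` -/
abbrev GL75 := GL (Fin 7) (ZMod 5)

/-- `X` is the code of `g`. -/
def Rep (X : ℕ) (g : GL75) : Prop := Ok X ∧ (g : Matrix (Fin 7) (Fin 7) (ZMod 5)) = toM X

/-- Product with forced arguments. -/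
noncomputable def mulF (X Y : ℕ) : ℕ := force X fun x => force Y fun y => mulN x y

theorem mulF_eq (X Y : ℕ) : mulF X Y = mulN X Y := rfl

theorem Rep.mul {X Y : ℕ} {g h : GL75} (hX : Rep X g) (hY : Rep Y h) : Rep (mulF X Y) (g * h) := by
  refine ⟨mulN_ok hX.1 hY.1, ?_⟩
  rw [Units.val_mul, hX.2, hY.2, ← toM_mulN hX.1 hY.1, mulF_eq]

theorem Rep.inj {X : ℕ} {g h : GL75} (hg : Rep X g) (hh : Rep X h) : g = h :=
  Units.ext (hg.2.trans hh.2.symm)

theorem Rep.code {X Y : ℕ} {g : GL75} (hX : Rep X g) (hY : Rep Y g) : X = Y :=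
  toM_inj hX.1 hY.1 (hX.2.symm.trans hY.2)

theorem rep_one : Rep oneN 1 := ⟨oneN_ok, by rw [toM_oneN, Units.val_one]⟩

/-- Code of a word. -/
noncomputable def evalW (w : List ℕ) : ℕ := evalK w oneN

theorem rep_evalW (w : List ℕ) : Rep (evalW w) (ev gen w) := by
  obtain ⟨h1, h2⟩ := evalK_spec w oneN_ok
  refine ⟨h1, ?_⟩
  rw [evalW, h2, toM_oneN, Matrix.one_mul]

/-- `X` is the code of an element of `S`. -/
def In (S : Subgroup GL75) (X : ℕ) : Prop := ∃ g ∈ S, Rep X g

theorem In.mul {S : Subgroup GL75} {X Y : ℕ} (hX : In S X) (hY : In S Y) : In S (mulF X Y) := by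
  obtain ⟨g, hg, h1⟩ := hX
  obtain ⟨h, hh, h2⟩ := hY
  exact ⟨g * h, S.mul_mem hg hh, h1.mul h2⟩

/-! ### Base entries given by words -/

/-- The entries `n, n+1, ...` of the table `T` are the codes of the words. -/
noncomputable def baseK (T : ℕ) : ℕ → List (List ℕ) → Bool
  | _, [] => true
  | n, w :: ws => bif Nat.beq (tab T n) (evalW w) then baseK T (Nat.succ n) ws else false

theorem baseK_spec {T : ℕ} {ws : List (List ℕ)} : ∀ {n : ℕ}, baseK T n ws = true →
    ∀ i (h : i < ws.length), Rep (tab T (n + i)) (ev gen ws[i]) := by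
  induction ws with
  | nil => intro n _ i hi; simp at hi
  | cons w ws ih =>
    intro n h i hi
    rw [baseK] at h
    cases hb : Nat.beq (tab T n) (evalW w) with
    | false => rw [hb] at h; simp at h
    | true =>
      rw [hb, cond_true] at h
      rcases i with _ | i
      · rw [Nat.add_zero, Nat.eq_of_beq_eq_true hb]
        exact rep_evalW w
      · have h1 := ih h i (by simpa using hi)
        rw [Nat.succ_eq_add_one, Nat.add_assoc, Nat.add_comm 1 i] at h1
        simpa using h1

/-! ### Tables generated by products -/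

/-- One step: entry `nb + k` is the product of two earlier entries. -/
noncomputable def stepChk (T nb ST k : ℕ) : Bool :=
  force (Nat.land (Nat.shiftRight ST (Nat.mul 20 k)) 1048575) fun c =>
  force (Nat.land c 1023) fun i =>
  force (Nat.shiftRight c 10) fun j =>
  force (Nat.add nb k) fun n =>
  bif Nat.blt i n then
    bif Nat.blt j n then
      Nat.beq (tab T n) (mulF (tab T i) (tab T j))
    else false
  else false

/-- Check of a table: base words and `ns` steps. -/
noncomputable def tabChk (T : ℕ) (ws : List (List ℕ)) (ns ST : ℕ) : Bool :=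
  bif baseK T 0 ws then force ws.length fun nb => allBelow (fun k => stepChk T nb ST k) ns else false

theorem blt_lt {i n : ℕ} (h : Nat.blt i n = true) : i < n := by
  unfold Nat.blt at h
  exact Nat.le_of_ble_eq_true h

theorem tabChk_spec {T ns ST : ℕ} {ws : List (List ℕ)} (h : tabChk T ws ns ST = true)
    (S : Subgroup GL75) (hS : ∀ w ∈ ws, ev gen w ∈ S) : ∀ n < ws.length + ns, In S (tab T n) := by
  unfold tabChk at h
  cases hb : baseK T 0 ws with
  | false => rw [hb] at h; simp at h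
  | true =>
    rw [hb, cond_true, force_eq] at h
    have h1 := allBelow_spec h
    have h0 := baseK_spec hb
    intro n
    induction n using Nat.strong_induction_on with
    | _ n ih =>
      intro hn
      by_cases h2 : n < ws.length
      · have h3 := h0 n h2
        rw [Nat.zero_add] at h3
        exact ⟨_, hS _ (List.getElem_mem h2), h3⟩
      · obtain ⟨k, rfl⟩ := Nat.exists_eq_add_of_le (Nat.le_of_not_lt h2)
        have h3 := h1 k (by omega)
        simp only [stepChk, force_eq] at h3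
        set i := Nat.land (Nat.land (Nat.shiftRight ST (Nat.mul 20 k)) 1048575) 1023 with hi
        set j := Nat.shiftRight (Nat.land (Nat.shiftRight ST (Nat.mul 20 k)) 1048575) 10 with hj
        cases hbi : Nat.blt i (Nat.add ws.length k) with
        | false => rw [hbi] at h3; simp at h3
        | true =>
          rw [hbi, cond_true] at h3
          cases hbj : Nat.blt j (Nat.add ws.length k) with
          | false => rw [hbj] at h3; simp at h3
          | true =>
            rw [hbj, cond_true] at h3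
            have hi' : i < ws.length + k := blt_lt hbi
            have hj' : j < ws.length + k := blt_lt hbj
            have h4 : tab T (ws.length + k) = mulF (tab T i) (tab T j) := Nat.eq_of_beq_eq_true h3
            rw [h4]
            exact (ih i hi' (by omega)).mul (ih j hj' (by omega))

/-! ### Certificates -/

/-- Field `n` (10 bits) of a certificate. -/
def fld (c n : ℕ) : ℕ := Nat.land (Nat.shiftRight c (Nat.mul 10 n)) 1023

/-- The certificate `c` (80 bits: `k1 k2 k3 t b w1 w2 w3`) shows that `X` is the product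
`k1 k2 k3 β_t h_b (w1 w2 w3)`. -/
noncomputable def certK (TK nK BT nB TH nH TW nW X c : ℕ) : Bool :=
  force (fld c 0) fun k1 => force (fld c 1) fun k2 => force (fld c 2) fun k3 => force (fld c 3) fun t =>
  force (fld c 4) fun b => force (fld c 5) fun w1 => force (fld c 6) fun w2 => force (fld c 7) fun w3 =>
  bif Nat.blt k1 nK then bif Nat.blt k2 nK then bif Nat.blt k3 nK then bif Nat.blt t nB then
  bif Nat.blt b nH then bif Nat.blt w1 nW then bif Nat.blt w2 nW then bif Nat.blt w3 nW then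
    Nat.beq X (mulF (mulF (mulF (mulF (tab TK k1) (tab TK k2)) (tab TK k3)) (tab BT t))
      (mulF (tab TH b) (mulF (mulF (tab TW w1) (tab TW w2)) (tab TW w3))))
  else false else false else false else false else false else false else false else false

theorem certK_spec {K W : Subgroup GL75} {TK nK BT nB TH nH TW nW X c : ℕ}
    (hK : ∀ i < nK, In K (tab TK i)) (β : ℕ → GL75) (hB : ∀ t < nB, Rep (tab BT t) (β t))
    (H : ℕ → GL75) (hH : ∀ b < nH, Rep (tab TH b) (H b)) (hW : ∀ i < nW, In W (tab TW i))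
    {g : GL75} (hX : Rep X g) (h : certK TK nK BT nB TH nH TW nW X c = true) :
    ∃ k ∈ K, ∃ t < nB, ∃ b < nH, ∃ w ∈ W, g = k * β t * (H b * w) := by
  simp only [certK, force_eq, Bool.cond_false_right, Bool.and_eq_true] at h
  obtain ⟨h1, h2, h3, h4, h5, h6, h7, h8, h9⟩ := h
  obtain ⟨k1, hk1, r1⟩ := hK _ (blt_lt h1)
  obtain ⟨k2, hk2, r2⟩ := hK _ (blt_lt h2)
  obtain ⟨k3, hk3, r3⟩ := hK _ (blt_lt h3)
  obtain ⟨w1, hw1, s1⟩ := hW _ (blt_lt h6)
  obtain ⟨w2, hw2, s2⟩ := hW _ (blt_lt h7)
  obtain ⟨w3, hw3, s3⟩ := hW _ (blt_lt h8)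
  have rt := hB _ (blt_lt h4)
  have rb := hH _ (blt_lt h5)
  have e := Nat.eq_of_beq_eq_true h9
  have r := (((r1.mul r2).mul r3).mul rt).mul (rb.mul ((s1.mul s2).mul s3))
  rw [← e] at r
  exact ⟨k1 * k2 * k3, K.mul_mem (K.mul_mem hk1 hk2) hk3, _, blt_lt h4, _, blt_lt h5, w1 * w2 * w3,
    W.mul_mem (W.mul_mem hw1 hw2) hw3, hX.inj r⟩

/-- Certificate number `n` (80 bits each). -/
def cert (CT n : ℕ) : ℕ := Nat.land (Nat.shiftRight CT (Nat.mul 80 n)) 1208925819614629174706175

/-- For all `a < nA`, `j < nJ` the product `(tab TJ j) (tab TA a)` has a certificate. -/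
noncomputable def certs (TK nK BT nB TH nH TW nW TJ nJ TA nA CT : ℕ) : Bool :=
  allBelow (fun a => force (tab TA a) fun A => allBelow (fun j =>
    certK TK nK BT nB TH nH TW nW (mulF (tab TJ j) A) (cert CT (Nat.add (Nat.mul nJ a) j))) nJ) nA

theorem certs_spec {K W : Subgroup GL75} {TK nK BT nB TH nH TW nW TJ nJ TA nA CT : ℕ}
    (hK : ∀ i < nK, In K (tab TK i)) (β : ℕ → GL75) (hB : ∀ t < nB, Rep (tab BT t) (β t))
    (H : ℕ → GL75) (hH : ∀ b < nH, Rep (tab TH b) (H b)) (hW : ∀ i < nW, In W (tab TW i))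
    (J : ℕ → GL75) (hJ : ∀ j < nJ, Rep (tab TJ j) (J j)) (A : ℕ → GL75) (hA : ∀ a < nA, Rep (tab TA a) (A a))
    (h : certs TK nK BT nB TH nH TW nW TJ nJ TA nA CT = true) :
    ∀ j < nJ, ∀ a < nA, ∃ k ∈ K, ∃ t < nB, ∃ b < nH, ∃ w ∈ W, J j * A a = k * β t * (H b * w) := by
  intro j hj a ha
  have h1 := allBelow_spec h a ha
  rw [force_eq] at h1
  have h2 := allBelow_spec h1 j hj
  exact certK_spec hK β hB H hH hW ((hJ j hj).mul (hA a ha)) h2

/-! ### The covering -/

theorem closure_ind_right {G : Type*} [Group G] [Finite G] (s : Set G) (p : G → Prop) (h1 : p 1)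
    (hm : ∀ x, p x → ∀ y ∈ s, p (x * y)) : ∀ x ∈ Subgroup.closure s, p x := by
  intro x hx
  rw [← Subgroup.mem_toSubmonoid, Subgroup.closure_toSubmonoid_of_finite] at hx
  induction hx using Submonoid.closure_induction_right with
  | one => exact h1
  | mul_right x _ y hy ih => exact hm x ih y hy

theorem closure_ind_left {G : Type*} [Group G] [Finite G] (s : Set G) (p : G → Prop) (h1 : p 1)
    (hm : ∀ x, p x → ∀ y ∈ s, p (y * x)) : ∀ x ∈ Subgroup.closure s, p x := by
  intro x hx
  rw [← Subgroup.mem_toSubmonoid, Subgroup.closure_toSubmonoid_of_finite] at hx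
  induction hx using Submonoid.closure_induction_left with
  | one => exact h1
  | mul_left y hy x _ ih => exact hm x ih y hy

/-- Abstract covering lemma.  `P = ⟨a,b,c⟩ = ⋃ K β_t`, `s P ⊆ ⋃ P r_j`, `r_j h_a ∈ ⋃ P h_b W`,
`β_t h_a ∈ ⋃ K h'_b W`, `d ∈ ⟨a,b,c,s⟩`. -/
theorem covering_aux {G : Type*} [Group G] [Finite G] (a b c d s : G) (K W : Subgroup G) (β : ℕ → G)
    {nB : ℕ} (hB0 : 0 < nB) (hβ0 : β 0 = 1)
    (h4 : ∀ t < nB, ∀ x ∈ ({a, b, c} : Set G), ∃ k ∈ K, ∃ t' < nB, β t * x = k * β t')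
    (R : ℕ → G) {nR : ℕ} (hR0 : 0 < nR) (hR : R 0 = s)
    (h1 : ∀ j < nR, ∀ x ∈ ({a, b, c} : Set G), ∃ p ∈ Subgroup.closure {a, b, c}, ∃ j' < nR, R j * x = p * R j')
    (H : ℕ → G) {nH : ℕ} (hH0 : 0 < nH) (hH : H 0 = 1)
    (h2 : ∀ j < nR, ∀ i < nH, ∃ p ∈ Subgroup.closure {a, b, c}, ∃ i' < nH, ∃ w ∈ W, R j * H i = p * (H i' * w))
    (H' : ℕ → G) {nH' : ℕ}
    (h3 : ∀ t < nB, ∀ i < nH, ∃ k ∈ K, ∃ i' < nH', ∃ w ∈ W, β t * H i = k * (H' i' * w))
    (hd : d ∈ Subgroup.closure {a, b, c, s}) :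
    ∀ g ∈ Subgroup.closure {a, b, c, d}, ∃ i < nH', ∃ k ∈ K, ∃ w ∈ W, g = k * H' i * w := by
  -- P = ∪ K β_t
  have hP : ∀ p ∈ Subgroup.closure {a, b, c}, ∃ k ∈ K, ∃ t < nB, p = k * β t := by
    apply closure_ind_right
    · exact ⟨1, K.one_mem, 0, hB0, by rw [hβ0, mul_one]⟩
    · rintro p ⟨k, hk, t, ht, rfl⟩ x hx
      obtain ⟨k', hk', t', ht', e⟩ := h4 t ht x hx
      exact ⟨k * k', K.mul_mem hk hk', t', ht', by rw [mul_assoc, e, mul_assoc]⟩
  -- s P ⊆ ∪ P r_j
  have hs : ∀ p ∈ Subgroup.closure {a, b, c}, ∃ p' ∈ Subgroup.closure {a, b, c}, ∃ j < nR, s * p = p' * R j := by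
    apply closure_ind_right
    · exact ⟨1, Subgroup.one_mem _, 0, hR0, by rw [hR, mul_one, one_mul]⟩
    · rintro p ⟨p', hp', j, hj, e⟩ x hx
      obtain ⟨q, hq, j', hj', e'⟩ := h1 j hj x hx
      exact ⟨p' * q, Subgroup.mul_mem _ hp' hq, j', hj', by rw [← mul_assoc, e, mul_assoc, e', mul_assoc]⟩
  -- the closed set
  let S : Set G := {g | ∃ p ∈ Subgroup.closure {a, b, c}, ∃ i < nH, ∃ w ∈ W, g = p * (H i * w)}
  have hSP : ∀ p ∈ Subgroup.closure {a, b, c}, ∀ g ∈ S, p * g ∈ S := by
    rintro p hp g ⟨p', hp', i, hi, w, hw, rfl⟩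
    exact ⟨p * p', Subgroup.mul_mem _ hp hp', i, hi, w, hw, by rw [mul_assoc]⟩
  have hSs : ∀ g ∈ S, s * g ∈ S := by
    rintro g ⟨p, hp, i, hi, w, hw, rfl⟩
    obtain ⟨p', hp', j, hj, e⟩ := hs p hp
    obtain ⟨q, hq, i', hi', w', hw', e'⟩ := h2 j hj i hi
    refine ⟨p' * q, Subgroup.mul_mem _ hp' hq, i', hi', w' * w, W.mul_mem hw' hw, ?_⟩
    rw [← mul_assoc, e, mul_assoc, ← mul_assoc (R j), e']
    simp only [mul_assoc]
  have hSM : ∀ m ∈ Subgroup.closure {a, b, c, s}, ∀ g ∈ S, m * g ∈ S := by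
    apply closure_ind_left (p := fun m => ∀ g ∈ S, m * g ∈ S)
    · intro g hg; rwa [one_mul]
    · intro m hm y hy g hg
      rw [mul_assoc]
      rcases hy with rfl | rfl | rfl | rfl
      · exact hSP _ (Subgroup.subset_closure (by simp)) _ (hm g hg)
      · exact hSP _ (Subgroup.subset_closure (by simp)) _ (hm g hg)
      · exact hSP _ (Subgroup.subset_closure (by simp)) _ (hm g hg)
      · exact hSs _ (hm g hg)
  have hle : Subgroup.closure {a, b, c, d} ≤ Subgroup.closure {a, b, c, s} := by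
    rw [Subgroup.closure_le]
    rintro y (rfl | rfl | rfl | rfl)
    · exact Subgroup.subset_closure (by simp)
    · exact Subgroup.subset_closure (by simp)
    · exact Subgroup.subset_closure (by simp)
    · exact hd
  have h1S : (1 : G) ∈ S := ⟨1, Subgroup.one_mem _, 0, hH0, 1, W.one_mem, by rw [hH, mul_one, mul_one]⟩
  intro g hg
  have hgS : g ∈ S := by
    have := hSM g (hle hg) 1 h1S
    rwa [mul_one] at this
  obtain ⟨p, hp, i, hi, w, hw, rfl⟩ := hgS
  obtain ⟨k, hk, t, ht, rfl⟩ := hP p hp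
  obtain ⟨k', hk', i', hi', w', hw', e⟩ := h3 t ht i hi
  refine ⟨i', hi', k * k', K.mul_mem hk hk', w' * w, W.mul_mem hw' hw, ?_⟩
  rw [mul_assoc k, ← mul_assoc (β t), e]
  simp only [mul_assoc]

/-! ### Lower bounds for orders -/

/-- Two-level version of `allBelow`. -/
noncomputable def allBelow2 (f : ℕ → Bool) (m k : ℕ) : Bool :=
  allBelow (fun i => allBelow (fun j => force (Nat.add (Nat.mul k i) j) f) k) m

theorem allBelow2_spec {f : ℕ → Bool} {m k : ℕ} (h : allBelow2 f m k = true) : ∀ x < m * k, f x = true := by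
  intro x hx
  have hk : 0 < k := by
    rcases Nat.eq_zero_or_pos k with rfl | hk
    · simp at hx
    · exact hk
  have h1 := allBelow_spec (allBelow_spec h (x / k) (Nat.div_lt_of_lt_mul (by rwa [mul_comm]))) (x % k)
    (Nat.mod_lt _ hk)
  rw [force_eq] at h1
  have e : Nat.add (Nat.mul k (x / k)) (x % k) = x := Nat.div_add_mod x k
  rwa [e] at h1

/-- The product of the two entries of the table number `n` of the list of pairs `ST`. -/
noncomputable def pairK (T ST n : ℕ) : ℕ :=
  force (Nat.land (Nat.shiftRight ST (Nat.mul 20 n)) 1048575) fun c =>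
    mulF (tab T (Nat.land c 1023)) (tab T (Nat.shiftRight c 10))

/-- The indices of pair `n` are `< nT`. -/
noncomputable def pairOk (nT ST n : ℕ) : Bool :=
  force (Nat.land (Nat.shiftRight ST (Nat.mul 20 n)) 1048575) fun c =>
    bif Nat.blt (Nat.land c 1023) nT then Nat.blt (Nat.shiftRight c 10) nT else false

theorem pairK_in {S : Subgroup GL75} {T nT ST n : ℕ} (hT : ∀ i < nT, In S (tab T i))
    (h : pairOk nT ST n = true) : In S (pairK T ST n) := by
  simp only [pairOk, force_eq, Bool.cond_false_right, Bool.and_eq_true] at h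
  rw [pairK, force_eq]
  exact (hT _ (blt_lt h.1)).mul (hT _ (blt_lt h.2))

/-- `f x` for all `x < N`, in blocks of 64. -/
noncomputable def allN (f : ℕ → Bool) (N : ℕ) : Bool :=
  allBelow2 (fun x => bif Nat.blt x N then f x else true) (Nat.succ (Nat.div N 64)) 64

theorem allN_spec {f : ℕ → Bool} {N : ℕ} (h : allN f N = true) : ∀ x < N, f x = true := by
  intro x hx
  have h1 : N < Nat.succ (Nat.div N 64) * 64 := by
    have e : Nat.div N 64 = N / 64 := rfl
    rw [e]
    omega
  have h2 := allBelow2_spec h x (by omega)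
  have h3 : Nat.blt x N = true := by
    unfold Nat.blt
    exact Nat.ble_eq.mpr hx
  rw [h3, cond_true] at h2
  exact h2

/-- The pairs `0, ..., N` are valid and sorted. -/
noncomputable def sorted (T nT ST N : ℕ) : Bool :=
  bif allN (fun n => bif pairOk nT ST n then Nat.blt (pairK T ST n) (pairK T ST (Nat.succ n)) else false) N then
    pairOk nT ST N else false

theorem strictMono_of {f : ℕ → ℕ} {N : ℕ} (h : ∀ n < N, f n < f (n + 1)) :
    ∀ i j, i < j → j ≤ N → f i < f j := by
  intro i j hij hj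
  induction j with
  | zero => omega
  | succ j ih =>
    rcases Nat.lt_succ_iff_lt_or_eq.mp hij with h1 | rfl
    · exact lt_trans (ih h1 (by omega)) (h j (by omega))
    · exact h i (by omega)

theorem card_ge {S : Subgroup GL75} {f : ℕ → ℕ} {N : ℕ} (hf : ∀ n ≤ N, In S (f n))
    (hlt : ∀ n < N, f n < f (n + 1)) : N + 1 ≤ Nat.card S := by
  classical
  have hmono := strictMono_of hlt
  choose g hg hrep using fun n : Fin (N + 1) => hf n (Nat.lt_succ_iff.mp n.2)
  have hinj : Function.Injective (fun n : Fin (N + 1) => (⟨g n, hg n⟩ : S)) := by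
    intro m n h
    have h1 : g m = g n := congrArg Subtype.val h
    have h2 : f m = f n := by
      have h3 := hrep n
      rw [← h1] at h3
      exact (hrep m).code h3
    rcases Nat.lt_trichotomy m n with h3 | h3 | h3
    · have := hmono m n h3 (by omega); omega
    · exact Fin.ext h3
    · have := hmono n m h3 (by omega); omega
  have := Nat.card_le_card_of_injective _ hinj
  simpa using this

theorem sorted_spec' {T nT ST N : ℕ} (h : sorted T nT ST N = true) :
    (∀ n ≤ N, pairOk nT ST n = true) ∧ ∀ n < N, pairK T ST n < pairK T ST (n + 1) := by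
  unfold sorted at h
  rw [Bool.cond_false_right, Bool.and_eq_true] at h
  obtain ⟨h1, h2⟩ := h
  have h3 := allN_spec h1
  simp only [Bool.cond_false_right, Bool.and_eq_true] at h3
  constructor
  · intro n hn
    rcases Nat.lt_or_eq_of_le hn with h4 | rfl
    · exact (h3 n h4).1
    · exact h2
  · intro n hn
    exact blt_lt (h3 n hn).2

theorem sorted_spec {S : Subgroup GL75} {T nT ST N : ℕ} (hT : ∀ i < nT, In S (tab T i))
    (h : sorted T nT ST N = true) : N + 1 ≤ Nat.card S := by
  obtain ⟨h1, h2⟩ := sorted_spec' h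
  exact card_ge (f := pairK T ST) (fun n hn => pairK_in hT (h1 n hn)) h2

/-! ### Lower bound for `5^{1+4} : 4.S_4` -/

/-- Mask of the first two columns. -/
def MC : ℕ := 0xffffffff00000000000000000000ffffffff00000000000000000000ffffffff00000000000000000000ffffffff00000000000000000000ffffffff00000000000000000000ffffffff00000000000000000000ffffffff

theorem dg_MC : ∀ l < 49, dg 16 MC l = if l % 7 < 2 then 65535 else 0 := by decide +kernel

theorem MC_lt : MC < 2 ^ (16 * 49) := by decide +kernel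

theorem mask_iff {X Y : ℕ} :
    (X &&& MC = Y &&& MC) ↔ ∀ l < 49, l % 7 < 2 → dg 16 X l = dg 16 Y l := by
  have key : ∀ Z l, l % 7 < 2 → l < 49 → dg 16 (Z &&& MC) l = dg 16 Z l := by
    intro Z l h hl
    rw [dg_land, dg_MC l hl, if_pos h, show (65535 : ℕ) = 2 ^ 16 - 1 by norm_num, Nat.and_two_pow_sub_one_eq_mod,
      Nat.mod_eq_of_lt (dg_lt _ _ _)]
  constructor
  · intro h l hl h2
    rw [← key X l h2 hl, ← key Y l h2 hl, h]
  · intro h
    apply ext_dg (s := 16) (L := 49) (land_lt MC_lt) (land_lt MC_lt)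
    intro l hl
    by_cases h2 : l % 7 < 2
    · rw [key X l h2 hl, key Y l h2 hl, h l hl h2]
    · rw [dg_land, dg_land, dg_MC l hl, if_neg h2, Nat.and_zero, Nat.and_zero]

theorem Rep.entry {X : ℕ} {g : GL75} (h : Rep X g) (i j : Fin 7) :
    (g : Matrix (Fin 7) (Fin 7) (ZMod 5)) i j = (dg 16 X (7 * i + j) : ZMod 5) := by
  rw [h.2]; rfl

theorem mask_eq_iff {X Y : ℕ} {g h : GL75} (hX : Rep X g) (hY : Rep Y h) :
    (X &&& MC = Y &&& MC) ↔ ∀ i j : Fin 7, (j : ℕ) < 2 →
      (g : Matrix (Fin 7) (Fin 7) (ZMod 5)) i j = (h : Matrix (Fin 7) (Fin 7) (ZMod 5)) i j := by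
  rw [mask_iff]
  constructor
  · intro e i j hj
    rw [hX.entry, hY.entry, e _ (by omega) (by omega)]
  · intro e l hl h2
    have h1 := e ⟨l / 7, by omega⟩ ⟨l % 7, by omega⟩ h2
    rw [hX.entry, hY.entry] at h1
    have e0 : 7 * (l / 7) + l % 7 = l := by omega
    simp only [e0] at h1
    rw [ZMod.natCast_eq_natCast_iff] at h1
    have h2 := hX.1.2 l
    have h3 := hY.1.2 l
    rwa [Nat.ModEq, Nat.mod_eq_of_lt (by omega), Nat.mod_eq_of_lt (by omega)] at h1

/-- The codes `α_0 < ... ` (masked by the first two columns) and the `q_0 < ...` which fix the first two basis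
vectors give `(N+1)(M+1)` elements. -/
theorem card_ge_mul {S : Subgroup GL75} {f q : ℕ → ℕ} {N M : ℕ} (hf : ∀ n ≤ N, In S (f n))
    (hflt : ∀ n < N, f n &&& MC < f (n + 1) &&& MC) (hq : ∀ n ≤ M, In S (q n))
    (hqlt : ∀ n < M, q n < q (n + 1)) (hq1 : ∀ n ≤ M, q n &&& MC = oneN &&& MC) :
    (N + 1) * (M + 1) ≤ Nat.card S := by
  classical
  have hmf := strictMono_of (f := fun n => f n &&& MC) hflt
  have hmq := strictMono_of hqlt
  choose g hg hgr using fun n : Fin (N + 1) => hf n (Nat.lt_succ_iff.mp n.2)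
  choose u hu hur using fun n : Fin (M + 1) => hq n (Nat.lt_succ_iff.mp n.2)
  have hcol : ∀ n m, ∀ i j : Fin 7, (j : ℕ) < 2 →
      ((g n * u m : GL75) : Matrix (Fin 7) (Fin 7) (ZMod 5)) i j = (g n : Matrix (Fin 7) (Fin 7) (ZMod 5)) i j := by
    intro n m i j hj
    have h1 := (mask_eq_iff (hur m) rep_one).mp (hq1 m (Nat.lt_succ_iff.mp m.2))
    rw [Units.val_mul, Matrix.mul_apply]
    have h2 : ∀ k, (u m : Matrix (Fin 7) (Fin 7) (ZMod 5)) k j = (1 : Matrix (Fin 7) (Fin 7) (ZMod 5)) k j := by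
      intro k
      rw [h1 k j hj, Units.val_one]
    simp only [h2]
    rw [← Matrix.mul_apply, Matrix.mul_one]
  have hinj : Function.Injective (fun p : Fin (N + 1) × Fin (M + 1) => (⟨g p.1 * u p.2, S.mul_mem (hg _) (hu _)⟩ : S)) := by
    rintro ⟨n, m⟩ ⟨n', m'⟩ h
    have h1 : g n * u m = g n' * u m' := congrArg Subtype.val h
    have h2 : f n &&& MC = f n' &&& MC := by
      rw [mask_eq_iff (hgr n) (hgr n')]
      intro i j hj
      rw [← hcol n m i j hj, ← hcol n' m' i j hj, h1]
    have h3 : n = n' := by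
      rcases Nat.lt_trichotomy n n' with h3 | h3 | h3
      · have := hmf n n' h3 (by omega); omega
      · exact Fin.ext h3
      · have := hmf n' n h3 (by omega); omega
    subst h3
    have h4 : u m = u m' := mul_left_cancel h1
    have h5 : q m = q m' := by
      have h6 := hur m'
      rw [← h4] at h6
      exact (hur m).code h6
    have h6 : m = m' := by
      rcases Nat.lt_trichotomy m m' with h3 | h3 | h3
      · have := hmq m m' h3 (by omega); omega
      · exact Fin.ext h3
      · have := hmq m' m h3 (by omega); omega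
    rw [h6]
  have := Nat.card_le_card_of_injective _ hinj
  simpa using this

/-- Check that the pairs fix the first two basis vectors. -/
noncomputable def fixK (T ST N : ℕ) : Bool :=
  allN (fun n => Nat.beq (Nat.land (pairK T ST n) MC) (Nat.land oneN MC)) N

/-- Check that the pairs are valid and sorted by the first two columns. -/
noncomputable def sortedM (T nT ST N : ℕ) : Bool :=
  bif allN (fun n => bif pairOk nT ST n then
    Nat.blt (Nat.land (pairK T ST n) MC) (Nat.land (pairK T ST (Nat.succ n)) MC) else false) N then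
    pairOk nT ST N else false

theorem sortedM_spec {S : Subgroup GL75} {T nT SF SQ N M : ℕ} (hT : ∀ i < nT, In S (tab T i))
    (hF : sortedM T nT SF N = true) (hQ : sorted T nT SQ M = true) (h1 : fixK T SQ (Nat.succ M) = true) :
    (N + 1) * (M + 1) ≤ Nat.card S := by
  obtain ⟨hQ1, hQ2⟩ := sorted_spec' hQ
  unfold sortedM at hF
  rw [Bool.cond_false_right, Bool.and_eq_true] at hF
  obtain ⟨hF1, hF2⟩ := hF
  have hF3 := allN_spec hF1
  simp only [Bool.cond_false_right, Bool.and_eq_true] at hF3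
  have h4 := allN_spec h1
  refine card_ge_mul (f := pairK T SF) (q := pairK T SQ) ?_ ?_ (fun n hn => pairK_in hT (hQ1 n hn)) hQ2 ?_
  · intro n hn
    rcases Nat.lt_or_eq_of_le hn with h5 | rfl
    · exact pairK_in hT (hF3 n h5).1
    · exact pairK_in hT hF2
  · intro n hn
    exact blt_lt (hF3 n hn).2
  · intro n hn
    exact Nat.eq_of_beq_eq_true (h4 n (Nat.lt_succ_of_le hn))

end Cfsg.Agent.Ly.CoverCore
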