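import Cfsg.Agent.Ly.WalkCtx
import Cfsg.Agent.Ly.CoverData

/-!
# The double coset representatives are covered by the transitions

For every representative word `w ∈ reps i` a transition `e` with source `i` and words `s`, `k` such that
`w⁻¹ = s · e.r · k` in the 7×7 matrices, `s` a word in the stabiliser generators, `k` a word in the generators of `K`.
-/

set_option autoImplicit false

namespace Cfsg.Agent.Ly.CoverWalk

open Cfsg.Agent.Ly.Mat7 Cfsg.Agent.Ly.Walk Cfsg.Agent.Ly.WalkData Cfsg.Agent.Ly.CoverData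

/-- check that all words are covered by transitions -/
noncomputable def covChk (E : List Edge) (i : ℕ) : List (List ℕ) → List (ℕ × List ℕ × List ℕ) → Bool
  | [], _ => true
  | _ :: _, [] => false
  | w :: ws, (e, s, k) :: cs =>
    match nthE E e with
    | none => false
    | some ed => (Nat.beq ed.i i && eqW (invW w) (ex (tSt i) s ++ (ed.r ++ ex tK k))) && covChk E i ws cs

theorem covChk_sound {E : List Edge} {i : ℕ} (ws : List (List ℕ)) :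
    ∀ cs : List (ℕ × List ℕ × List ℕ), covChk E i ws cs = true → ∀ w ∈ ws, ∃ ed ∈ E, ed.i = i ∧ ∃ s k : List ℕ,
      eqW (invW w) (ex (tSt ed.i) s ++ (ed.r ++ ex tK k)) = true := by
  induction ws with
  | nil => intro cs _ w hw; exact absurd hw List.not_mem_nil
  | cons w0 ws ih =>
    intro cs h w hw
    match cs, h with
    | (e, s, k) :: cs, h =>
      rw [covChk] at h
      cases he : nthE E e with
      | none => rw [he] at h; simp at h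
      | some ed =>
        rw [he] at h
        simp only [Bool.and_eq_true] at h
        rcases List.mem_cons.mp hw with rfl | hw
        · have h1 := Nat.eq_of_beq_eq_true h.1.1
          refine ⟨ed, Ctx.nthE_mem he, h1, s, k, ?_⟩
          rw [h1]
          exact h.1.2
        · exact ih cs h.2 w hw

/-- certificates for `reps 1` -/
def cc1 : List (ℕ × List ℕ × List ℕ) := [
  (0, [], []),
  (7, [14, 12, 10], [15, 13, 11]),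
  (8, [], []),
  (1, [], [10, 10]),
  (2, [4, 4, 7, 7, 9, 9, 12], [1, 1, 2, 2, 5, 5, 7, 7, 8, 8, 10]),
  (3, [14, 12, 10], [14, 12, 10])]

/-- certificates for `reps 2` -/
def cc2 : List (ℕ × List ℕ × List ℕ) := [
  (4, [], []),
  (11, [], [10, 10, 10, 10]),
  (9, [0, 2, 2, 1], [14, 13, 11]),
  (13, [0, 2, 2, 1], [14, 12, 11]),
  (35, [2, 2, 2, 2], []),
  (33, [2, 2, 2, 2], []),
  (16, [0, 2, 0, 3, 1, 3, 0, 2, 1, 3], [1, 3, 3, 4, 7, 7, 9, 9, 10, 12, 14]),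
  (28, [2, 2, 2, 2], []),
  (32, [0, 3, 3, 0, 2, 1, 2, 2], [0, 0, 3, 5, 6, 10, 10, 12, 10]),
  (14, [2, 0, 3, 0, 3, 0, 3, 1, 3], [1, 1, 3, 5, 5, 6, 10, 12, 10, 14, 12, 10]),
  (30, [0, 3, 1, 3, 1, 2, 0, 2, 1, 2], [1, 1, 2, 2, 4, 9, 9, 14, 13])]

/-- certificates for `reps 3` -/
def cc3 : List (ℕ × List ℕ × List ℕ) := [
  (12, [1, 3, 0, 0], [0, 4, 7, 10, 12, 14, 12, 11]),
  (5, [], []),
  (18, [2], [0, 2, 4, 4, 6, 6, 14, 12, 11]),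
  (49, [0, 0, 3, 0, 2, 1], [1, 1, 4, 4, 6, 6, 8, 8, 10, 12, 10, 14, 13, 11]),
  (34, [0, 2, 0, 2, 0, 2, 0], [1, 2, 5, 5, 7, 9, 9, 12, 10, 14, 13]),
  (36, [1, 2, 1, 3, 0, 3, 1], [3, 4, 9, 10, 10, 10, 12]),
  (38, [1, 2, 1, 3, 0, 3, 1], [0, 0, 2, 4, 4, 6, 6, 9, 12, 15]),
  (21, [0, 3, 0, 2, 0], [10, 12, 10, 14, 13, 11]),
  (48, [0, 2, 1, 3, 1, 3, 1, 2], [1, 3, 3, 4, 8, 8, 10]),
  (17, [1, 3, 0, 2, 0, 2, 2], [0, 0, 2, 2, 4, 4, 7, 7, 9, 10]),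
  (29, [2, 0, 2, 2, 0, 3, 0, 3, 1], [3, 3, 5, 6, 8, 8, 11]),
  (44, [0, 2, 1, 2, 0, 2, 2, 1, 2, 2, 0], [2, 2, 5, 7, 7, 8, 11, 15]),
  (46, [0, 2, 0, 2, 0, 3, 1, 3, 1, 3, 1], [10, 12, 10, 14, 13, 11]),
  (39, [2, 0, 3, 0, 2, 2, 0, 2, 0, 2, 1], [0, 0, 2, 2, 4, 7, 10, 10, 10, 10]),
  (50, [2, 0, 2, 1, 3, 0, 3, 1, 3, 0], [0, 0, 3, 5, 7, 8, 14, 13]),
  (41, [3, 0, 3, 0, 2, 2, 0, 2, 0, 2], []),
  (19, [1, 2, 0, 3, 0, 2, 2], [2, 5, 7, 9, 9, 12, 14, 12, 11]),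
  (43, [2, 1, 2, 1, 2, 1, 2], [1, 1, 7, 12, 10, 14, 12, 10])]

/-- certificates for `reps 4` -/
def cc4 : List (ℕ × List ℕ × List ℕ) := [
  (10, [], [15, 13, 11]),
  (6, [], []),
  (23, [], []),
  (37, [0, 3, 0, 2], [2, 2, 4, 4, 8, 10, 15, 13, 11]),
  (22, [0, 2, 0, 4, 2], [0, 0, 3, 5, 7, 7, 8, 10, 10, 10, 12]),
  (64, [0, 0, 4], [1, 1, 2, 5, 5, 9, 12, 10, 14, 13]),
  (55, [2, 0, 2, 4, 2, 0], [1, 2, 2, 5, 5, 6, 6, 8, 10, 12, 14, 11]),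
  (54, [2, 2, 2, 2], []),
  (45, [0, 0, 2], [1, 4, 7, 9, 9, 10, 12, 10, 14, 12, 10]),
  (59, [2, 2, 0, 2, 1, 3, 3], [1, 5, 5, 7, 7, 9, 10, 12, 10, 14, 13, 11]),
  (40, [3, 1, 4], [0, 3, 3, 6, 9, 12, 10, 15]),
  (63, [2, 2, 0, 2, 0, 2, 0, 2], [1, 1, 5, 7, 9, 9, 12, 15]),
  (53, [2, 2, 2, 2], []),
  (47, [2, 1, 2, 4], [1, 2, 4, 4, 7, 7, 9, 9, 13, 15]),
  (51, [2, 1, 2, 2, 2], [4, 7, 7, 9, 12, 14, 11]),
  (60, [3, 0, 3, 1, 2], [0, 2, 5, 5, 6, 6, 9, 9, 10, 12, 14, 12, 10]),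
  (42, [2, 2, 0, 2, 1, 4], [0, 3, 3, 4, 6, 8, 8, 12, 14, 12, 11]),
  (24, [0, 2, 2, 1], [1, 3, 3, 5, 7, 14, 12, 10]),
  (62, [2, 2, 2, 2], []),
  (52, [2, 2, 2, 2], []),
  (25, [3, 3, 0, 5], [0, 3, 3, 4, 4, 6, 6, 8, 8, 15, 13, 11]),
  (56, [2, 2, 2, 2], []),
  (58, [0, 3, 3, 5, 0], [0, 2, 7, 10, 12, 10, 15]),
  (31, [2, 5, 3, 0], [1, 10, 12, 14, 12, 10]),
  (27, [2, 0, 2, 0, 3, 3, 5], [2, 2, 4, 4, 8, 8, 10, 10, 14, 12]),
  (26, [4, 0, 3, 0, 4, 1], [1, 2, 2, 5, 5, 6, 8, 8, 12]),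
  (15, [3, 1, 4], [0, 5, 7, 7, 10, 12, 10, 14, 12, 11]),
  (20, [0, 5, 3, 1], [3, 3, 4, 4, 8, 10, 13, 15]),
  (57, [0, 5, 1, 2], [3, 5, 7, 7, 9, 9, 10, 12, 14, 13, 11]),
  (61, [2, 2, 2, 2], [10, 10, 10, 10])]

theorem cov1 : covChk (baseE ++ derE.map Prod.fst) 1 (reps 1) cc1 = true := by decide +kernel

theorem cov2 : covChk (baseE ++ derE.map Prod.fst) 2 (reps 2) cc2 = true := by decide +kernel

theorem cov3 : covChk (baseE ++ derE.map Prod.fst) 3 (reps 3) cc3 = true := by decide +kernel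

theorem cov4 : covChk (baseE ++ derE.map Prod.fst) 4 (reps 4) cc4 = true := by decide +kernel

end Cfsg.Agent.Ly.CoverWalk
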