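import Mathlib

/-!
# Bounding the index of a subgroup by double cosets

`index_le`: `φ : Ĥ → P`, `P = ⟨φ(Ĥ), z⟩`, `z` normalises `φ(K)`, `Ĥ = ⋃ K w H_i` for each of finitely many points
`t_i`, where `φ(H_i)` fixes the coset `t_i φ(Ĥ)`, and `z φ(w) t_i φ(Ĥ)` lies in some `φ(Ĥ) t_j φ(Ĥ)`.  Then
`|P : φ(Ĥ)| ≤ ∑ |Ĥ| / |H_i|`.
-/

set_option autoImplicit false

namespace Cfsg.Agent.Ly.IndexBound

open Subgroup

variable {P Ĥ : Type*} [Group P] [Group Ĥ]

/-- The orbit of the point `t φ(Ĥ)` under `φ(Ĥ)`. -/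
def orb (φ : Ĥ →* P) (t : P) : Set (P ⧸ φ.range) := Set.range fun h : Ĥ => (QuotientGroup.mk (φ h * t) : P ⧸ φ.range)

theorem orb_finite [Finite Ĥ] (φ : Ĥ →* P) (t : P) : (orb φ t).Finite := Set.finite_range _

theorem mk_eq_of {φ : Ĥ →* P} {x y : P} (h : ∃ g : Ĥ, x = y * φ g) :
    (QuotientGroup.mk x : P ⧸ φ.range) = QuotientGroup.mk y := by
  obtain ⟨g, rfl⟩ := h
  exact (QuotientGroup.mk_mul_of_mem y ⟨g, rfl⟩)

/-- Size of an orbit. -/
theorem ncard_orb_le [Finite Ĥ] (φ : Ĥ →* P) (t : P) (S : Subgroup Ĥ) (hS : ∀ s ∈ S, ∃ h : Ĥ, φ s * t = t * φ h) :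
    (orb φ t).ncard ≤ Nat.card Ĥ / Nat.card S := by
  classical
  have h1 : Nat.card Ĥ / Nat.card S = Nat.card (Ĥ ⧸ S) := by
    rw [Subgroup.card_eq_card_quotient_mul_card_subgroup S, Nat.mul_div_cancel _ Nat.card_pos]
  rw [h1]
  let f : Ĥ ⧸ S → P ⧸ φ.range := Quotient.lift (fun h : Ĥ => (QuotientGroup.mk (φ h * t) : P ⧸ φ.range)) (by
    intro a b hab
    have hab' : a⁻¹ * b ∈ S := QuotientGroup.leftRel_apply.mp hab
    obtain ⟨h, hh⟩ := hS _ hab'
    symm
    apply mk_eq_of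
    refine ⟨h, ?_⟩
    rw [mul_assoc, ← hh, ← mul_assoc, ← map_mul, mul_inv_cancel_left])
  have h2 : orb φ t = Set.range f := by
    ext y
    constructor
    · rintro ⟨h, rfl⟩
      exact ⟨QuotientGroup.mk h, rfl⟩
    · rintro ⟨q, rfl⟩
      induction q using QuotientGroup.induction_on with
      | H h => exact ⟨h, rfl⟩
  rw [h2, ← Nat.card_coe_set_eq]
  exact Nat.card_le_card_of_surjective _ Set.rangeFactorization_surjective

theorem index_le [Finite Ĥ] (φ : Ĥ →* P) (z : P) (hgen : closure (Set.range φ ∪ {z}) = ⊤) (K : Subgroup Ĥ)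
    (hK : ∀ k ∈ K, ∃ k' : Ĥ, z * φ k = φ k' * z) {n : ℕ} (S : Fin n → Subgroup Ĥ) (t : Fin n → P)
    (i₀ : Fin n) (h0 : t i₀ = 1) (hst : ∀ i, ∀ s ∈ S i, ∃ h : Ĥ, φ s * t i = t i * φ h)
    (R : Fin n → Set Ĥ) (hcov : ∀ i, ∀ h : Ĥ, ∃ w ∈ R i, ∃ k ∈ K, ∃ s ∈ S i, h = k * w * s)
    (htr : ∀ i, ∀ w ∈ R i, ∃ j, ∃ g h : Ĥ, z * φ w * t i = φ g * t j * φ h) :
    φ.range.index ≠ 0 ∧ φ.range.index ≤ ∑ i, Nat.card Ĥ / Nat.card (S i) := by
  classical
  let Y : Set (P ⧸ φ.range) := ⋃ i, orb φ (t i)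
  have hYfin : Y.Finite := Set.finite_iUnion fun i => orb_finite φ (t i)
  have hφY : ∀ g : Ĥ, ∀ y ∈ Y, φ g • y ∈ Y := by
    intro g y hy
    obtain ⟨i, h, rfl⟩ := Set.mem_iUnion.mp hy
    refine Set.mem_iUnion.mpr ⟨i, g * h, ?_⟩
    change (QuotientGroup.mk (φ (g * h) * t i) : P ⧸ φ.range) = QuotientGroup.mk (φ g * (φ h * t i))
    rw [map_mul, mul_assoc]
  have hzY : ∀ y ∈ Y, z • y ∈ Y := by
    intro y hy
    obtain ⟨i, h, rfl⟩ := Set.mem_iUnion.mp hy
    obtain ⟨w, hw, k, hk, s, hs, rfl⟩ := hcov i h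
    obtain ⟨k', hk'⟩ := hK k hk
    obtain ⟨h', hh'⟩ := hst i s hs
    obtain ⟨j, g, h'', e⟩ := htr i w hw
    refine Set.mem_iUnion.mpr ⟨j, k' * g, ?_⟩
    change (QuotientGroup.mk (φ (k' * g) * t j) : P ⧸ φ.range) = QuotientGroup.mk (z * (φ (k * w * s) * t i))
    symm
    apply mk_eq_of
    refine ⟨h'' * h', ?_⟩
    calc z * (φ (k * w * s) * t i) = (z * φ k) * φ w * (φ s * t i) := by simp only [map_mul, mul_assoc]
      _ = φ k' * (z * φ w * t i) * φ h' := by rw [hk', hh']; simp only [mul_assoc]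
      _ = φ (k' * g) * t j * φ (h'' * h') := by rw [e]; simp only [map_mul, mul_assoc]
  -- closed under all of P
  have hPY : ∀ p : P, ∀ y ∈ Y, p • y ∈ Y := by
    have hinv : ∀ y ∈ Y, z⁻¹ • y ∈ Y := by
      intro y hy
      have hinj : Set.InjOn (fun y : P ⧸ φ.range => z • y) Y := (MulAction.injective z).injOn
      have hsub : (fun y : P ⧸ φ.range => z • y) '' Y ⊆ Y := by
        rintro _ ⟨x, hx, rfl⟩
        exact hzY x hx
      have heq := Set.eq_of_subset_of_ncard_le hsub hinj.ncard_image.ge hYfin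
      rw [← heq] at hy
      obtain ⟨x, hx, hxy⟩ := hy
      have : z⁻¹ • y = x := by rw [← hxy]; exact inv_smul_smul z x
      rwa [this]
    intro p
    have hp : p ∈ closure (Set.range φ ∪ {z}) := by rw [hgen]; exact mem_top p
    induction hp using closure_induction'' with
    | one => intro y hy; rwa [one_smul]
    | mem x hx =>
      rcases hx with ⟨g, rfl⟩ | rfl
      · exact hφY g
      · exact hzY
    | inv_mem x hx =>
      rcases hx with ⟨g, rfl⟩ | rfl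
      · intro y hy
        rw [← map_inv]
        exact hφY _ y hy
      · exact hinv
    | mul x y _ _ hx hy => intro w hw; rw [mul_smul]; exact hx _ (hy _ hw)
  have hYuniv : Y = Set.univ := by
    ext y
    simp only [Set.mem_univ, iff_true]
    induction y using QuotientGroup.induction_on with
    | H p =>
      have h1 : (QuotientGroup.mk 1 : P ⧸ φ.range) ∈ Y := by
        refine Set.mem_iUnion.mpr ⟨i₀, 1, ?_⟩
        change (QuotientGroup.mk (φ 1 * t i₀) : P ⧸ φ.range) = _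
        rw [h0, map_one, mul_one]
      have h2 := hPY p _ h1
      have h3 : p • (QuotientGroup.mk 1 : P ⧸ φ.range) = QuotientGroup.mk p := by
        change (QuotientGroup.mk (p * 1) : P ⧸ φ.range) = _
        rw [mul_one]
      rwa [h3] at h2
  have hfin : Finite (P ⧸ φ.range) := by
    rw [← Set.finite_univ_iff, ← hYuniv]
    exact hYfin
  refine ⟨index_ne_zero_of_finite, ?_⟩
  calc φ.range.index = (Set.univ : Set (P ⧸ φ.range)).ncard := by rw [Set.ncard_univ]; rfl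
    _ = Y.ncard := by rw [hYuniv]
    _ ≤ ∑ i, (orb φ (t i)).ncard := by
        have : Y = ⋃ i ∈ (Finset.univ : Finset (Fin n)), orb φ (t i) := by simp [Y]
        rw [this]
        exact Finset.set_ncard_biUnion_le _ _
    _ ≤ ∑ i, Nat.card Ĥ / Nat.card (S i) := Finset.sum_le_sum fun i _ => ncard_orb_le φ (t i) (S i) (hst i)

end Cfsg.Agent.Ly.IndexBound
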