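import Cfsg.Agent.Ly.Index
import Cfsg.Agent.Ly.CardDvd
import Cfsg.Agent.Ly.Rep111

/-!
# The index of ⟨a, b, c, d⟩ in the Lyons group is 8835156, and the order of the presented group
-/

set_option autoImplicit false

namespace Cfsg.Agent.Ly.IndexEq

open Cfsg.Agent.Ly.Pres Cfsg.Agent.Ly.WalkCtx Cfsg.Agent.Ly.Index Cfsg.Agent.Ly.Rep111

instance : Finite Cfsg.Spor.Ly := card_ly_le.1

/-- The order of the presented Lyons group. -/
theorem card_ly : Nat.card Cfsg.Spor.Ly = 51765179004000000 := by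
  have hdvd : 51765179004000000 ∣ Nat.card Cfsg.Spor.Ly :=
    CardDvd.dvd Cfsg.Spor.Ly rho (fun i => ⟨gens i, rho_gens i⟩)
  exact le_antisymm card_ly_le.2 (Nat.le_of_dvd Nat.card_pos hdvd)

theorem card_HH_index : Nat.card (HH gens) = 5859000000 ∧ (HH gens).index = 8835156 := by
  have h1 := (HH gens).card_mul_index
  rw [card_ly] at h1
  have h2 := (finite_HH data).2
  have h3 := index_ly_le
  constructor
  · by_contra hne
    have h4 : Nat.card (HH gens) < 5859000000 := lt_of_le_of_ne h2 hne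
    have h5 : Nat.card (HH gens) * (HH gens).index ≤ Nat.card (HH gens) * 8835156 := Nat.mul_le_mul_left _ h3
    omega
  · by_contra hne
    have h4 : (HH gens).index < 8835156 := lt_of_le_of_ne h3 hne
    have h5 : Nat.card (HH gens) * (HH gens).index ≤ 5859000000 * (HH gens).index := Nat.mul_le_mul_right _ h2
    omega

/-- The subgroup of the statement of S1709. -/
theorem HH_eq : HH gens = (Subgroup.closure ({Cfsg.Spor.Ly.a, Cfsg.Spor.Ly.b, Cfsg.Spor.Ly.c, Cfsg.Spor.Ly.d} :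
    Set (FreeGroup Cfsg.Spor.Ly.Gen))).map
      (PresentedGroup.mk (Cfsg.Spor.coxRelators Cfsg.Spor.Ly.edges ∪ {r | r ∈ Cfsg.Spor.Ly.extra})) := by
  rw [MonoidHom.map_closure, Set.image_insert_eq, Set.image_insert_eq, Set.image_insert_eq, Set.image_singleton]
  have ha : gens 0 = pm Cfsg.Spor.Ly.a := by rw [← g_a, w_a, FreeGroup.lift_apply_of]
  have hb : gens 1 = pm Cfsg.Spor.Ly.b := by rw [← g_b, w_b, FreeGroup.lift_apply_of]
  have hc : gens 2 = pm Cfsg.Spor.Ly.c := by rw [← g_c, w_c, FreeGroup.lift_apply_of]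
  have hd : gens 3 = pm Cfsg.Spor.Ly.d := by rw [← g_d, w_d, FreeGroup.lift_apply_of]
  have hr : Set.range (X4 gens) = {gens 0, gens 1, gens 2, gens 3} := by
    ext y
    simp only [Set.mem_range, Set.mem_insert_iff, Set.mem_singleton_iff]
    constructor
    · rintro ⟨i, rfl⟩
      match i with
      | 0 => exact Or.inl rfl
      | 1 => exact Or.inr (Or.inl rfl)
      | 2 => exact Or.inr (Or.inr (Or.inl rfl))
      | 3 => exact Or.inr (Or.inr (Or.inr rfl))
    · rintro (h | h | h | h)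
      · exact ⟨0, h.symm⟩
      · exact ⟨1, h.symm⟩
      · exact ⟨2, h.symm⟩
      · exact ⟨3, h.symm⟩
  show Subgroup.closure (Set.range (X4 gens)) = _
  rw [hr, ha, hb, hc, hd]

theorem index_abcd : ((Subgroup.closure ({Cfsg.Spor.Ly.a, Cfsg.Spor.Ly.b, Cfsg.Spor.Ly.c, Cfsg.Spor.Ly.d} :
    Set (FreeGroup Cfsg.Spor.Ly.Gen))).map
      (PresentedGroup.mk (Cfsg.Spor.coxRelators Cfsg.Spor.Ly.edges ∪ {r | r ∈ Cfsg.Spor.Ly.extra}))).index = 8835156 := by
  rw [← HH_eq]
  exact card_HH_index.2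

end Cfsg.Agent.Ly.IndexEq
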