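import Cfsg.Agent.Lib.PackMat

/-!
# Kernel-fast 7 × 7 matrices over GF(5)

A 7 × 7 matrix over `ZMod 5` is ONE natural number with 49 digits of 16 bits, entry `(i,j)` at digit `7 i + j`.
`mulN X Y` costs about 50 GMP operations.

Words in `a b c d` and their inverses are lists of natural numbers: `0 1 2 3` are `a b c d` and `4 5 6 7` are
`a⁻¹ b⁻¹ c⁻¹ d⁻¹`; `ev x w` evaluates a word in any group.  `word_eq` : a kernel check that two words have the same
7 × 7 matrix.
-/

set_option autoImplicit false

namespace Cfsg.Agent.Ly.Mat7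

open Cfsg.Agent.Lib.PackMat Finset

/-! ### The masks -/

/-- digits 0, 7, 14, ..., 42 -/
def M1 : ℕ := 0xffff000000000000000000000000ffff000000000000000000000000ffff000000000000000000000000ffff000000000000000000000000ffff000000000000000000000000ffff000000000000000000000000ffff

/-- digits 0..6 -/
def M2 : ℕ := 0xffffffffffffffffffffffffffff

/-- 7 low bits of each digit -/
def MK : ℕ := 0x7f007f007f007f007f007f007f007f007f007f007f007f007f007f007f007f007f007f007f007f007f007f007f007f007f007f007f007f007f007f007f007f007f007f007f007f007f007f007f007f007f007f007f007f007f007f007f007f007f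

theorem M1_eq : M1 = 65535 * rep 112 7 := by decide +kernel
theorem M2_eq : M2 = 2 ^ 112 - 1 := by decide +kernel
theorem MK_eq : MK = (2 ^ (16 - 9) - 1) * rep 16 49 := by decide +kernel

/-! ### Product -/

/-- Product of two packed matrices before reduction modulo 5. -/
def raw (X Y : ℕ) : ℕ :=
  Nat.add (Nat.mul (Nat.land X M1) (Nat.land Y M2))
  (Nat.add (Nat.mul (Nat.land (Nat.shiftRight X 16) M1) (Nat.land (Nat.shiftRight Y 112) M2))
  (Nat.add (Nat.mul (Nat.land (Nat.shiftRight X 32) M1) (Nat.land (Nat.shiftRight Y 224) M2))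
  (Nat.add (Nat.mul (Nat.land (Nat.shiftRight X 48) M1) (Nat.land (Nat.shiftRight Y 336) M2))
  (Nat.add (Nat.mul (Nat.land (Nat.shiftRight X 64) M1) (Nat.land (Nat.shiftRight Y 448) M2))
  (Nat.add (Nat.mul (Nat.land (Nat.shiftRight X 80) M1) (Nat.land (Nat.shiftRight Y 560) M2))
  (Nat.mul (Nat.land (Nat.shiftRight X 96) M1) (Nat.land (Nat.shiftRight Y 672) M2)))))))

/-- Digitwise reduction modulo 5 (digits `≤ 169`). -/
def red (D : ℕ) : ℕ := Nat.sub D (Nat.mul 5 (Nat.land (Nat.shiftRight (Nat.mul D 103) 9) MK))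

/-- Product of packed matrices. -/
noncomputable def mulN (X Y : ℕ) : ℕ := force (raw X Y) red

/-- The matrix of a code. -/
def toM (X : ℕ) : Matrix (Fin 7) (Fin 7) (ZMod 5) := fun i j => (dg 16 X (7 * i + j) : ZMod 5)

/-- A valid code: 49 digits, all at most 4. -/
def Ok (X : ℕ) : Prop := X < 2 ^ (16 * 49) ∧ ∀ i, dg 16 X i ≤ 4

theorem col_eq (X k : ℕ) : (X >>> (16 * k)) &&& M1 = E 112 (fun i => dg 16 X (7 * i + k)) 7 := by
  rw [M1_eq, land_rep (by norm_num) (by norm_num)]
  apply E_congr
  intro i _
  rw [show (65535 : ℕ) = 2 ^ 16 - 1 by norm_num, Nat.and_two_pow_sub_one_eq_mod, dg_def, dg_def,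
    Nat.mod_mod_of_dvd _ (pow_dvd_pow 2 (by norm_num)), Nat.shiftRight_eq_div_pow, Nat.div_div_eq_div_mul, ← pow_add]
  congr 3
  ring

theorem row_eq (Y k : ℕ) : (Y >>> (112 * k)) &&& M2 = E 16 (fun j => dg 16 Y (7 * k + j)) 7 := by
  rw [M2_eq, Nat.and_two_pow_sub_one_eq_mod, show (112 : ℕ) = 16 * 7 by norm_num, ← E_dg_mod]
  apply E_congr
  intro i _
  rw [dg_def, dg_def, Nat.shiftRight_eq_div_pow, Nat.div_div_eq_div_mul, ← pow_add]
  congr 3
  ring

theorem E_block (s m n : ℕ) (f : ℕ → ℕ) :
    E s f (n * m) = E (s * n) (fun i => E s (fun j => f (n * i + j)) n) m := by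
  induction m with
  | zero => simp [E_zero]
  | succ m ih =>
    rw [E_succ, ← ih, Nat.mul_succ, E_def, sum_range_add, ← E_def, E_def, E_def, sum_mul]
    congr 1
    apply sum_congr rfl
    intro i _
    rw [show s * (n * m + i) = s * i + s * n * m by ring, pow_add]
    ring

theorem raw_eq (X Y : ℕ) :
    raw X Y = ∑ k ∈ range 7, E 112 (fun i => dg 16 X (7 * i + k)) 7 * E 16 (fun j => dg 16 Y (7 * k + j)) 7 := by
  have h : raw X Y = ∑ k ∈ range 7, ((X >>> (16 * k)) &&& M1) * ((Y >>> (112 * k)) &&& M2) := by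
    simp only [sum_range_succ, sum_range_zero, zero_add]
    change (X &&& M1) * (Y &&& M2) + ((X >>> 16 &&& M1) * (Y >>> 112 &&& M2) +
      ((X >>> 32 &&& M1) * (Y >>> 224 &&& M2) + ((X >>> 48 &&& M1) * (Y >>> 336 &&& M2) +
      ((X >>> 64 &&& M1) * (Y >>> 448 &&& M2) + ((X >>> 80 &&& M1) * (Y >>> 560 &&& M2) +
      (X >>> 96 &&& M1) * (Y >>> 672 &&& M2)))))) = _
    norm_num [add_assoc]
  rw [h]
  apply sum_congr rfl
  intro k _
  rw [col_eq, row_eq]

/-- Entry of the unreduced product. -/
def ent (X Y l : ℕ) : ℕ := ∑ k ∈ range 7, dg 16 X (7 * (l / 7) + k) * dg 16 Y (7 * k + l % 7)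

theorem raw_E (X Y : ℕ) : raw X Y = E 16 (ent X Y) 49 := by
  rw [raw_eq, show (49 : ℕ) = 7 * 7 by norm_num, E_block]
  have h : ∀ i < 7, E 16 (fun j => ent X Y (7 * i + j)) 7 =
      ∑ k ∈ range 7, dg 16 X (7 * i + k) * E 16 (fun j => dg 16 Y (7 * k + j)) 7 := by
    intro i _
    simp only [E_def, mul_sum]
    rw [sum_comm]
    apply sum_congr rfl
    intro j hj
    have hj' := mem_range.mp hj
    have e1 : (7 * i + j) / 7 = i := by omega
    have e2 : (7 * i + j) % 7 = j := by omega
    rw [ent, e1, e2, sum_mul]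
    exact sum_congr rfl fun k _ => by ring
  rw [E_congr h]
  simp only [E_def (16 * 7), sum_mul]
  rw [sum_comm]
  exact sum_congr rfl fun i _ => sum_congr rfl fun k _ => by ring

theorem ent_le {X Y : ℕ} (hX : Ok X) (hY : Ok Y) (l : ℕ) : ent X Y l ≤ 112 := by
  calc ent X Y l ≤ ∑ k ∈ range 7, 4 * 4 := sum_le_sum fun k _ => Nat.mul_le_mul (hX.2 _) (hY.2 _)
    _ = 112 := by simp

theorem red_E {f : ℕ → ℕ} (hf : ∀ l, f l ≤ 112) : red (E 16 f 49) = E 16 (fun l => f l % 5) 49 := by
  have h1 : ∀ l < 49, f l < 2 ^ 16 := fun l _ => lt_of_le_of_lt (hf l) (by norm_num)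
  have h2 : ∀ l < 49, f l * 103 < 2 ^ 16 := fun l _ => by have := hf l; omega
  have e1 : ((E 16 f 49 * 103) >>> 9) &&& MK = E 16 (fun l => f l / 5) 49 := by
    rw [MK_eq, shift_land_rep (by norm_num) (by norm_num), E_mul_const]
    apply E_congr
    intro l hl
    rw [dg_E h2 hl]
    have := hf l
    generalize f l = x at this
    interval_cases x <;> rfl
  change E 16 f 49 - 5 * (((E 16 f 49 * 103) >>> 9) &&& MK) = _
  rw [e1, mul_comm, E_mul_const]
  have h5 : E 16 f 49 = E 16 (fun l => f l % 5) 49 + E 16 (fun l => f l / 5 * 5) 49 := by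
    rw [E_add]
    apply E_congr
    intro l _
    rw [mul_comm, Nat.mod_add_div]
  exact Nat.sub_eq_of_eq_add h5

theorem mulN_eq {X Y : ℕ} (hX : Ok X) (hY : Ok Y) : mulN X Y = E 16 (fun l => ent X Y l % 5) 49 := by
  rw [mulN, force_eq, raw_E, red_E (ent_le hX hY)]

theorem mulN_ok {X Y : ℕ} (hX : Ok X) (hY : Ok Y) : Ok (mulN X Y) := by
  have h0 : ∀ l < 49, ent X Y l % 5 < 2 ^ 16 := fun l _ => by omega
  rw [mulN_eq hX hY]
  refine ⟨E_lt h0, fun i => ?_⟩
  by_cases hi : i < 49
  · rw [dg_E h0 hi]
    omega
  · rw [dg_eq_zero (E_lt h0) (by omega)]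
    omega

theorem toM_mulN {X Y : ℕ} (hX : Ok X) (hY : Ok Y) : toM (mulN X Y) = toM X * toM Y := by
  have h0 : ∀ l < 49, ent X Y l % 5 < 2 ^ 16 := fun l _ => by omega
  ext i j
  have hi := i.2
  have hj := j.2
  rw [Matrix.mul_apply, toM, mulN_eq hX hY, dg_E h0 (by omega), ZMod.natCast_mod]
  have e1 : (7 * (i : ℕ) + j) / 7 = i := by omega
  have e2 : (7 * (i : ℕ) + j) % 7 = j := by omega
  rw [ent, e1, e2]
  push_cast
  rw [Finset.sum_range]
  rfl

theorem toM_inj {X Y : ℕ} (hX : Ok X) (hY : Ok Y) (h : toM X = toM Y) : X = Y := by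
  apply ext_dg hX.1 hY.1
  intro l hl
  have h1 := congrFun (congrFun h ⟨l / 7, by omega⟩) ⟨l % 7, by omega⟩
  have e : 7 * (l / 7) + l % 7 = l := by omega
  change ((dg 16 X (7 * (l / 7) + l % 7) : ℕ) : ZMod 5) = ((dg 16 Y (7 * (l / 7) + l % 7) : ℕ) : ZMod 5) at h1
  rw [e, ZMod.natCast_eq_natCast_iff] at h1
  have h2 := hX.2 l
  have h3 := hY.2 l
  rwa [Nat.ModEq, Nat.mod_eq_of_lt (by omega), Nat.mod_eq_of_lt (by omega)] at h1

/-! ### Validity check -/

/-- 3 low bits of each digit -/
def MV : ℕ := 0x7000700070007000700070007000700070007000700070007000700070007000700070007000700070007000700070007000700070007000700070007000700070007000700070007000700070007000700070007000700070007000700070007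

theorem MV_eq : MV = 7 * rep 16 49 := by decide +kernel

/-- digit 3 in each position -/
def MW : ℕ := 3 * rep 16 49

/-- Kernel check of `Ok`: every digit `x ≤ 7` and `x + 3 ≤ 7`. -/
def okN (X : ℕ) : Bool := Nat.beq (Nat.land X MV) X && Nat.beq (Nat.land (Nat.add X MW) MV) (Nat.add X MW)

theorem okN_spec {X : ℕ} (h : okN X = true) : Ok X := by
  unfold okN at h
  rw [Bool.and_eq_true] at h
  obtain ⟨h1, h2⟩ := h
  have h1 : X &&& MV = X := Nat.eq_of_beq_eq_true h1
  have h2 : (X + MW) &&& MV = X + MW := Nat.eq_of_beq_eq_true h2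
  rw [MV_eq] at h1 h2
  have hlt : X < 2 ^ (16 * 49) := by
    rw [← h1]
    exact land_lt (rep_lt (by norm_num) (by norm_num))
  have hd : ∀ i < 49, dg 16 X i ≤ 7 := by
    intro i hi
    rw [← h1, dg_land, dg_rep (by norm_num) (by norm_num) hi]
    exact Nat.and_le_right
  refine ⟨hlt, fun i => ?_⟩
  by_cases hi : i < 49
  · have e1 : X + MW = E 16 (fun i => dg 16 X i + 3) 49 := by
      rw [MW, rep_mul (by norm_num), ← E_add, E_dg hlt]
    have e2 : dg 16 (X + MW) i = dg 16 X i + 3 := by
      rw [e1, dg_E (fun i hi => by have := hd i hi; omega) hi]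
    have e3 : dg 16 (X + MW) i ≤ 7 := by
      rw [← h2, dg_land, dg_rep (by norm_num) (by norm_num) hi]
      exact Nat.and_le_right
    omega
  · rw [dg_eq_zero hlt (by omega)]
    omega

/-! ### Generators and words -/

/-- code of the identity matrix -/
def oneN : ℕ := 0x1000000000000000000000000000000010000000000000000000000000000000100000000000000000000000000000001000000000000000000000000000000010000000000000000000000000000000100000000000000000000000000000001

/-- `2^784 - 1` -/
def MF : ℕ := 0xffffffffffffffffffffffffffffffffffffffffffffffffffffffffffffffffffffffffffffffffffffffffffffffffffffffffffffffffffffffffffffffffffffffffffffffffffffffffffffffffffffffffffffffffffffffffffffffffffff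

/-- codes of `a b c d a⁻¹ b⁻¹ c⁻¹ d⁻¹` -/
def TG : ℕ := 0x10000000000000000000000000000000100000000000100000000000000000000000000000001000000000000000000000000000000010000000000040000000000000000000000000000000400000000000000000000000100000000000000000000000000000001000000000000000000000002000400010000000000000000000300030000000100000000000000000002000000000001000000000003000400020004000400010000000400020000000100030000000100010004000000000000000000000000000100000000000000000000000000000001000300010000000000000000000000010004000000000000000000000000000100000000000000000000000000000001000400000000000000000000000000010001000100000000000000000000000100040000000000000000000000000000000200040002000000000000000000020000000300000000000000000002000100020000000000000000000000000000000200020000000000000000000000020003000000000000000000000004000000000000000000000000000000040000000000010000000000000000000000000000000100000000000000000000000000000001000000000001000000000000000000000000000000010000000000000000000000010000000000000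0000000000000000001000000000000000000000003000100010000000000000000000200020000000100000000000000000003000000000001000000000003000400030001000100010000000400020000000400020000000100010001000000000000000000000000000100000000000000000000000000000001000200010000000000000000000000010001000000000000000000000000000100000000000000000000000000000001000100000000000000000000000000010003000300000000000000000000000300020000000000000000000000000000000200040002000000000000000000020000000300000000000000000002000100020000000000000000000000000000000400040000000000000000000000040001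

/-- entry of a packed table of matrices -/
def tab (T i : ℕ) : ℕ := Nat.land (Nat.shiftRight T (Nat.mul 784 i)) MF

/-- code of a letter -/
def genN (l : ℕ) : ℕ := bif Nat.ble l 7 then tab TG l else oneN

theorem oneN_ok : Ok oneN := okN_spec (by decide +kernel)

theorem toM_oneN : toM oneN = 1 := by
  ext i j
  fin_cases i <;> fin_cases j <;> decide +kernel

/-- The letters of a word: `0 1 2 3` are the generators, `4 5 6 7` their inverses. -/
def letter {G : Type*} [Group G] (x : Fin 4 → G) : ℕ → G
  | 0 => x 0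
  | 1 => x 1
  | 2 => x 2
  | 3 => x 3
  | 4 => (x 0)⁻¹
  | 5 => (x 1)⁻¹
  | 6 => (x 2)⁻¹
  | 7 => (x 3)⁻¹
  | _ => 1

/-- Value of a word in a group. -/
def ev {G : Type*} [Group G] (x : Fin 4 → G) (w : List ℕ) : G := (w.map (letter x)).prod

section ev

variable {G K : Type*} [Group G] [Group K]

theorem map_letter (f : G →* K) (x : Fin 4 → G) (l : ℕ) : f (letter x l) = letter (fun i => f (x i)) l := by
  match l with
  | 0 | 1 | 2 | 3 => rfl
  | 4 | 5 | 6 | 7 => simp [letter]
  | _ + 8 => simp [letter]

theorem map_ev (f : G →* K) (x : Fin 4 → G) (w : List ℕ) : f (ev x w) = ev (fun i => f (x i)) w := by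
  unfold ev
  rw [map_list_prod, List.map_map]
  congr 1
  apply List.map_congr_left
  intro l _
  exact map_letter f x l

theorem ev_nil (x : Fin 4 → G) : ev x [] = 1 := rfl

theorem ev_cons (x : Fin 4 → G) (l : ℕ) (w : List ℕ) : ev x (l :: w) = letter x l * ev x w := by
  simp [ev]

theorem ev_append (x : Fin 4 → G) (v w : List ℕ) : ev x (v ++ w) = ev x v * ev x w := by
  simp [ev]

theorem letter_mem (x : Fin 4 → G) (S : Subgroup G) (hx : ∀ i, x i ∈ S) (l : ℕ) : letter x l ∈ S := by
  match l with
  | 0 | 1 | 2 | 3 => exact hx _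
  | 4 | 5 | 6 | 7 => exact S.inv_mem (hx _)
  | _ + 8 => exact S.one_mem

theorem ev_mem (x : Fin 4 → G) (S : Subgroup G) (hx : ∀ i, x i ∈ S) (w : List ℕ) : ev x w ∈ S := by
  apply S.list_prod_mem
  intro g hg
  obtain ⟨l, _, rfl⟩ := List.mem_map.mp hg
  exact letter_mem x S hx l

/-- Inverse letter. -/
def invL : ℕ → ℕ
  | 0 => 4
  | 1 => 5
  | 2 => 6
  | 3 => 7
  | 4 => 0
  | 5 => 1
  | 6 => 2
  | 7 => 3
  | n => n

/-- Inverse word. -/
def invW (w : List ℕ) : List ℕ := (w.map invL).reverse

theorem letter_invL (x : Fin 4 → G) (l : ℕ) : letter x (invL l) = (letter x l)⁻¹ := by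
  match l with
  | 0 | 1 | 2 | 3 => rfl
  | 4 | 5 | 6 | 7 => simp [letter, invL]
  | _ + 8 => simp [letter, invL]

theorem ev_invW (x : Fin 4 → G) (w : List ℕ) : ev x (invW w) = (ev x w)⁻¹ := by
  unfold ev invW
  rw [List.prod_inv_reverse, List.map_reverse, List.map_map, List.map_map]
  congr 2
  apply List.map_congr_left
  intro l _
  exact letter_invL x l

end ev

/-- The unit with given codes of the matrix and its inverse. -/
def unitN (X Y : ℕ) (hX : okN X = true) (hY : okN Y = true) (h1 : mulN X Y = oneN) (h2 : mulN Y X = oneN) :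
    GL (Fin 7) (ZMod 5) where
  val := toM X
  inv := toM Y
  val_inv := by rw [← toM_mulN (okN_spec hX) (okN_spec hY), h1, toM_oneN]
  inv_val := by rw [← toM_mulN (okN_spec hY) (okN_spec hX), h2, toM_oneN]

/-- The generators `a b c d` of `G₂(5)` as 7 × 7 matrices. -/
def gen : Fin 4 → GL (Fin 7) (ZMod 5)
  | 0 => unitN (tab TG 0) (tab TG 4) (by decide +kernel) (by decide +kernel) (by decide +kernel) (by decide +kernel)
  | 1 => unitN (tab TG 1) (tab TG 5) (by decide +kernel) (by decide +kernel) (by decide +kernel) (by decide +kernel)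
  | 2 => unitN (tab TG 2) (tab TG 6) (by decide +kernel) (by decide +kernel) (by decide +kernel) (by decide +kernel)
  | 3 => unitN (tab TG 3) (tab TG 7) (by decide +kernel) (by decide +kernel) (by decide +kernel) (by decide +kernel)

theorem genN_ok (l : ℕ) : Ok (genN l) := by
  match l with
  | 0 | 1 | 2 | 3 | 4 | 5 | 6 | 7 => exact okN_spec (by decide +kernel)
  | n + 8 =>
    have h : Nat.ble (n + 8) 7 = false := by
      rw [← Bool.not_eq_true, Nat.ble_eq]
      omega
    rw [genN, h]
    exact oneN_ok

theorem toM_genN (l : ℕ) : toM (genN l) = (letter gen l : GL (Fin 7) (ZMod 5)) := by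
  match l with
  | 0 | 1 | 2 | 3 | 4 | 5 | 6 | 7 => rfl
  | n + 8 =>
    have h : Nat.ble (n + 8) 7 = false := by
      rw [← Bool.not_eq_true, Nat.ble_eq]
      omega
    rw [genN, h]
    exact toM_oneN

/-- Kernel evaluation of a word, starting with the matrix `X`. -/
noncomputable def evalK : List ℕ → ℕ → ℕ
  | [], X => X
  | l :: w, X => force (mulN X (genN l)) fun Y => evalK w Y

theorem evalK_spec (w : List ℕ) : ∀ {X : ℕ}, Ok X →
    Ok (evalK w X) ∧ toM (evalK w X) = toM X * (ev gen w : GL (Fin 7) (ZMod 5)) := by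
  induction w with
  | nil => intro X hX; exact ⟨hX, by simp [evalK, ev_nil]⟩
  | cons l w ih =>
    intro X hX
    rw [evalK, force_eq]
    obtain ⟨h1, h2⟩ := ih (mulN_ok hX (genN_ok l))
    refine ⟨h1, ?_⟩
    rw [h2, toM_mulN hX (genN_ok l), toM_genN, ev_cons, Units.val_mul, Matrix.mul_assoc]

/-- Kernel check of the equality of two words. -/
noncomputable def eqW (v w : List ℕ) : Bool := Nat.beq (evalK v oneN) (evalK w oneN)

/-- Two words with the same 7 × 7 matrix are equal in `GL_7(5)`. -/
theorem word_eq {v w : List ℕ} (h : eqW v w = true) : ev gen v = ev gen w := by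
  have h : evalK v oneN = evalK w oneN := Nat.eq_of_beq_eq_true h
  apply Units.ext
  have h1 := (evalK_spec v oneN_ok).2
  have h2 := (evalK_spec w oneN_ok).2
  rw [toM_oneN, Matrix.one_mul] at h1 h2
  rw [← h1, ← h2, h]

end Cfsg.Agent.Ly.Mat7
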