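import Cfsg.Agent.Ly.Mat7

/-!
# Checker for the z-transitions of the double coset enumeration of the Lyons group over G₂(5)

`G` is a group with elements `X 0, X 1, X 2, X 3` (the generators `a b c d` of the subgroup `H`) and `z`; right cosets
`H g` are compared by `Cong H x y : x * y⁻¹ ∈ H`.  A transition (`Edge`) `(i, r, j, t)` claims
`H g_i r z = H g_j t`, where `g_0 = 1, g_1 = z, g_2, g_3, g_4` are base elements and `r`, `t` are words in `a b c d`.
A new transition is derived from a relator (written as a token list with value `z`) by following known transitions.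
-/

set_option autoImplicit false

namespace Cfsg.Agent.Ly.Walk

open Cfsg.Agent.Ly.Mat7

/-- a transition `H g_i r z = H g_j t` -/
structure Edge where
  /-- index of the source -/
  i : ℕ
  /-- word of the source -/
  r : List ℕ
  /-- index of the target -/
  j : ℕ
  /-- word of the target -/
  t : List ℕ

/-- letters of a path: a word in `a b c d` or `z` -/
inductive Tok
  | w (l : List ℕ)
  | z

/-- entry of a list of words -/
def nth : List (List ℕ) → ℕ → List ℕ
  | [], _ => []
  | a :: _, 0 => a
  | _ :: l, n + 1 => nth l n

/-- entry of a list of edges -/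
def nthE : List Edge → ℕ → Option Edge
  | [], _ => none
  | a :: _, 0 => some a
  | _ :: l, n + 1 => nthE l n

/-- expansion of a word over a table of words -/
def ex (T : List (List ℕ)) : List ℕ → List ℕ
  | [] => []
  | n :: l => nth T n ++ ex T l

/-- follow a path; `cs` gives for every `z` the transition used and the words `s ∈ S_i`, `k ∈ K` with `v = s r k` -/
noncomputable def walk (K Sg : List (List ℕ)) (St : ℕ → List (List ℕ)) (E : List Edge) :
    List Tok → List (ℕ × List ℕ × List ℕ) → ℕ → List ℕ → Option (ℕ × List ℕ)
  | [], _, i, v => some (i, v)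
  | Tok.w l :: ts, cs, i, v => walk K Sg St E ts cs i (v ++ l)
  | Tok.z :: _, [], _, _ => none
  | Tok.z :: ts, _ :: cs, 0, _ => walk K Sg St E ts cs 1 []
  | Tok.z :: ts, (e, s, k) :: cs, i + 1, v =>
    match nthE E e with
    | none => none
    | some ed =>
      cond (Nat.beq ed.i (i + 1) && eqW v (ex (St (i + 1)) s ++ (ed.r ++ ex K k)))
        (walk K Sg St E ts cs ed.j (ed.t ++ ex Sg k)) none

/-- certificate of a transition -/
inductive Cert
  | rev (m : ℕ)
  | path (rot : ℕ) (cs : List (ℕ × List ℕ × List ℕ))

/-- entry of a list of token lists -/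
def nthT : List (List Tok) → ℕ → Option (List Tok)
  | [], _ => none
  | a :: _, 0 => some a
  | _ :: l, n + 1 => nthT l n

/-- check one transition -/
noncomputable def checkCert (K Sg : List (List ℕ)) (St : ℕ → List (List ℕ)) (R : List (List Tok)) (E : List Edge)
    (ed : Edge) : Cert → Bool
  | Cert.rev m =>
    match nthE E m with
    | none => false
    | some e' => Nat.beq ed.i e'.j && (Nat.beq ed.j e'.i && (eqW ed.r e'.t && eqW ed.t (e'.r ++ [0, 0])))
  | Cert.path rot cs =>
    match nthT R rot with
    | none => false
    | some rt =>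
      match walk K Sg St E rt cs ed.i ed.r with
      | none => false
      | some (j, w) => Nat.beq j ed.j && eqW w ed.t

/-- check a list of transitions -/
noncomputable def checkAll (K Sg : List (List ℕ)) (St : ℕ → List (List ℕ)) (R : List (List Tok)) :
    List (Edge × Cert) → List Edge → Bool
  | [], _ => true
  | (ed, c) :: l, E => checkCert K Sg St R E ed c && checkAll K Sg St R l (E ++ [ed])

section sound

variable {G : Type*} [Group G]

/-- same right coset -/
def Cong (H : Subgroup G) (x y : G) : Prop := x * y⁻¹ ∈ H

theorem Cong.refl (H : Subgroup G) (x : G) : Cong H x x := by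
  rw [Cong, mul_inv_cancel]; exact H.one_mem

theorem Cong.symm {H : Subgroup G} {x y : G} (h : Cong H x y) : Cong H y x := by
  rw [Cong] at *
  have := H.inv_mem h
  rwa [mul_inv_rev, inv_inv] at this

theorem Cong.trans {H : Subgroup G} {x y w : G} (h : Cong H x y) (h' : Cong H y w) : Cong H x w := by
  rw [Cong] at *
  have := H.mul_mem h h'
  rwa [mul_assoc, inv_mul_cancel_left] at this

theorem Cong.mul {H : Subgroup G} {x y : G} (h : Cong H x y) (w : G) : Cong H (x * w) (y * w) := by
  rw [Cong] at *
  rwa [mul_inv_rev, mul_assoc, mul_inv_cancel_left]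

theorem Cong.of_mem {H : Subgroup G} {h : G} (hh : h ∈ H) (x : G) : Cong H (h * x) x := by
  rw [Cong, mul_inv_cancel_right]; exact hh

/-- The context of the enumeration. -/
structure Ctx (G : Type*) [Group G] where
  /-- the generators `a b c d` -/
  X : Fin 4 → G
  /-- the fifth generator -/
  z : G
  /-- base elements -/
  g : ℕ → G
  /-- the subgroup -/
  H : Subgroup G
  /-- words for generators of `K` -/
  K : List (List ℕ)
  /-- words for their conjugates under `z` -/
  Sg : List (List ℕ)
  /-- words for generators of the stabilisers -/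
  St : ℕ → List (List ℕ)
  /-- relators as token lists -/
  R : List (List Tok)
  /-- the generators lie in the subgroup -/
  hX : ∀ i, X i ∈ H
  /-- words with the same matrix are equal -/
  wp : ∀ v w, eqW v w = true → ev X v = ev X w
  /-- conjugation by `z` on `K` -/
  hK : ∀ n, ev X (nth K n) * z = z * ev X (nth Sg n)
  /-- stabilisers -/
  hS : ∀ i, 1 ≤ i → ∀ n, g i * ev X (nth (St i) n) * (g i)⁻¹ ∈ H
  g0 : g 0 = 1
  g1 : g 1 = z
  /-- `z² = a²` -/
  hz : z * z = ev X [0, 0]

namespace Ctx

variable (C : Ctx G)

/-- value of a token list -/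
def val : List Tok → G
  | [] => 1
  | Tok.w l :: ts => ev C.X l * val ts
  | Tok.z :: ts => C.z * val ts

/-- validity of a transition -/
def Valid (e : Edge) : Prop := Cong C.H (C.g e.i * ev C.X e.r * C.z) (C.g e.j * ev C.X e.t)

theorem ev_ex_K (k : List ℕ) : ev C.X (ex C.K k) * C.z = C.z * ev C.X (ex C.Sg k) := by
  induction k with
  | nil => simp [ex, ev_nil]
  | cons n k ih => rw [ex, ex, ev_append, ev_append, mul_assoc, ih, ← mul_assoc, C.hK, mul_assoc]

theorem ev_ex_S {i : ℕ} (hi : 1 ≤ i) (s : List ℕ) : C.g i * ev C.X (ex (C.St i) s) * (C.g i)⁻¹ ∈ C.H := by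
  induction s with
  | nil => simp [ex, ev_nil]
  | cons n s ih =>
    rw [ex, ev_append]
    have h := C.H.mul_mem (C.hS i hi n) ih
    have e : C.g i * ev C.X (nth (C.St i) n) * (C.g i)⁻¹ * (C.g i * ev C.X (ex (C.St i) s) * (C.g i)⁻¹) =
      C.g i * (ev C.X (nth (C.St i) n) * ev C.X (ex (C.St i) s)) * (C.g i)⁻¹ := by group
    rwa [e] at h

theorem ev_mem_H (w : List ℕ) : ev C.X w ∈ C.H := ev_mem C.X C.H C.hX w

/-- one step through a known transition -/
theorem step {e : Edge} (he : C.Valid e) (hi : 1 ≤ e.i) {v s k : List ℕ}
    (hv : eqW v (ex (C.St e.i) s ++ (e.r ++ ex C.K k)) = true) :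
    Cong C.H (C.g e.i * ev C.X v * C.z) (C.g e.j * ev C.X (e.t ++ ex C.Sg k)) := by
  rw [C.wp _ _ hv, ev_append, ev_append, ev_append]
  have h1 : C.g e.i * (ev C.X (ex (C.St e.i) s) * (ev C.X e.r * ev C.X (ex C.K k))) * C.z =
      (C.g e.i * ev C.X (ex (C.St e.i) s) * (C.g e.i)⁻¹) * (C.g e.i * ev C.X e.r * C.z * ev C.X (ex C.Sg k)) := by
    rw [mul_assoc (C.g e.i * ev C.X e.r) C.z, ← C.ev_ex_K k]
    group
  rw [h1]
  refine (Cong.of_mem (C.ev_ex_S hi s) _).trans ?_
  rw [← mul_assoc (C.g e.j)]
  exact Cong.mul he _

theorem nthE_mem {E : List Edge} {n : ℕ} {e : Edge} (h : nthE E n = some e) : e ∈ E := by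
  induction E generalizing n with
  | nil => simp [nthE] at h
  | cons a E ih =>
    cases n with
    | zero => simp only [nthE, Option.some.injEq] at h; simp [h]
    | succ n => exact List.mem_cons_of_mem _ (ih h)

theorem nthT_mem {E : List (List Tok)} {n : ℕ} {e : List Tok} (h : nthT E n = some e) : e ∈ E := by
  induction E generalizing n with
  | nil => simp [nthT] at h
  | cons a E ih =>
    cases n with
    | zero => simp only [nthT, Option.some.injEq] at h; simp [h]
    | succ n => exact List.mem_cons_of_mem _ (ih h)

theorem walk_sound {E : List Edge} (hE : ∀ e ∈ E, C.Valid e) (ts : List Tok) :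
    ∀ (cs : List (ℕ × List ℕ × List ℕ)) (i : ℕ) (v : List ℕ) (x : G) (j : ℕ) (w : List ℕ),
      Cong C.H x (C.g i * ev C.X v) → walk C.K C.Sg C.St E ts cs i v = some (j, w) →
      Cong C.H (x * C.val ts) (C.g j * ev C.X w) := by
  induction ts with
  | nil =>
    intro cs i v x j w hx h
    simp only [walk, Option.some.injEq, Prod.mk.injEq] at h
    obtain ⟨rfl, rfl⟩ := h
    rwa [val, mul_one]
  | cons t ts ih =>
    intro cs i v x j w hx h
    cases t with
    | w l =>
      rw [walk] at h
      rw [val, ← mul_assoc]
      refine ih cs i (v ++ l) (x * ev C.X l) j w ?_ h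
      rw [ev_append, ← mul_assoc]
      exact hx.mul _
    | z =>
      rw [val, ← mul_assoc]
      cases cs with
      | nil => simp [walk] at h
      | cons c cs =>
        cases i with
        | zero =>
          rw [walk] at h
          refine ih cs 1 [] (x * C.z) j w ?_ h
          refine (hx.mul C.z).trans ?_
          rw [C.g0, one_mul, C.g1, ev_nil, mul_one]
          exact Cong.of_mem (C.ev_mem_H v) _
        | succ i =>
          obtain ⟨e, s, k⟩ := c
          rw [walk] at h
          cases he : nthE E e with
          | none => rw [he] at h; simp at h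
          | some ed =>
            rw [he] at h
            simp only at h
            cases hb : (Nat.beq ed.i (i + 1) && eqW v (ex (C.St (i + 1)) s ++ (ed.r ++ ex C.K k))) with
            | false => rw [hb] at h; simp at h
            | true =>
              rw [hb, cond_true] at h
              rw [Bool.and_eq_true] at hb
              have hi : ed.i = i + 1 := Nat.eq_of_beq_eq_true hb.1
              have hv := hb.2
              rw [← hi] at hv hx
              refine ih cs ed.j _ (x * C.z) j w ?_ h
              exact (hx.mul C.z).trans (C.step (hE ed (nthE_mem he)) (by omega) hv)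

theorem checkCert_sound (hR : ∀ t ∈ C.R, C.val t = C.z) {E : List Edge} (hE : ∀ e ∈ E, C.Valid e) {ed : Edge}
    {c : Cert} (h : checkCert C.K C.Sg C.St C.R E ed c = true) : C.Valid ed := by
  cases c with
  | rev m =>
    rw [checkCert] at h
    cases he : nthE E m with
    | none => rw [he] at h; simp at h
    | some e' =>
      rw [he] at h
      simp only [Bool.and_eq_true] at h
      obtain ⟨h1, h2, h3, h4⟩ := h
      have h1 := Nat.eq_of_beq_eq_true h1
      have h2 := Nat.eq_of_beq_eq_true h2
      have hv := hE e' (nthE_mem he)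
      rw [Valid] at hv ⊢
      rw [C.wp _ _ h3, C.wp _ _ h4, h1, h2, ev_append, ← C.hz, ← mul_assoc, ← mul_assoc]
      exact (hv.symm).mul _
  | path rot cs =>
    rw [checkCert] at h
    cases hr : nthT C.R rot with
    | none => rw [hr] at h; simp at h
    | some rt =>
      rw [hr] at h
      simp only at h
      cases hw : walk C.K C.Sg C.St E rt cs ed.i ed.r with
      | none => rw [hw] at h; simp at h
      | some q =>
        obtain ⟨j, w⟩ := q
        rw [hw] at h
        simp only [Bool.and_eq_true] at h
        obtain ⟨h1, h2⟩ := h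
        have h1 := Nat.eq_of_beq_eq_true h1
        have h3 := C.walk_sound hE rt cs ed.i ed.r _ j w (Cong.refl _ _) hw
        rw [hR rt (nthT_mem hr), C.wp _ _ h2, h1] at h3
        exact h3

theorem checkAll_sound (hR : ∀ t ∈ C.R, C.val t = C.z) (l : List (Edge × Cert)) :
    ∀ (E : List Edge), (∀ e ∈ E, C.Valid e) → checkAll C.K C.Sg C.St C.R l E = true →
      ∀ e ∈ E ++ l.map Prod.fst, C.Valid e := by
  induction l with
  | nil => intro E hE _; simpa using hE
  | cons p l ih =>
    obtain ⟨ed, c⟩ := p
    intro E hE h
    rw [checkAll, Bool.and_eq_true] at h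
    have hv := C.checkCert_sound hR hE h.1
    have := ih (E ++ [ed]) (by
      intro e he
      rcases List.mem_append.mp he with he | he
      · exact hE e he
      · rw [List.mem_singleton.mp he]; exact hv) h.2
    simpa using this

end Ctx

end sound

end Cfsg.Agent.Ly.Walk
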