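import Cfsg.Agent.Ly.Data111
import Cfsg.Agent.Ly.Pres

/-!
# Relators of the Lyons group on 111 x 111 matrices, part A (kernel computation)
-/

set_option autoImplicit false

namespace Cfsg.Agent.Ly.Rel111A

open Cfsg.Agent.Lib.PackMat Cfsg.Agent.Ly.Data111 Cfsg.Agent.Ly.Pres

theorem r1 : checkScalar C (rel1.map code) 1 0 C.n = true := by decide +kernel

theorem r2 : checkScalar C (rel2.map code) 1 0 C.n = true := by decide +kernel

theorem r3 : checkScalar C (rel3.map code) 1 0 C.n = true := by decide +kernel

theorem r4 : checkScalar C (rel4.map code) 1 0 C.n = true := by decide +kernel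

theorem r5 : checkScalar C (rel5.map code) 1 0 C.n = true := by decide +kernel

theorem r11 : checkScalar C (rel11.map code) 1 0 C.n = true := by decide +kernel

theorem r12 : checkScalar C (rel12.map code) 1 0 C.n = true := by decide +kernel

theorem r13 : checkScalar C (rel13.map code) 1 0 C.n = true := by decide +kernel

theorem r14 : checkScalar C (rel14.map code) 1 0 C.n = true := by decide +kernel

theorem r15 : checkScalar C (rel15.map code) 1 0 C.n = true := by decide +kernel

theorem r16 : checkScalar C (rel16.map code) 1 0 C.n = true := by decide +kernel

theorem r17 : checkScalar C (rel17.map code) 1 0 C.n = true := by decide +kernel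

theorem r18 : checkScalar C (rel18.map code) 1 0 C.n = true := by decide +kernel

theorem r19 : checkScalar C (rel19.map code) 1 0 C.n = true := by decide +kernel

theorem r20 : checkScalar C (rel20.map code) 1 0 C.n = true := by decide +kernel

theorem r21 : checkScalar C (rel21.map code) 1 0 C.n = true := by decide +kernel

theorem r22 : checkScalar C (rel22.map code) 1 0 C.n = true := by decide +kernel

theorem r23 : checkScalar C (rel23.map code) 1 0 C.n = true := by decide +kernel

theorem r24 : checkScalar C (rel24.map code) 1 0 C.n = true := by decide +kernel

theorem r25 : checkScalar C (rel25.map code) 1 0 C.n = true := by decide +kernel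

end Cfsg.Agent.Ly.Rel111A
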