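import Cfsg.Agent.Ly.CoverWalk
import Cfsg.Agent.Ly.Cover
import Cfsg.Agent.Ly.IndexBound

/-!
# The upper bound for the index of ⟨a, b, c, d⟩ in the Lyons group

For five elements `x` of a group `P` satisfying the relations of the presentation, generating `P`, and a homomorphism
`φ` from the matrix group `Hhat = G₂(5)` to `P` with `φ (gen i) = x i`, the index of the range of `φ` is at most
`8835156`.  Moreover every element of `P` is in `φ(Hhat) * base i * φ(Hhat)` for one of five base elements.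
-/

set_option autoImplicit false

namespace Cfsg.Agent.Ly.Upper

open Cfsg.Agent.Ly.Mat7 Cfsg.Agent.Ly.Walk Cfsg.Agent.Ly.WalkData Cfsg.Agent.Ly.Pres Cfsg.Agent.Ly.WalkFacts
  Cfsg.Agent.Ly.WalkCtx Cfsg.Agent.Ly.CoverCore Cfsg.Agent.Ly.Cover Cfsg.Agent.Ly.CoverData Cfsg.Agent.Ly.CoverWalk

section

variable {P : Type*} [Group P] (x : Fin 5 → P)

/-- the hypotheses: relations, homomorphism from the matrix group -/
structure Data where
  /-- the relations hold -/
  hx : ∀ w ∈ relWords, FreeGroup.lift x (FreeGroup.mk w) = 1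
  /-- the homomorphism from `G₂(5)` -/
  φ : Hhat →* P
  /-- its values on the generators -/
  hφ : ∀ i, φ ⟨gen i, Subgroup.subset_closure ⟨i, rfl⟩⟩ = X4 x i

variable {x} (D : Data x)

namespace Data

/-- the generators of `Hhat` -/
def hgen (i : Fin 4) : Hhat := ⟨gen i, Subgroup.subset_closure ⟨i, rfl⟩⟩

theorem coe_ev (w : List ℕ) : ((ev hgen w : Hhat) : GL75) = ev gen w := map_ev Hhat.subtype hgen w

theorem mk_ev (w : List ℕ) (h : ev gen w ∈ Hhat) : (⟨ev gen w, h⟩ : Hhat) = ev hgen w := Subtype.ext (coe_ev w).symm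

include D in
theorem φ_ev (w : List ℕ) : D.φ (ev hgen w) = ev (X4 x) w := by
  rw [map_ev]
  congr 1
  funext i
  exact D.hφ i

include D in
theorem wp (v w : List ℕ) (h : eqW v w = true) : ev (X4 x) v = ev (X4 x) w := by
  rw [← D.φ_ev, ← D.φ_ev]
  congr 1
  apply Subtype.ext
  rw [coe_ev, coe_ev]
  exact word_eq h

/-- the context -/
def C : Ctx P := ctx x D.hx D.wp

theorem range_φ : D.φ.range = HH x := by
  apply le_antisymm
  · rintro _ ⟨⟨g, hg⟩, rfl⟩
    induction hg using Subgroup.closure_induction with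
    | mem y hy =>
      obtain ⟨i, rfl⟩ := hy
      rw [D.hφ]
      exact X4_mem x i
    | one =>
      have : (⟨1, Subgroup.one_mem _⟩ : Hhat) = 1 := rfl
      rw [this, map_one]; exact (HH x).one_mem
    | mul y z hy hz h1 h2 =>
      have : (⟨y * z, Subgroup.mul_mem _ hy hz⟩ : Hhat) = (⟨y, hy⟩ : Hhat) * ⟨z, hz⟩ := rfl
      rw [this, map_mul]; exact (HH x).mul_mem h1 h2
    | inv y hy h1 =>
      have : (⟨y⁻¹, Subgroup.inv_mem _ hy⟩ : Hhat) = (⟨y, hy⟩ : Hhat)⁻¹ := rfl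
      rw [this, map_inv]; exact (HH x).inv_mem h1
  · rw [Subgroup.closure_le]
    rintro _ ⟨i, rfl⟩
    exact ⟨_, D.hφ i⟩

/-- a property of the elements of `subOf gen L` from its generators -/
theorem subOf_induction (L : List (List ℕ)) (Q : Subgroup P) (h : ∀ w ∈ L, ev (X4 x) w ∈ Q) :
    ∀ s ∈ (subOf gen L).subgroupOf Hhat, D.φ s ∈ Q := by
  have h1 : ∀ g, (hg : g ∈ subOf gen L) → ∀ hh : g ∈ Hhat, D.φ ⟨g, hh⟩ ∈ Q := by
    intro g hg
    induction hg using Subgroup.closure_induction with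
    | mem y hy =>
      obtain ⟨w, hw, rfl⟩ := hy
      intro hh
      rw [mk_ev, D.φ_ev]
      exact h w hw
    | one =>
      intro hh
      have : (⟨1, hh⟩ : Hhat) = 1 := rfl
      rw [this, map_one]; exact Q.one_mem
    | mul y z hy hz h1 h2 =>
      intro hh
      have hy' := subOf_le_Hhat L hy
      have hz' := subOf_le_Hhat L hz
      have : (⟨y * z, hh⟩ : Hhat) = (⟨y, hy'⟩ : Hhat) * ⟨z, hz'⟩ := rfl
      rw [this, map_mul]; exact Q.mul_mem (h1 hy') (h2 hz')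
    | inv y hy h1 =>
      intro hh
      have hy' := subOf_le_Hhat L hy
      have : (⟨y⁻¹, hh⟩ : Hhat) = (⟨y, hy'⟩ : Hhat)⁻¹ := rfl
      rw [this, map_inv]; exact Q.inv_mem (h1 hy')
  rintro ⟨s, hs⟩ hs2
  exact h1 s hs2 hs

/-- the subgroup `g⁻¹ H g` -/
abbrev conjH (g : P) : Subgroup P := (HH x).comap (MulAut.conj g).toMonoidHom

theorem mem_conjH {g y : P} : y ∈ conjH (x := x) g ↔ g * y * g⁻¹ ∈ HH x := Iff.rfl

/-- the stabiliser words are among the generators of `tSt` -/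
theorem stab_ok : ∀ i ∈ [1, 2, 3, 4], ∀ w ∈ Hgens i, ∃ n ∈ [0, 2, 4, 6, 8, 10, 12, 14],
    eqW w (nth (tSt i) n) = true := by
  decide +kernel

/-- `z⁻¹ K z ≤ H` -/
theorem conj_K (k : Hhat) (hk : k ∈ (Hsub 1).subgroupOf Hhat) : (x 4)⁻¹ * D.φ k * x 4 ∈ HH x := by
  have h := D.subOf_induction (Hgens 1) (conjH (x := x) (x 4)⁻¹) (by
    intro w hw
    rw [mem_conjH, inv_inv]
    obtain ⟨n, -, hn⟩ := stab_ok 1 (by simp) w hw
    rw [D.wp _ _ hn]
    have h1 := zkz' x D.hx [n]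
    rw [ex, ex, List.append_nil] at h1
    exact h1) k hk
  rw [mem_conjH, inv_inv] at h
  exact h

/-- the stabilisers -/
theorem conj_S (i : ℕ) (h1 : 1 ≤ i) (h4 : i ≤ 4) (s : Hhat) (hs : s ∈ (Hsub i).subgroupOf Hhat) :
    base x i * D.φ s * (base x i)⁻¹ ∈ HH x := by
  have h := D.subOf_induction (Hgens i) (conjH (x := x) (base x i)) (by
    intro w hw
    rw [mem_conjH]
    have hi : i ∈ [1, 2, 3, 4] := by
      simp only [List.mem_cons, List.not_mem_nil, or_false]; omega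
    obtain ⟨n, -, hn⟩ := stab_ok i hi w hw
    rw [D.wp _ _ hn]
    exact D.C.hS i h1 n) s hs
  exact h

theorem target_lt : ∀ e ∈ baseE ++ derE.map Prod.fst, e.j < 5 := by decide

/-- all representatives are covered -/
theorem cov_all (i : ℕ) (h1 : 1 ≤ i) (h4 : i ≤ 4) (w : List ℕ) (hw : w ∈ reps i) :
    ∃ ed ∈ baseE ++ derE.map Prod.fst, ed.i = i ∧ ∃ s k : List ℕ,
      eqW (invW w) (ex (tSt ed.i) s ++ (ed.r ++ ex tK k)) = true := by
  match i, h1, h4, hw with
  | 1, _, _, hw => exact covChk_sound _ _ cov1 w hw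
  | 2, _, _, hw => exact covChk_sound _ _ cov2 w hw
  | 3, _, _, hw => exact covChk_sound _ _ cov3 w hw
  | 4, _, _, hw => exact covChk_sound _ _ cov4 w hw

/-- The union of the double cosets. -/
def U (x : Fin 5 → P) : Set P := {g | ∃ i < 5, ∃ h1 ∈ HH x, ∃ h2 ∈ HH x, g = h1 * base x i * h2}

theorem one_mem_U : (1 : P) ∈ U x :=
  ⟨0, by norm_num, 1, (HH x).one_mem, 1, (HH x).one_mem, by rw [base, mul_one, mul_one]⟩

theorem mul_H_mem_U {g h : P} (hg : g ∈ U x) (hh : h ∈ HH x) : g * h ∈ U x := by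
  obtain ⟨i, hi, h1, hh1, h2, hh2, rfl⟩ := hg
  exact ⟨i, hi, h1, hh1, h2 * h, (HH x).mul_mem hh2 hh, by rw [mul_assoc]⟩

include D in
theorem mul_z_mem_U {g : P} (hg : g ∈ U x) : g * x 4 ∈ U x := by
  obtain ⟨i, hi, h1, hh1, h2, hh2, rfl⟩ := hg
  rcases Nat.eq_zero_or_pos i with rfl | hpos
  · refine ⟨1, by norm_num, h1 * h2, (HH x).mul_mem hh1 hh2, 1, (HH x).one_mem, ?_⟩
    show h1 * 1 * h2 * x 4 = h1 * h2 * x 4 * 1
    rw [mul_one, mul_one]
  · rw [← D.range_φ] at hh2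
    obtain ⟨y, rfl⟩ := hh2
    obtain ⟨w, hw, k, hk, s, hs, hy⟩ := covering (i := i) (by omega) ((y⁻¹ : Hhat) : GL75) (y⁻¹).2
    have hk' : k ∈ Hhat := Hsub_le_Hhat 1 hk
    have hs' : s ∈ Hhat := Hsub_le_Hhat i hs
    have hy2 : y⁻¹ = (⟨k, hk'⟩ : Hhat) * ev hgen w * ⟨s, hs'⟩ := by
      apply Subtype.ext
      rw [hy, Subgroup.coe_mul, Subgroup.coe_mul, coe_ev]
    have hy3 : D.φ y = (D.φ ⟨s, hs'⟩)⁻¹ * ev (X4 x) (invW w) * (D.φ ⟨k, hk'⟩)⁻¹ := by
      have h3 : D.φ y⁻¹ = D.φ ⟨k, hk'⟩ * ev (X4 x) w * D.φ ⟨s, hs'⟩ := by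
        rw [hy2, map_mul, map_mul, D.φ_ev]
      rw [map_inv] at h3
      rw [← inv_inv (D.φ y), h3, ev_invW]
      group
    obtain ⟨ed, hed, hedi, s0, k0, hc⟩ := cov_all i hpos (by omega) w hw
    have hj := target_lt ed hed
    subst hedi
    have hstep := D.C.step (valid_all x D.hx D.wp ed hed) hpos hc
    set y' : P := ev (X4 x) (ed.t ++ ex tS k0) with hy'
    have hstep2 : base x ed.i * ev (X4 x) (invW w) * x 4 * (base x ed.j * y')⁻¹ ∈ HH x := hstep
    have hy'mem : y' ∈ HH x := ev_mem_HH x _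
    have hS := D.conj_S ed.i hpos (by omega) ⟨s, hs'⟩ hs
    have hKK := D.conj_K ⟨k, hk'⟩ hk
    refine ⟨ed.j, hj, h1 * (base x ed.i * D.φ ⟨s, hs'⟩ * (base x ed.i)⁻¹)⁻¹ *
      (base x ed.i * ev (X4 x) (invW w) * x 4 * (base x ed.j * y')⁻¹), ?_,
      y' * ((x 4)⁻¹ * D.φ ⟨k, hk'⟩ * x 4)⁻¹, ?_, ?_⟩
    · exact (HH x).mul_mem ((HH x).mul_mem hh1 ((HH x).inv_mem hS)) hstep2
    · exact (HH x).mul_mem hy'mem ((HH x).inv_mem hKK)
    · rw [hy3]; group

include D in
theorem mul_zinv_mem_U {g : P} (hg : g ∈ U x) : g * (x 4)⁻¹ ∈ U x := by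
  have h : (x 4)⁻¹ = (ev (X4 x) [0, 0])⁻¹ * x 4 := by rw [← hzz x D.hx]; group
  rw [h, ← mul_assoc]
  exact D.mul_z_mem_U (mul_H_mem_U hg ((HH x).inv_mem (ev_mem_HH x _)))

include D in
/-- The double coset decomposition. -/
theorem double_cosets (hgen : Subgroup.closure (Set.range x) = ⊤) (g : P) :
    ∃ i < 5, ∃ h1 ∈ HH x, ∃ h2 ∈ HH x, g = h1 * base x i * h2 := by
  have hg : g ∈ Subgroup.closure (Set.range x) := by rw [hgen]; trivial
  have key : g ∈ U x := by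
    have hmul : ∀ i : Fin 5, ∀ g ∈ U x, g * x i ∈ U x := by
      intro i g hg
      induction i using Fin.lastCases with
      | last => exact D.mul_z_mem_U hg
      | cast i => exact mul_H_mem_U hg (X4_mem x i)
    have hmulinv : ∀ i : Fin 5, ∀ g ∈ U x, g * (x i)⁻¹ ∈ U x := by
      intro i g hg
      induction i using Fin.lastCases with
      | last => exact D.mul_zinv_mem_U hg
      | cast i => exact mul_H_mem_U hg ((HH x).inv_mem (X4_mem x i))
    induction hg using Subgroup.closure_induction_right with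
    | one => exact one_mem_U
    | mul_right y _ s hs ih =>
      obtain ⟨i, rfl⟩ := hs
      exact hmul i y ih
    | mul_inv_cancel y _ s hs ih =>
      obtain ⟨i, rfl⟩ := hs
      exact hmulinv i y ih
  exact key

end Data

end

end Cfsg.Agent.Ly.Upper
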