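import Cfsg.Agent.Ly.WalkFacts

/-!
# The context of the double coset enumeration

`ctx x hx wp : Ctx G` for five elements satisfying the relations of the Lyons group; `valid_all`: all the transitions of
`WalkData` are valid.
-/

set_option autoImplicit false

namespace Cfsg.Agent.Ly.WalkCtx

open Cfsg.Agent.Ly.Mat7 Cfsg.Agent.Ly.Walk Cfsg.Agent.Ly.WalkData Cfsg.Agent.Ly.Pres Cfsg.Agent.Ly.WalkFacts

/-- x366 -/
def wx366 : List ℕ := [1, 0, 5, 4, 5, 5, 4, 5, 2, 1, 1, 2, 1, 3, 2, 5, 5, 3, 2, 1, 2]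

/-- inverse of x29 -/
def wx29i : List ℕ := [6, 5, 6, 7, 1, 1, 6, 7, 1, 6, 5, 6, 4, 2, 5, 5, 0, 5, 5, 0, 5, 4]

/-- inverse of x370 -/
def wx370i : List ℕ := [0, 5, 0, 1, 1, 0, 6, 0, 1, 4, 3, 2, 0, 6, 5, 6, 4, 3]

/-- inverse of x371 -/
def wx371i : List ℕ := [5, 0, 1, 0, 1, 6, 4, 6, 0, 6, 3, 2, 5, 6, 0, 2]

section

variable {G : Type*} [Group G] (x : Fin 5 → G)

/-- the first four elements -/
abbrev X4 : Fin 4 → G := fun i => x i.castSucc

/-- base elements -/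
def base : ℕ → G
  | 0 => 1
  | 1 => x 4
  | 2 => (x 4)⁻¹ * (x 3)⁻¹ * (x 4)⁻¹
  | 3 => x 4 * ev (X4 x) wx366 * x 4
  | 4 => x 4 * ev (X4 x) [1, 3] * x 4
  | _ => 1

/-- the subgroup generated by the first four elements -/
abbrev HH : Subgroup G := Subgroup.closure (Set.range (X4 x))

theorem X4_mem (i : Fin 4) : X4 x i ∈ HH x := Subgroup.subset_closure ⟨i, rfl⟩

theorem ev_mem_HH (w : List ℕ) : ev (X4 x) w ∈ HH x := ev_mem _ _ (X4_mem x) w

theorem ex_conj {K Sg : List (List ℕ)} {X : Fin 4 → G} {z : G} (hK : ∀ n, ev X (nth K n) * z = z * ev X (nth Sg n))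
    (k : List ℕ) : ev X (ex K k) * z = z * ev X (ex Sg k) := by
  induction k with
  | nil => simp [ex, ev_nil]
  | cons n k ih => rw [ex, ex, ev_append, ev_append, mul_assoc, ih, ← mul_assoc, hK, mul_assoc]

variable (hx : ∀ w ∈ relWords, FreeGroup.lift x (FreeGroup.mk w) = 1)

include hx

theorem hK (n : ℕ) : ev (X4 x) (nth tK n) * x 4 = x 4 * ev (X4 x) (nth tS n) :=
  chkK_sound x hx tK tS certK certK_ok n

theorem hKex (k : List ℕ) : ev (X4 x) (ex tK k) * x 4 = x 4 * ev (X4 x) (ex tS k) := ex_conj (hK x hx) k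

theorem hzz : x 4 * x 4 = ev (X4 x) [0, 0] := by
  have h := hx rel81 (by simp [relWords])
  rw [rel81, lift_cons, lift_cons, lift_cons, lift_cons, lift_nil] at h
  have h2 : ev (X4 x) [0, 0] = x 0 * x 0 := by simp [ev, letter]; rfl
  rw [h2]
  change x 4 * (x 4 * ((x 0)⁻¹ * ((x 0)⁻¹ * 1))) = 1 at h
  rw [mul_one, ← mul_assoc, ← mul_inv_rev, mul_inv_eq_one] at h
  exact h

/-- conjugation by `z` from the left -/
theorem zkz (k : List ℕ) : x 4 * ev (X4 x) (ex tK k) * (x 4)⁻¹ ∈ HH x := by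
  have h1 := hKex x hx k
  have h2 : x 4 * ev (X4 x) (ex tK k) * (x 4)⁻¹ =
      (x 4 * x 4) * ev (X4 x) (ex tS k) * (x 4 * x 4)⁻¹ := by
    have h3 : ev (X4 x) (ex tK k) = x 4 * ev (X4 x) (ex tS k) * (x 4)⁻¹ := by rw [← h1, mul_inv_cancel_right]
    rw [h3]; group
  rw [h2, hzz x hx]
  exact (HH x).mul_mem ((HH x).mul_mem (ev_mem_HH x _) (ev_mem_HH x _)) ((HH x).inv_mem (ev_mem_HH x _))

theorem zkz' (k : List ℕ) : (x 4)⁻¹ * ev (X4 x) (ex tK k) * x 4 ∈ HH x := by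
  rw [mul_assoc, hKex x hx k, inv_mul_cancel_left]
  exact ev_mem_HH x _

variable (wp : ∀ v w : List ℕ, eqW v w = true → ev (X4 x) v = ev (X4 x) w)

include wp

/-- stabiliser elements for base elements `z p z` -/
theorem conj_mem3 (p s κ κ' : List ℕ) (h1 : eqW s (ex tS κ) = true)
    (h2 : eqW (p ++ ex tK κ) (ex tK κ' ++ p) = true) :
    (x 4 * ev (X4 x) p * x 4) * ev (X4 x) s * (x 4 * ev (X4 x) p * x 4)⁻¹ ∈ HH x := by
  have e1 : x 4 * ev (X4 x) p * x 4 * ev (X4 x) s = x 4 * ev (X4 x) (ex tK κ') * ev (X4 x) p * x 4 := by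
    rw [wp _ _ h1, mul_assoc _ (x 4), ← hKex x hx κ, mul_assoc (x 4), ← mul_assoc (ev (X4 x) p), ← ev_append,
      wp _ _ h2, ev_append]
    group
  rw [e1]
  have e2 : x 4 * ev (X4 x) (ex tK κ') * ev (X4 x) p * x 4 * (x 4 * ev (X4 x) p * x 4)⁻¹ =
      x 4 * ev (X4 x) (ex tK κ') * (x 4)⁻¹ := by group
  rw [e2]
  exact zkz x hx κ'

/-- stabiliser elements for the base element `z⁻¹ d⁻¹ z⁻¹` -/
theorem conj_mem2 (s κ κ' : List ℕ) (h1 : eqW s (ex tK κ) = true)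
    (h2 : eqW (ex tS κ ++ [3]) ([3] ++ ex tK κ') = true) :
    ((x 4)⁻¹ * (x 3)⁻¹ * (x 4)⁻¹) * ev (X4 x) s * ((x 4)⁻¹ * (x 3)⁻¹ * (x 4)⁻¹)⁻¹ ∈ HH x := by
  have h3 : ev (X4 x) [3] = x 3 := by simp [ev, letter]; rfl
  have h4 := wp _ _ h2
  rw [ev_append, ev_append, h3] at h4
  have e1 : ((x 4)⁻¹ * (x 3)⁻¹ * (x 4)⁻¹) * ev (X4 x) s * ((x 4)⁻¹ * (x 3)⁻¹ * (x 4)⁻¹)⁻¹ =
      (x 4)⁻¹ * ((x 3)⁻¹ * ((x 4)⁻¹ * (ev (X4 x) s * x 4) * x 3)) * x 4 := by group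
  rw [e1, wp _ _ h1, hKex x hx κ, inv_mul_cancel_left, h4, inv_mul_cancel_left]
  exact zkz' x hx κ'

omit hx wp in
theorem conj_inv {g : G} {s s' : List ℕ} (h : g * ev (X4 x) s * g⁻¹ ∈ HH x) (hs : s' = invW s) :
    g * ev (X4 x) s' * g⁻¹ ∈ HH x := by
  rw [hs, ev_invW]
  have h1 := (HH x).inv_mem h
  have h2 : (g * ev (X4 x) s * g⁻¹)⁻¹ = g * (ev (X4 x) s)⁻¹ * g⁻¹ := by group
  rwa [h2] at h1

omit hx wp in
theorem conj_nil (g : G) : g * ev (X4 x) [] * g⁻¹ ∈ HH x := by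
  rw [ev_nil, mul_one, mul_inv_cancel]; exact (HH x).one_mem

omit wp in
theorem g2_x369 : base x 2 * ev (X4 x) (nth tS2 0) * (base x 2)⁻¹ ∈ HH x := by
  have h : chk ((4, false) :: (3, false) :: (4, false) :: (fw (nth tS2 0) ++ [(4, true), (3, true), (4, true)]))
      (fw wx29i) ([(0, true), (1, true), (0, false), (1, true), (1, true), (0, false), (1, true), (1, true), (2, false), (0, true), (2, true), (1, true), (2, true), (1, false), (3, true), (2, true), (1, false), (1, false), (3, true), (2, true), (1, true), (2, true)]) rel84 false = true := by decide +kernel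
  have h1 := chk_sound x hx h
  rw [lift_cons, lift_cons, lift_cons, lift_append, ← ev_fw, ← ev_fw, lift_cons, lift_cons, lift_cons, lift_nil,
    mul_one] at h1
  have e : base x 2 * ev (X4 x) (nth tS2 0) * (base x 2)⁻¹ =
      (x 4)⁻¹ * ((x 3)⁻¹ * ((x 4)⁻¹ * (ev (X4 x) (nth tS2 0) * (x 4 * (x 3 * x 4))))) := by
    rw [base]; group
  rw [e]
  have h2 : (x 4)⁻¹ * ((x 3)⁻¹ * ((x 4)⁻¹ * (ev (X4 x) (nth tS2 0) * (x 4 * (x 3 * x 4))))) = ev (X4 x) wx29i := h1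
  rw [h2]
  exact ev_mem_HH x _

omit wp in
theorem g3_x365 : base x 3 * ev (X4 x) (nth tS3 0) * (base x 3)⁻¹ ∈ HH x := by
  have h : chk ((4, true) :: (fw wx366 ++ (4, true) :: (fw (nth tS3 0) ++ (4, false) :: (fw (invW wx366) ++
      [(4, false)])))) (fw wx370i) ([(3, false), (0, true), (2, true), (1, true), (2, true), (0, false), (2, false), (3, false), (0, true), (1, false), (0, false), (2, true), (0, false), (1, false), (1, false), (0, false), (1, true), (0, false)]) rel85 false = true := by decide +kernel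
  have h1 := chk_sound x hx h
  rw [lift_cons, lift_append, lift_cons, lift_append, lift_cons, lift_append, lift_cons, lift_nil,
    mul_one, ← ev_fw, ← ev_fw, ← ev_fw, ← ev_fw, ev_invW] at h1
  have e : base x 3 * ev (X4 x) (nth tS3 0) * (base x 3)⁻¹ =
      x 4 * (ev (X4 x) wx366 * (x 4 * (ev (X4 x) (nth tS3 0) * ((x 4)⁻¹ * ((ev (X4 x) wx366)⁻¹ * (x 4)⁻¹))))) := by
    rw [base]; group
  rw [e]
  have h2 : x 4 * (ev (X4 x) wx366 * (x 4 * (ev (X4 x) (nth tS3 0) * ((x 4)⁻¹ * ((ev (X4 x) wx366)⁻¹ * (x 4)⁻¹))))) =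
    ev (X4 x) wx370i := h1
  rw [h2]
  exact ev_mem_HH x _

omit wp in
theorem g4_x25 : base x 4 * ev (X4 x) (nth tS4 0) * (base x 4)⁻¹ ∈ HH x := by
  have h : chk ((4, true) :: (fw [1, 3] ++ (4, true) :: (fw (nth tS4 0) ++ (4, false) :: (fw (invW [1, 3]) ++
      [(4, false)])))) (fw wx371i) ([(2, false), (0, false), (2, true), (1, true), (2, false), (3, false), (2, true), (0, false), (2, true), (0, true), (2, true), (1, false), (0, false), (1, false), (0, false), (1, true)]) rel86 false = true := by decide +kernel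
  have h1 := chk_sound x hx h
  rw [lift_cons, lift_append, lift_cons, lift_append, lift_cons, lift_append, lift_cons, lift_nil,
    mul_one, ← ev_fw, ← ev_fw, ← ev_fw, ← ev_fw, ev_invW] at h1
  have e : base x 4 * ev (X4 x) (nth tS4 0) * (base x 4)⁻¹ =
      x 4 * (ev (X4 x) [1, 3] * (x 4 * (ev (X4 x) (nth tS4 0) * ((x 4)⁻¹ * ((ev (X4 x) [1, 3])⁻¹ * (x 4)⁻¹))))) := by
    rw [base]; group
  rw [e]
  have h2 : x 4 * (ev (X4 x) [1, 3] * (x 4 * (ev (X4 x) (nth tS4 0) * ((x 4)⁻¹ * ((ev (X4 x) [1, 3])⁻¹ * (x 4)⁻¹))))) =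
    ev (X4 x) wx371i := h1
  rw [h2]
  exact ev_mem_HH x _

theorem hS (i : ℕ) (hi : 1 ≤ i) (n : ℕ) : base x i * ev (X4 x) (nth (tSt i) n) * (base x i)⁻¹ ∈ HH x := by
  match i, hi with
  | 1, _ =>
    have h := zkz x hx [n]
    rw [ex, ex, List.append_nil] at h
    exact h
  | 2, _ =>
    change base x 2 * ev (X4 x) (nth tS2 n) * (base x 2)⁻¹ ∈ HH x
    have h2 : base x 2 * ev (X4 x) (nth tS2 2) * (base x 2)⁻¹ ∈ HH x :=
      conj_mem2 x hx wp _ [12] [13] (by decide +kernel) (by decide +kernel)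
    match n with
    | 0 => exact g2_x369 x hx
    | 1 => exact conj_inv x (g2_x369 x hx) (by decide)
    | 2 => exact h2
    | 3 => exact conj_inv x h2 (by decide)
    | n + 4 => exact conj_nil x _
  | 3, _ =>
    change base x 3 * ev (X4 x) (nth tS3 n) * (base x 3)⁻¹ ∈ HH x
    have h2 : base x 3 * ev (X4 x) (nth tS3 2) * (base x 3)⁻¹ ∈ HH x :=
      conj_mem3 x hx wp wx366 _ [3, 3, 7, 14, 12, 10] [0, 4, 6, 9, 9, 11, 11] (by decide +kernel) (by decide +kernel)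
    match n with
    | 0 => exact g3_x365 x hx
    | 1 => exact conj_inv x (g3_x365 x hx) (by decide)
    | 2 => exact h2
    | 3 => exact conj_inv x h2 (by decide)
    | n + 4 => exact conj_nil x _
  | 4, _ =>
    change base x 4 * ev (X4 x) (nth tS4 n) * (base x 4)⁻¹ ∈ HH x
    have h2 : base x 4 * ev (X4 x) (nth tS4 2) * (base x 4)⁻¹ ∈ HH x :=
      conj_mem3 x hx wp [1, 3] _ [12] [10, 10, 14] (by decide +kernel) (by decide +kernel)
    have h4 : base x 4 * ev (X4 x) (nth tS4 4) * (base x 4)⁻¹ ∈ HH x :=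
      conj_mem3 x hx wp [1, 3] _ [11, 11, 11] [13] (by decide +kernel) (by decide +kernel)
    match n with
    | 0 => exact g4_x25 x hx
    | 1 => exact conj_inv x (g4_x25 x hx) (by decide)
    | 2 => exact h2
    | 3 => exact conj_inv x h2 (by decide)
    | 4 => exact h4
    | 5 => exact conj_inv x h4 (by decide)
    | n + 6 => exact conj_nil x _
  | i + 5, _ =>
    have h : nth (tSt (i + 5)) n = [] := rfl
    rw [h]
    exact conj_nil x _

/-- the context -/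
def ctx : Ctx G where
  X := X4 x
  z := x 4
  g := base x
  H := HH x
  K := tK
  Sg := tS
  St := tSt
  R := rots
  hX := X4_mem x
  wp := wp
  hK := hK x hx
  hS := hS x hx wp
  g0 := rfl
  g1 := rfl
  hz := hzz x hx

omit hx wp in
/-- cyclic symmetry of relator (82) -/
theorem rot82 {p z u : G} (hzu : z * z = u) (h : p * z * (p * z) * (p * z) * u = 1) :
    p⁻¹ * u⁻¹ * (u⁻¹ * z) * (p⁻¹ * (u⁻¹ * z) * p⁻¹) = z ∧ p⁻¹ * (u⁻¹ * z) * (p⁻¹ * u⁻¹ * (u⁻¹ * z) * p⁻¹) = z ∧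
      p⁻¹ * (u⁻¹ * z) * (p⁻¹ * (u⁻¹ * z) * (p⁻¹ * u⁻¹)) = z := by
  have hz : Commute u z := by
    show u * z = z * u
    rw [← hzu, mul_assoc]
  have h1 : p * z * (p * z) * (p * z) = u⁻¹ := eq_inv_of_mul_eq_one_left h
  have hq : Commute u (p * z) := by
    have h2 : Commute (p * z * (p * z) * (p * z)) (p * z) := by
      show p * z * (p * z) * (p * z) * (p * z) = (p * z) * (p * z * (p * z) * (p * z))
      group
    rw [h1] at h2
    exact (Commute.inv_left_iff).mp h2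
  have hp : Commute u p := by
    have h2 := hq.mul_right hz.inv_right
    rwa [mul_inv_cancel_right] at h2
  have hzi : u⁻¹ * z = z⁻¹ := by rw [← hzu]; group
  have h3 : p⁻¹ * z⁻¹ * (p⁻¹ * z⁻¹ * p⁻¹) = z * u := by
    have h4 : (p * z * (p * z) * p)⁻¹ = z * u := by
      rw [inv_eq_iff_eq_inv, mul_inv_rev, ← h1]
      group
    rw [← h4]; group
  have hpi : p⁻¹ * u⁻¹ = u⁻¹ * p⁻¹ := (hp.inv_inv.eq).symm
  have hzi2 : z⁻¹ * u⁻¹ = u⁻¹ * z⁻¹ := (hz.inv_inv.eq).symm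
  rw [hzi]
  refine ⟨?_, ?_, ?_⟩
  · rw [hpi, mul_assoc, mul_assoc, ← mul_assoc p⁻¹, h3, ← hz.eq, inv_mul_cancel_left]
  · rw [hpi]
    have e : p⁻¹ * z⁻¹ * (u⁻¹ * p⁻¹ * z⁻¹ * p⁻¹) = p⁻¹ * (z⁻¹ * u⁻¹) * p⁻¹ * z⁻¹ * p⁻¹ := by group
    have e2 : p⁻¹ * (u⁻¹ * z⁻¹) * p⁻¹ * z⁻¹ * p⁻¹ = (p⁻¹ * u⁻¹) * z⁻¹ * p⁻¹ * z⁻¹ * p⁻¹ := by group
    have e3 : (u⁻¹ * p⁻¹) * z⁻¹ * p⁻¹ * z⁻¹ * p⁻¹ = u⁻¹ * (p⁻¹ * z⁻¹ * (p⁻¹ * z⁻¹ * p⁻¹)) := by group
    rw [e, hzi2, e2, hpi, e3, h3, ← hz.eq, inv_mul_cancel_left]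
  · have e : p⁻¹ * z⁻¹ * (p⁻¹ * z⁻¹ * (p⁻¹ * u⁻¹)) = p⁻¹ * z⁻¹ * (p⁻¹ * z⁻¹ * p⁻¹) * u⁻¹ := by group
    rw [e, h3, mul_inv_cancel_right]

theorem rots_val : ∀ t ∈ rots, (ctx x hx wp).val t = x 4 := by
  have hd : ∀ t ∈ rots.drop 3, (ctx x hx wp).val t = x 4 := by
    intro t ht
    rw [val_flat x (ctx x hx wp) rfl rfl]
    exact chkR_sound x hx _ certR certR_ok t ht
  have h82 := hx rel82 (by simp [relWords])
  have hu : ev (X4 x) [0, 0] = x 0 * x 0 := by simp [ev, letter]; rfl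
  have hp : ev (X4 x) [5, 5, 0, 1, 1] = (x 1)⁻¹ * ((x 1)⁻¹ * (x 0 * (x 1 * (x 1)))) := by simp [ev, letter]; rfl
  have h1 : ev (X4 x) [5, 5, 0, 1, 1] * x 4 * (ev (X4 x) [5, 5, 0, 1, 1] * x 4) * (ev (X4 x) [5, 5, 0, 1, 1] * x 4) *
      ev (X4 x) [0, 0] = 1 := by
    rw [hu, hp, ← h82, FreeGroup.lift_mk]
    simp only [rel82, List.map_cons, List.map_nil, List.prod_cons, List.prod_nil, cond_true, cond_false, mul_one,
      mul_assoc]
  obtain ⟨r0, r1, r2⟩ := rot82 (hzz x hx) h1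
  have hu2 : (ev (X4 x) [0, 0])⁻¹ = ev (X4 x) [4, 4] := by rw [← ev_invW]; rfl
  have hp2 : (ev (X4 x) [5, 5, 0, 1, 1])⁻¹ = ev (X4 x) [5, 5, 4, 1, 1] := by rw [← ev_invW]; rfl
  rw [hu2, hp2] at r0 r1 r2
  intro t ht
  have h : rots = rot0 :: rot1 :: rot2 :: rots.drop 3 := rfl
  rw [h] at ht
  rcases List.mem_cons.mp ht with rfl | ht
  · rw [← r0]
    change ev (X4 x) ([5, 5, 4, 1, 1] ++ ([4, 4] ++ [4, 4])) * (x 4 * (ev (X4 x) ([5, 5, 4, 1, 1] ++ [4, 4]) *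
      (x 4 * (ev (X4 x) [5, 5, 4, 1, 1] * 1)))) = _
    rw [ev_append, ev_append, ev_append]
    simp only [mul_assoc, mul_one]
  rcases List.mem_cons.mp ht with rfl | ht
  · rw [← r1]
    change ev (X4 x) ([5, 5, 4, 1, 1] ++ [4, 4]) * (x 4 * (ev (X4 x) ([5, 5, 4, 1, 1] ++ ([4, 4] ++ [4, 4])) *
      (x 4 * (ev (X4 x) [5, 5, 4, 1, 1] * 1)))) = _
    rw [ev_append, ev_append, ev_append]
    simp only [mul_assoc, mul_one]
  rcases List.mem_cons.mp ht with rfl | ht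
  · rw [← r2]
    change ev (X4 x) ([5, 5, 4, 1, 1] ++ [4, 4]) * (x 4 * (ev (X4 x) ([5, 5, 4, 1, 1] ++ [4, 4]) *
      (x 4 * (ev (X4 x) ([5, 5, 4, 1, 1] ++ [4, 4]) * 1)))) = _
    rw [ev_append]
    simp only [mul_assoc, mul_one]
  · exact hd t ht

theorem base_valid : ∀ e ∈ baseE, (ctx x hx wp).Valid e := by
  intro e he
  have hone : (1 : G) ∈ HH x := (HH x).one_mem
  rw [baseE] at he
  rcases List.mem_cons.mp he with rfl | he
  · show x 4 * ev (X4 x) [] * x 4 * (1 * ev (X4 x) [])⁻¹ ∈ HH x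
    rw [ev_nil, mul_one, mul_one, inv_one, mul_one, hzz x hx]
    exact ev_mem_HH x _
  rcases List.mem_cons.mp he with rfl | he
  · show x 4 * ev (X4 x) [0, 0, 7] * x 4 * ((x 4)⁻¹ * (x 3)⁻¹ * (x 4)⁻¹ * ev (X4 x) [])⁻¹ ∈ HH x
    have h3 : ev (X4 x) [3] = x 3 := by simp [ev, letter]; rfl
    have e1 : x 4 * ev (X4 x) [0, 0, 7] * x 4 * ((x 4)⁻¹ * (x 3)⁻¹ * (x 4)⁻¹ * ev (X4 x) [])⁻¹ =
        x 4 * (ev (X4 x) [0, 0, 7] * ((x 4 * x 4) * x 3)) * x 4 := by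
      rw [ev_nil]; group
    rw [e1, hzz x hx, ← h3, ← ev_append, ← ev_append, wp _ [] (by decide +kernel), ev_nil, mul_one, hzz x hx]
    exact ev_mem_HH x _
  rcases List.mem_cons.mp he with rfl | he
  · show x 4 * ev (X4 x) wx366 * x 4 * (x 4 * ev (X4 x) wx366 * x 4 * ev (X4 x) [])⁻¹ ∈ HH x
    rw [ev_nil, mul_one, mul_inv_cancel]
    exact hone
  rcases List.mem_cons.mp he with rfl | he
  · show x 4 * ev (X4 x) [1, 3] * x 4 * (x 4 * ev (X4 x) [1, 3] * x 4 * ev (X4 x) [])⁻¹ ∈ HH x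
    rw [ev_nil, mul_one, mul_inv_cancel]
    exact hone
  · exact absurd he List.not_mem_nil

/-- all transitions are valid -/
theorem valid_all : ∀ e ∈ baseE ++ derE.map Prod.fst, (ctx x hx wp).Valid e :=
  (ctx x hx wp).checkAll_sound (rots_val x hx wp) derE baseE (base_valid x hx wp) derE_ok

end

end Cfsg.Agent.Ly.WalkCtx
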