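import Cfsg.Agent.Ly.Walk

/-!
# Data: the z-transitions of the double coset enumeration of the Lyons group over G₂(5)

Letters `0 1 2 3` = a b c d, `4 5 6 7` = their inverses. Generated by a program; everything is checked by the kernel.
-/

set_option autoImplicit false

namespace Cfsg.Agent.Ly.WalkData

open Cfsg.Agent.Ly.Mat7 Cfsg.Agent.Ly.Walk

/-- c1 c2 c3 c4 c5 a1 a2 a3, each followed by its inverse -/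
def tK : List (List ℕ) := [
  [2],
  [6],
  [4, 2, 0],
  [4, 6, 0],
  [5, 2, 1],
  [5, 6, 1],
  [1, 2, 5],
  [1, 6, 5],
  [6, 4, 6, 0, 2, 4, 2, 0],
  [4, 6, 0, 6, 4, 2, 0, 2],
  [0],
  [4],
  [1, 0, 5],
  [1, 4, 5],
  [1, 1, 0, 5, 5],
  [1, 1, 4, 5, 5]]

/-- conjugates of the words of `tK` under z: x162 ... x169 and their inverses -/
def tS : List (List ℕ) := [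
  [4, 5, 4, 1, 6, 5, 0, 6, 1, 0],
  [4, 5, 2, 4, 1, 2, 5, 0, 1, 0],
  [5, 5, 0, 2, 4, 1, 2, 1],
  [5, 6, 5, 0, 6, 4, 1, 1],
  [4, 5, 4, 2, 0, 1, 0],
  [4, 5, 4, 6, 0, 1, 0],
  [5, 4, 1, 2, 5, 0, 1],
  [5, 4, 1, 6, 5, 0, 1],
  [1, 1, 4, 5, 2, 1, 0, 2, 5, 5, 6],
  [2, 1, 1, 6, 4, 5, 6, 1, 0, 5, 5],
  [4, 4, 4],
  [0, 0, 0],
  [1, 4, 5, 4, 4],
  [0, 0, 1, 0, 5],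
  [0, 1, 1, 0, 5, 5, 4],
  [0, 1, 1, 4, 5, 5, 4]]

/-- x369, its inverse, a2, its inverse -/
def tS2 : List (List ℕ) := [
  [4, 6, 7, 1, 4, 5, 6, 7, 1, 4, 5, 6, 5, 0, 5, 5, 0, 5],
  [1, 4, 1, 1, 4, 1, 2, 1, 0, 5, 3, 2, 1, 0, 5, 3, 2, 0],
  [1, 0, 5],
  [1, 4, 5]]

/-- x365, its inverse, s3, its inverse -/
def tS3 : List (List ℕ) := [
  [0, 5, 5, 4, 2, 1, 6, 1, 4, 6, 6, 3, 2, 0, 2, 4, 2, 5, 7],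
  [3, 1, 6, 0, 6, 4, 6, 7, 2, 2, 0, 5, 2, 5, 6, 0, 1, 1, 4],
  [5, 6, 5, 0, 6, 4, 1, 1, 5, 6, 5, 0, 6, 4, 1, 1, 5, 4, 1, 6, 5, 0, 1, 0, 1, 1, 0, 5, 5, 4, 1, 4, 5, 4, 4, 4, 4, 4],
  [0, 0, 0, 0, 0, 1, 0, 5, 0, 1, 1, 4, 5, 5, 4, 5, 4, 1, 2, 5, 0, 1, 5, 5, 0, 2, 4, 1, 2, 1, 5, 5, 0, 2, 4, 1, 2, 1]]

/-- x25, its inverse, x168, its inverse, a, its inverse -/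
def tS4 : List (List ℕ) := [
  [1, 1, 4, 5, 4, 1, 1, 6, 0, 2, 4, 6, 3, 6, 1, 1, 4, 2, 1],
  [5, 6, 0, 5, 5, 2, 7, 2, 0, 6, 4, 2, 5, 5, 0, 1, 0, 5, 5],
  [1, 4, 5, 4, 4],
  [0, 0, 1, 0, 5],
  [0],
  [4]]

/-- generators of the stabilisers -/
def tSt : ℕ → List (List ℕ)
  | 1 => tK
  | 2 => tS2
  | 3 => tS3
  | 4 => tS4
  | _ => []

/-- R82@1 -/
def rot0 : List Tok := [Tok.w [5, 5, 4, 1, 1, 4, 4, 4, 4], Tok.z, Tok.w [5, 5, 4, 1, 1, 4, 4], Tok.z, Tok.w [5, 5, 4, 1, 1]]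

/-- R82@3 -/
def rot1 : List Tok := [Tok.w [5, 5, 4, 1, 1, 4, 4], Tok.z, Tok.w [5, 5, 4, 1, 1, 4, 4, 4, 4], Tok.z, Tok.w [5, 5, 4, 1, 1]]

/-- R82@5 -/
def rot2 : List Tok := [Tok.w [5, 5, 4, 1, 1, 4, 4], Tok.z, Tok.w [5, 5, 4, 1, 1, 4, 4], Tok.z, Tok.w [5, 5, 4, 1, 1, 4, 4]]

/-- R83@1 -/
def rot3 : List Tok := [Tok.w [3, 2, 5, 0, 2, 0, 3, 2, 4, 4], Tok.z, Tok.w [1, 1, 0, 1, 2, 1, 1, 6, 4, 2, 0, 3, 2, 4, 1, 2, 4, 3, 2, 0, 4, 4], Tok.z, Tok.w [1, 4, 5, 4, 1, 4, 2, 0, 1, 2, 5, 3, 2, 5, 0, 2, 1, 7, 0]]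

/-- R83@3 -/
def rot4 : List Tok := [Tok.w [1, 4, 5, 4, 1, 4, 2, 0, 1, 2, 5, 3, 2, 5, 0, 2, 1, 7, 0, 4, 4], Tok.z, Tok.w [3, 2, 5, 0, 2, 0, 3, 2, 4, 4], Tok.z, Tok.w [1, 1, 0, 1, 2, 1, 1, 6, 4, 2, 0, 3, 2, 4, 1, 2, 4, 3, 2, 0]]

/-- R83@5 -/
def rot5 : List Tok := [Tok.w [1, 1, 0, 1, 2, 1, 1, 6, 4, 2, 0, 3, 2, 4, 1, 2, 4, 3, 2, 0, 4, 4], Tok.z, Tok.w [1, 4, 5, 4, 1, 4, 2, 0, 1, 2, 5, 3, 2, 5, 0, 2, 1, 7, 0, 4, 4], Tok.z, Tok.w [3, 2, 5, 0, 2, 0, 3, 2]]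

/-- R84@0 -/
def rot6 : List Tok := [Tok.w [7, 4, 4], Tok.z, Tok.w [4, 6, 7, 1, 4, 5, 6, 7, 1, 4, 5, 6, 5, 0, 5, 5, 0, 5], Tok.z, Tok.w [3], Tok.z, Tok.w [0, 1, 4, 1, 1, 4, 1, 1, 6, 0, 2, 1, 2, 5, 3, 2, 5, 5, 3, 2, 1, 2]]

/-- R84@2 -/
def rot7 : List Tok := [Tok.w [4, 6, 7, 1, 4, 5, 6, 7, 1, 4, 5, 6, 5, 0, 5, 5, 0, 5], Tok.z, Tok.w [3], Tok.z, Tok.w [0, 1, 4, 1, 1, 4, 1, 1, 6, 0, 2, 1, 2, 5, 3, 2, 5, 5, 3, 2, 1, 2, 4, 4], Tok.z, Tok.w [7]]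

/-- R84@4 -/
def rot8 : List Tok := [Tok.w [1, 4, 1, 1, 4, 1, 2, 1, 0, 5, 3, 2, 1, 0, 5, 3, 2, 0], Tok.z, Tok.w [3], Tok.z, Tok.w [6, 5, 6, 7, 1, 1, 6, 7, 1, 6, 5, 6, 4, 2, 5, 5, 0, 5, 5, 0, 5, 4, 4, 4], Tok.z, Tok.w [7]]

/-- R84@6 -/
def rot9 : List Tok := [Tok.w [7, 4, 4], Tok.z, Tok.w [1, 4, 1, 1, 4, 1, 2, 1, 0, 5, 3, 2, 1, 0, 5, 3, 2, 0], Tok.z, Tok.w [3], Tok.z, Tok.w [6, 5, 6, 7, 1, 1, 6, 7, 1, 6, 5, 6, 4, 2, 5, 5, 0, 5, 5, 0, 5, 4]]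

/-- R85@0 -/
def rot10 : List Tok := [Tok.w [0, 5, 0, 1, 1, 0, 6, 0, 1, 4, 3, 2, 0, 6, 5, 6, 4, 3], Tok.z, Tok.w [1, 0, 5, 4, 5, 5, 4, 5, 2, 1, 1, 2, 1, 3, 2, 5, 5, 3, 2, 1, 2], Tok.z, Tok.w [3, 1, 6, 0, 6, 4, 6, 7, 2, 2, 0, 5, 2, 5, 6, 0, 1, 1, 4, 4, 4], Tok.z, Tok.w [6, 5, 6, 7, 1, 1, 6, 7, 5, 6, 5, 5, 6, 1, 0, 1, 1, 0, 1, 4, 5]]

/-- R85@2 -/
def rot11 : List Tok := [Tok.w [6, 5, 6, 7, 1, 1, 6, 7, 5, 6, 5, 5, 6, 1, 0, 1, 1, 0, 1, 4, 5, 4, 4], Tok.z, Tok.w [0, 5, 0, 1, 1, 0, 6, 0, 1, 4, 3, 2, 0, 6, 5, 6, 4, 3], Tok.z, Tok.w [1, 0, 5, 4, 5, 5, 4, 5, 2, 1, 1, 2, 1, 3, 2, 5, 5, 3, 2, 1, 2], Tok.z, Tok.w [3, 1, 6, 0, 6, 4, 6, 7, 2, 2, 0, 5, 2, 5, 6, 0, 1, 1, 4]]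

/-- R85@4 -/
def rot12 : List Tok := [Tok.w [6, 5, 6, 7, 1, 1, 6, 7, 5, 6, 5, 5, 6, 1, 0, 1, 1, 0, 1, 4, 5, 4, 4], Tok.z, Tok.w [7, 0, 2, 1, 2, 4, 6, 7, 0, 5, 4, 2, 4, 5, 5, 4, 1, 4], Tok.z, Tok.w [1, 0, 5, 4, 5, 5, 4, 5, 2, 1, 1, 2, 1, 3, 2, 5, 5, 3, 2, 1, 2], Tok.z, Tok.w [0, 5, 5, 4, 2, 1, 6, 1, 4, 6, 6, 3, 2, 0, 2, 4, 2, 5, 7]]

/-- R85@6 -/
def rot13 : List Tok := [Tok.w [7, 0, 2, 1, 2, 4, 6, 7, 0, 5, 4, 2, 4, 5, 5, 4, 1, 4], Tok.z, Tok.w [1, 0, 5, 4, 5, 5, 4, 5, 2, 1, 1, 2, 1, 3, 2, 5, 5, 3, 2, 1, 2], Tok.z, Tok.w [0, 5, 5, 4, 2, 1, 6, 1, 4, 6, 6, 3, 2, 0, 2, 4, 2, 5, 7, 4, 4], Tok.z, Tok.w [6, 5, 6, 7, 1, 1, 6, 7, 5, 6, 5, 5, 6, 1, 0, 1, 1, 0, 1, 4, 5]]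

/-- R86@0 -/
def rot14 : List Tok := [Tok.w [5, 0, 1, 0, 1, 6, 4, 6, 0, 6, 3, 2, 5, 6, 0, 2], Tok.z, Tok.w [1, 3], Tok.z, Tok.w [5, 6, 0, 5, 5, 2, 7, 2, 0, 6, 4, 2, 5, 5, 0, 1, 0, 5, 5, 4, 4], Tok.z, Tok.w [7, 5]]

/-- R86@2 -/
def rot15 : List Tok := [Tok.w [7, 5, 4, 4], Tok.z, Tok.w [5, 0, 1, 0, 1, 6, 4, 6, 0, 6, 3, 2, 5, 6, 0, 2], Tok.z, Tok.w [1, 3], Tok.z, Tok.w [5, 6, 0, 5, 5, 2, 7, 2, 0, 6, 4, 2, 5, 5, 0, 1, 0, 5, 5]]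

/-- R86@4 -/
def rot16 : List Tok := [Tok.w [7, 5, 4, 4], Tok.z, Tok.w [6, 4, 2, 1, 6, 7, 2, 4, 2, 0, 2, 5, 4, 5, 4, 1], Tok.z, Tok.w [1, 3], Tok.z, Tok.w [1, 1, 4, 5, 4, 1, 1, 6, 0, 2, 4, 6, 3, 6, 1, 1, 4, 2, 1]]

/-- R86@6 -/
def rot17 : List Tok := [Tok.w [6, 4, 2, 1, 6, 7, 2, 4, 2, 0, 2, 5, 4, 5, 4, 1], Tok.z, Tok.w [1, 3], Tok.z, Tok.w [1, 1, 4, 5, 4, 1, 1, 6, 0, 2, 4, 6, 3, 6, 1, 1, 4, 2, 1, 4, 4], Tok.z, Tok.w [7, 5]]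

/-- all rotations of the relators (82)-(86) -/
def rots : List (List Tok) := [rot0, rot1, rot2, rot3, rot4, rot5, rot6, rot7, rot8, rot9, rot10, rot11, rot12, rot13, rot14, rot15, rot16, rot17]

/-- the four transitions which hold by definition -/
def baseE : List Edge := [
  ⟨1, [], 0, []⟩,
  ⟨1, [0, 0, 7], 2, []⟩,
  ⟨1, [1, 0, 5, 4, 5, 5, 4, 5, 2, 1, 1, 2, 1, 3, 2, 5, 5, 3, 2, 1, 2], 3, []⟩,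
  ⟨1, [1, 3], 4, []⟩]

/-- the derived transitions with their certificates -/
def derE : List (Edge × Cert) := [
  (⟨2, [], 1, [7]⟩, Cert.rev 1),
  (⟨3, [], 1, [1, 0, 5, 3, 6, 0, 5, 7, 6, 4, 1, 6, 6, 1]⟩, Cert.rev 2),
  (⟨4, [], 1, [0, 0, 1, 7]⟩, Cert.rev 3),
  (⟨1, [1], 1, [5, 5, 4, 1, 1]⟩, Cert.path 0 [(0, [], [10, 13, 15]), (0, [], [])]),
  (⟨1, [3, 2, 4, 1, 2, 3], 1, [1, 0, 1, 1, 6, 1, 0, 3, 2, 4, 1, 2, 1, 0, 7]⟩, Cert.path 3 [(0, [], [3, 10]), (0, [], [])]),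
  (⟨2, [1], 4, [5, 5, 4, 1, 1]⟩, Cert.path 0 [(4, [], [10, 13, 15]), (3, [], [])]),
  (⟨4, [5, 5, 4, 1, 1], 2, [0, 0, 1]⟩, Cert.rev 9),
  (⟨2, [3], 3, [4, 1, 3, 6, 3, 6, 1, 3, 2, 3, 2, 1, 7, 2]⟩, Cert.path 4 [(4, [0, 3, 3, 1, 3, 1], [1, 1, 2, 2, 5, 8, 8, 15]), (2, [2, 2, 14, 13], [2, 2, 4, 8, 10, 12, 10, 14, 12, 11])]),
  (⟨3, [4, 1, 3, 6, 3, 6, 1, 3, 2, 3, 2, 1, 7, 2], 2, [0, 0, 7]⟩, Cert.rev 11),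
  (⟨2, [1, 3], 2, [5, 3, 2, 1, 0, 5, 3, 2, 0, 5, 2, 2, 3, 2]⟩, Cert.path 4 [(4, [0, 3, 3, 1, 3, 1], [1, 2, 6, 9, 15]), (1, [1, 2, 4, 7, 8], [0, 2, 4, 4, 7, 7, 9, 10, 13, 11])]),
  (⟨2, [1, 3, 2, 3], 4, [2, 1, 6, 0, 3, 2, 4, 1, 2, 3, 6, 1, 4, 6]⟩, Cert.path 3 [(4, [0, 3, 1], [3, 4, 4, 7, 8, 8, 14, 12, 10]), (3, [1, 1, 2, 2, 4, 4, 7, 7, 9, 10, 10, 10, 10], [0, 3, 4, 6, 6, 9, 9, 14, 13, 11])]),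
  (⟨4, [2, 1, 6, 0, 3, 2, 4, 1, 2, 3, 6, 1, 4, 6], 2, [1, 3, 2, 0, 0, 7]⟩, Cert.rev 14),
  (⟨2, [5, 0, 2, 1, 3, 6], 3, [6, 3, 2, 5, 2, 3, 6, 5, 6, 4, 3, 6, 0, 6, 5]⟩, Cert.path 5 [(4, [0, 2, 2, 1, 3, 1], [1, 3, 3, 4, 7, 7, 9, 9, 10, 15]), (2, [1, 3, 4, 4, 7, 8, 12], [1, 3, 3, 5, 8, 10, 15, 13])]),
  (⟨3, [6, 3, 2, 5, 2, 3, 6, 5, 6, 4, 3, 6, 0, 6, 5], 2, [5, 0, 2, 1, 3, 6, 0, 0]⟩, Cert.rev 16),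
  (⟨3, [1], 3, [0, 0, 5, 6, 0, 1, 6, 1, 1, 0]⟩, Cert.path 0 [(5, [], [10, 13, 15]), (2, [0, 0, 6, 6, 8, 8, 10, 10], [2, 7, 7, 12, 10, 14, 13, 11])]),
  (⟨3, [0, 2, 1, 3, 6], 4, [0, 5, 4, 3, 2, 4, 1, 1, 3, 2, 1, 2, 1, 1, 3]⟩, Cert.path 5 [(5, [0, 3, 1, 2, 1], [0, 3, 3, 6, 6, 8, 14, 13, 11]), (3, [0, 0, 5, 9, 12, 10], [0, 0, 3, 7, 7, 9, 9, 12, 10, 14, 13])]),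
  (⟨4, [0, 5, 4, 3, 2, 4, 1, 1, 3, 2, 1, 2, 1, 1, 3], 3, [0, 2, 1, 3, 6, 0, 0]⟩, Cert.rev 19),
  (⟨3, [1, 3, 2, 3], 4, [2, 0, 3, 2, 4, 1, 2, 1, 7, 2, 0, 1, 6, 6]⟩, Cert.path 3 [(5, [1, 3, 1, 3, 1], [0, 5, 6, 6, 9, 14, 13, 11]), (3, [1, 4, 6, 9, 9, 11, 15], [1, 2, 4, 4, 7, 12, 14, 12, 10])]),
  (⟨4, [2, 0, 3, 2, 4, 1, 2, 1, 7, 2, 0, 1, 6, 6], 3, [1, 3, 2, 0, 0, 7]⟩, Cert.rev 21),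
  (⟨4, [1], 4, [4, 4, 1]⟩, Cert.path 0 [(6, [], [10, 13, 15]), (3, [10], [10, 13, 15])]),
  (⟨4, [2, 1, 0, 3], 4, [0, 1, 1, 0, 2, 5, 6, 3, 6, 3, 2, 3, 6, 1, 4, 7]⟩, Cert.path 3 [(6, [0, 3, 0], [0, 5, 7, 7, 10, 10, 10, 12]), (3, [2, 5, 5, 7, 14], [1, 3, 4, 6, 9, 9, 11, 11, 11])]),
  (⟨4, [3, 2, 4, 1, 2, 3], 4, [4, 6, 3, 2, 1, 6, 5, 5, 2, 5, 6, 7, 2]⟩, Cert.path 3 [(6, [], [3, 10]), (3, [0, 0, 5, 7, 9, 9, 10, 12, 11], [3, 3, 5, 10])]),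
  (⟨4, [4, 6, 3, 2, 1, 6, 5, 5, 2, 5, 6, 7, 2], 4, [3, 2, 0, 1, 6, 6, 7]⟩, Cert.rev 25),
  (⟨4, [1, 3, 2, 4, 6, 7], 4, [6, 1, 4, 6, 1, 1, 2, 3, 2, 4, 1, 2, 1, 0, 7]⟩, Cert.path 3 [(6, [4, 1], [1, 1, 3, 4, 4, 11, 13]), (3, [3, 3, 5, 6, 6, 10, 10, 10], [0, 4, 4, 6, 6, 12, 10, 14, 13, 11])]),
  (⟨2, [2, 4, 2, 3], 3, [0, 6, 6, 3, 2, 0, 6, 1, 0, 5, 6, 5, 3, 6]⟩, Cert.path 9 [(4, [], [0, 2, 11, 11, 11]), (1, [2, 2, 4, 4, 6, 9, 9, 10], [1, 5, 7, 10, 12, 10, 14, 12, 11]), (16, [3, 1, 2, 0, 2, 2, 2, 2, 0], [1, 2, 2, 4, 9, 10, 10, 12, 14])]),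
  (⟨3, [0, 6, 6, 3, 2, 0, 6, 1, 0, 5, 6, 5, 3, 6], 2, [2, 0, 6, 6, 7]⟩, Cert.rev 28),
  (⟨2, [2, 0, 6, 3], 4, [5, 6, 3, 2, 2, 4, 5, 2, 5, 6, 3, 6, 6]⟩, Cert.path 11 [(14, [0, 2, 2, 1, 2, 0, 2, 1], [1, 1, 4, 4, 6, 8, 8, 10, 12, 10, 14, 13, 11]), (20, [2, 2, 0, 3, 0, 2, 2], [1, 3, 3, 4, 9, 9, 10, 12, 15]), (19, [0, 0, 2, 2, 1, 2, 1], [0, 5, 5, 6, 10, 13, 15, 13])]),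
  (⟨4, [5, 6, 3, 2, 2, 4, 5, 2, 5, 6, 3, 6, 6], 2, [2, 4, 6, 6, 3]⟩, Cert.rev 30),
  (⟨2, [1, 2, 5, 2, 3], 2, [5, 4, 3, 2, 5, 6, 0, 1, 0, 5, 0, 3, 2, 4]⟩, Cert.path 3 [(14, [2, 2, 2, 0, 2, 0, 2, 0, 2], [1, 3, 3, 5, 6, 9, 9, 10, 12, 11]), (15, [0, 2, 2, 2, 0], [2, 5, 5, 6, 6, 8, 10, 12, 10, 14])]),
  (⟨2, [5, 2, 0, 6, 3], 3, [5, 5, 6, 1, 2, 5, 6, 4, 3, 6, 6, 5, 2, 1, 7]⟩, Cert.path 3 [(14, [1, 3, 1, 2, 0, 3, 3, 0, 2], [1, 4, 7, 7, 9, 9, 14, 11]), (20, [0, 5, 0, 3], [1, 2, 4, 4, 6, 9, 9, 10, 12, 10, 14, 12, 11])]),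
  (⟨3, [5, 5, 6, 1, 2, 5, 6, 4, 3, 6, 6, 5, 2, 1, 7], 2, [5, 2, 4, 6, 6, 3]⟩, Cert.rev 33),
  (⟨2, [1, 2, 0, 6, 5, 3], 2, [4, 1, 2, 3, 6, 4, 5, 6, 3, 6, 0, 6, 5, 4, 1]⟩, Cert.path 6 [(4, [], [1, 3, 3, 4, 6, 6, 9, 13]), (3, [1, 1, 2, 7, 7, 8, 8, 10, 10, 10], [0, 3, 3, 4, 7, 7, 14, 12, 10]), (15, [0, 2, 2, 2, 0, 5, 0], [0, 0, 2, 2, 5, 6, 8, 13, 15, 13])]),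
  (⟨3, [2, 3], 4, [2, 4, 5, 2, 4, 6, 4, 3, 6, 3, 6, 7, 2]⟩, Cert.path 7 [(18, [1, 2, 0, 2, 2, 0, 2], [1, 1, 2, 2, 5, 5, 7, 7, 8, 8, 10, 12, 10, 15]), (18, [0, 2, 0, 2, 2], [1, 1, 2, 2, 5, 5, 9, 13, 15]), (19, [1, 3, 0, 2, 2, 0, 2, 0, 2], [1, 5, 7, 7, 9, 12, 10, 15, 13, 11])]),
  (⟨4, [2, 4, 5, 2, 4, 6, 4, 3, 6, 3, 6, 7, 2], 3, [2, 0, 0, 7]⟩, Cert.rev 36),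
  (⟨3, [2, 5, 7], 3, [0, 5, 0, 2, 1, 2, 0, 6, 3, 6, 1, 2, 5, 6, 6]⟩, Cert.path 12 [(17, [0, 0, 0, 0, 2, 2], [0, 4, 6, 6, 8, 10, 12, 10, 15]), (9, [3, 3, 1, 3, 0, 2, 1], [1, 5, 5, 7, 9, 9, 11, 15]), (20, [0, 3, 0, 3, 1, 2], [0, 0, 3, 3, 4, 6, 6, 9, 12, 10, 15, 13, 11])]),
  (⟨3, [2, 1, 3], 4, [1, 0, 1, 1, 6, 5, 5, 2, 3, 2, 3, 6, 3, 2, 1]⟩, Cert.path 8 [(19, [0, 2, 0, 2, 0, 2, 1, 2, 1, 2, 1, 3], [0, 3, 3, 4, 4, 9, 10, 12, 11]), (15, [2, 2, 0, 5, 0, 3, 1], [1, 1, 2, 2, 5, 6, 11, 13]), (14, [2, 2, 1, 2, 0, 2, 2], [0, 4, 4, 8, 12, 14])]),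
  (⟨4, [1, 0, 1, 1, 6, 5, 5, 2, 3, 2, 3, 6, 3, 2, 1], 3, [2, 0, 0, 1, 7]⟩, Cert.rev 39),
  (⟨3, [1, 1, 2, 3], 4, [4, 6, 1, 2, 4, 5, 6, 4, 1, 3, 2, 4, 3]⟩, Cert.path 5 [(21, [3, 0], [4, 10, 10, 14]), (24, [0, 2, 0, 3, 3, 3, 0], [1, 3, 3, 7, 7, 8, 14, 12])]),
  (⟨4, [4, 6, 1, 2, 4, 5, 6, 4, 1, 3, 2, 4, 3], 3, [1, 1, 2, 0, 0, 7]⟩, Cert.rev 41),
  (⟨3, [0, 2, 1, 6, 3], 3, [5, 4, 6, 5, 5, 3, 2, 5, 5, 3, 2, 3, 2, 4]⟩, Cert.path 12 [(19, [0, 2, 0, 3, 1, 2], [1, 1, 3, 3, 4, 6, 6, 9, 9, 10, 12, 11, 15, 13]), (26, [2, 0, 2, 1, 3], [0, 0, 3, 4, 4, 9, 10, 14, 11]), (20, [2, 2, 0, 3, 0, 2, 1, 5], [0, 2, 6, 9, 13])]),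
  (⟨3, [2, 0, 2, 3], 4, [4, 5, 2, 0, 5, 3, 6, 7, 6, 6, 5, 0, 6]⟩, Cert.path 4 [(21, [2, 1, 3, 1, 2, 2], [2, 2, 6, 6, 9, 9, 10, 14, 12]), (24, [3, 0, 5, 0], [1, 1, 4, 4, 8, 10, 13, 15])]),
  (⟨4, [4, 5, 2, 0, 5, 3, 6, 7, 6, 6, 5, 0, 6], 3, [2, 4, 2, 2, 3]⟩, Cert.rev 44),
  (⟨3, [0, 1, 2, 3], 4, [6, 1, 2, 4, 6, 6, 3, 2, 3, 6, 5, 0, 1, 3]⟩, Cert.path 9 [(18, [3], [0, 3, 4, 4, 9, 9, 13, 11]), (17, [1, 2, 1, 2, 1, 3, 0], [0, 2, 2, 5, 5, 6, 8, 13]), (14, [0, 2, 0, 3, 3, 1, 3, 1, 3, 0, 3], [0, 3, 9, 9, 10, 13])]),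
  (⟨4, [6, 1, 2, 4, 6, 6, 3, 2, 3, 6, 5, 0, 1, 3], 3, [4, 1, 2, 2, 3]⟩, Cert.rev 46),
  (⟨3, [0, 2, 4, 6, 0, 3], 3, [0, 5, 2, 0, 5, 2, 2, 5, 6, 3, 6, 1, 7, 6, 1]⟩, Cert.path 6 [(5, [], [1, 2, 2, 8, 8, 11]), (3, [0, 3, 3, 5, 5, 7, 8, 10, 10, 10], [0, 0, 2, 2, 4, 4, 10, 10, 14]), (20, [5, 0, 3, 0, 5, 0, 2], [0, 0, 2, 2, 6, 10, 10, 10])]),
  (⟨3, [0, 2, 4, 2, 3], 3, [4, 3, 6, 5, 3, 2, 1, 1, 6, 5, 3, 2, 4]⟩, Cert.path 6 [(5, [], [0, 2, 2, 9, 9, 11, 11]), (1, [1, 2, 4, 7, 9, 11], [1, 1, 2, 2, 4, 4, 7, 7, 9, 10, 15, 13, 11]), (11, [1, 3, 0], [0, 3, 4, 6, 9, 9, 10, 12, 14, 13])]),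
  (⟨3, [2, 1, 0, 2, 3], 4, [4, 6, 3, 2, 1, 6, 4, 6, 1, 7, 6, 0, 1, 6, 1]⟩, Cert.path 7 [(19, [0, 3, 0, 2, 0, 2, 1, 2, 2, 0, 3], [0, 5, 5, 8, 12, 10, 14, 12]), (25, [2, 0, 2, 1, 2, 2], [1, 1, 3, 3, 4, 9, 9, 14, 12]), (26, [2, 1, 3, 3, 3], [5, 5, 7, 9, 10, 15])]),
  (⟨4, [4, 6, 3, 2, 1, 6, 4, 6, 1, 7, 6, 0, 1, 6, 1], 3, [2, 1, 4, 2, 2, 3]⟩, Cert.rev 50),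
  (⟨4, [5, 2, 1, 3], 4, [0, 2, 5, 2, 0, 2, 3, 6, 5, 6, 3, 6, 4, 3, 6]⟩, Cert.path 7 [(22, [2, 4, 3], [0, 0, 2, 5, 5, 7, 8, 10, 12, 10, 14, 12]), (12, [3, 0, 0, 0], [1, 5, 5, 7, 7, 9, 14]), (14, [2, 0, 2, 0, 2, 0, 3, 0, 2], [2, 5, 5, 7, 12, 14])]),
  (⟨4, [1, 2, 5, 3], 4, [6, 6, 3, 6, 4, 1, 6, 4, 3, 6, 1, 2, 0, 3]⟩, Cert.path 6 [(6, [], [6, 11, 11]), (8, [2, 8, 8], [1, 3, 5, 7, 9, 14, 12, 11]), (3, [1, 1, 3, 6, 6, 9, 10], [2, 2, 4, 7, 7, 10, 12, 10, 14, 13])]),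
  (⟨4, [1, 2, 5, 5, 3], 4, [4, 3, 6, 5, 3, 2, 4, 6, 3, 2, 3, 6, 1, 0, 3]⟩, Cert.path 11 [(25, [2, 2, 2, 2], [1, 3, 3, 4, 7, 10, 15, 13]), (26, [2, 0, 5, 0, 3, 1, 4], [0, 3, 3, 4, 4, 6, 6, 10, 13, 15, 13]), (27, [0, 2, 4], [0, 0, 2, 2, 5, 5, 7, 10, 10, 12, 10])]),
  (⟨4, [4, 3, 6, 5, 3, 2, 4, 6, 3, 2, 3, 6, 1, 0, 3], 4, [1, 2, 0, 0, 5, 5, 7]⟩, Cert.rev 54),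
  (⟨4, [2, 4, 2, 3], 4, [1, 0, 6, 1, 2, 2, 5, 3, 2, 3, 2, 0, 7]⟩, Cert.path 6 [(6, [], [0, 2, 11, 11, 11]), (1, [1, 3, 4, 7], [1, 4, 6, 8, 10, 14, 12, 10]), (14, [0, 3, 0, 3, 0, 2, 1], [1, 1, 3, 5, 9, 9, 13, 15, 13])]),
  (⟨4, [1, 0, 6, 1, 2, 2, 5, 3, 2, 3, 2, 0, 7], 4, [2, 0, 6, 6, 7]⟩, Cert.rev 56),
  (⟨4, [2, 0, 3, 2, 3], 4, [0, 1, 2, 3, 2, 0, 3, 2, 1, 0, 5, 5, 2, 5, 2]⟩, Cert.path 15 [(22, [0, 3, 0, 4, 2], [0, 3, 5, 5, 7, 10, 12, 10, 14, 13]), (19, [0, 2, 0, 2, 0, 2, 0, 2, 0, 2, 0, 3], [0, 3, 7, 7, 11, 15, 13]), (24, [2, 2, 2, 0, 3, 1, 3], [1, 2, 9, 12, 14, 13])]),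
  (⟨4, [1, 1, 2, 3], 4, [2, 5, 4, 5, 2, 0, 6, 1, 0, 3, 6, 6, 5, 3]⟩, Cert.path 5 [(15, [5, 0, 2, 1, 4], [1, 1, 3, 6, 9, 10, 10, 12, 10]), (14, [2, 1, 3, 3, 3], [2, 5, 5, 6, 8, 8, 12, 15, 13])]),
  (⟨4, [2, 5, 4, 5, 2, 0, 6, 1, 0, 3, 6, 6, 5, 3], 4, [1, 1, 2, 0, 0, 7]⟩, Cert.rev 59),
  (⟨4, [2, 0, 6, 7], 4, [1, 4, 6, 1, 0, 6, 5, 2, 0, 3, 6, 5, 6, 0]⟩, Cert.path 11 [(15, [5, 3], [1, 2, 5, 6, 10, 12, 14, 13, 11]), (16, [0, 3, 0, 3, 3, 3, 1], [1, 1, 2, 2, 5, 5, 7, 13, 15]), (19, [0, 0, 2, 1, 2, 2, 0, 2, 2, 1], [0, 4, 7, 7, 10])]),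
  (⟨4, [5, 2, 5, 2, 3], 4, [5, 4, 2, 1, 3, 2, 7, 2, 1, 4, 2, 4]⟩, Cert.path 9 [(23, [2, 4], [2, 5, 9, 9, 12, 10, 14, 12]), (25, [2, 0, 2, 2, 2, 0, 3, 0], [3, 7, 11, 15, 13]), (24, [3, 5, 3, 1], [1, 1, 3, 3, 5, 6, 14])]),
  (⟨4, [1, 1, 2, 5, 2, 7], 4, [5, 4, 2, 4, 1, 3, 6, 1, 3, 2, 7, 6, 1, 6]⟩, Cert.path 10 [(15, [3, 0, 5], [1, 3, 3, 5, 5, 6, 8, 12, 14, 12, 11]), (9, [1, 2, 1, 2, 1, 2, 1], [2, 4, 6, 6, 8, 10, 12, 10, 14, 12]), (27, [2, 2, 2, 2], [0, 0, 5, 5, 6, 6, 8, 11, 11])]),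
  (⟨4, [2, 4, 5, 5, 6, 7], 4, [4, 3, 6, 0, 2, 1, 4, 7, 2, 1, 2, 1, 0, 2, 2]⟩, Cert.path 11 [(25, [2, 2, 2], [5, 7, 9, 9, 10, 15, 13]), (24, [3, 0, 2, 0, 5], [0, 2, 8, 8, 12, 14]), (24, [3, 3, 5], [0, 3, 6, 8, 8, 10, 12, 11])])]

theorem derE_ok : checkAll tK tS tSt rots derE baseE = true := by decide +kernel

end Cfsg.Agent.Ly.WalkData
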