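import Cfsg.Agent.Ly.WalkData
import Cfsg.Agent.Ly.Pres

/-!
# The context of the double coset enumeration from five elements satisfying the relations of the Lyons group

For `x : Fin 5 → G` satisfying the 52 relator words, and such that words in `x 0, …, x 3` with the same 7×7 matrices are
equal, all the facts used by `Cfsg.Agent.Ly.Walk` hold.
-/

set_option autoImplicit false

namespace Cfsg.Agent.Ly.WalkFacts

open Cfsg.Agent.Ly.Mat7 Cfsg.Agent.Ly.Walk Cfsg.Agent.Ly.WalkData Cfsg.Agent.Ly.Pres

/-- words in the letters `0, …, 7` as words of the free group -/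
def fw : List ℕ → List (Fin 5 × Bool)
  | [] => []
  | 0 :: w => (0, true) :: fw w
  | 1 :: w => (1, true) :: fw w
  | 2 :: w => (2, true) :: fw w
  | 3 :: w => (3, true) :: fw w
  | 4 :: w => (0, false) :: fw w
  | 5 :: w => (1, false) :: fw w
  | 6 :: w => (2, false) :: fw w
  | 7 :: w => (3, false) :: fw w
  | _ :: w => fw w

/-- strip the final `a⁻¹ a⁻¹` -/
def endsU (l : List ℕ) : Option (List ℕ) :=
  if l = l.take (l.length - 2) ++ [4, 4] then some (l.take (l.length - 2)) else none

theorem endsU_spec {l l' : List ℕ} (h : endsU l = some l') : l = l' ++ [4, 4] := by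
  rw [endsU] at h
  split at h
  · rename_i h1
    rw [Option.some.injEq] at h
    rw [← h]; exact h1
  · exact absurd h (by simp)

/-- flatten a token list; `a⁻¹ a⁻¹ z` becomes `z⁻¹` -/
def flat : List Tok → List (Fin 5 × Bool)
  | [] => []
  | Tok.z :: ts => (4, true) :: flat ts
  | Tok.w l :: Tok.z :: ts =>
    match endsU l with
    | some l' => fw l' ++ (4, false) :: flat ts
    | none => fw l ++ (4, true) :: flat ts
  | Tok.w l :: ts => fw l ++ flat ts

section general

variable {G : Type*} [Group G] (x : Fin 5 → G)

theorem lift_cons (p : Fin 5 × Bool) (w : List (Fin 5 × Bool)) :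
    FreeGroup.lift x (FreeGroup.mk (p :: w)) = cond p.2 (x p.1) (x p.1)⁻¹ * FreeGroup.lift x (FreeGroup.mk w) := by
  rw [FreeGroup.lift_mk, FreeGroup.lift_mk, List.map_cons, List.prod_cons]

theorem lift_nil : FreeGroup.lift x (FreeGroup.mk []) = 1 := by
  rw [FreeGroup.lift_mk, List.map_nil, List.prod_nil]

theorem lift_append (v w : List (Fin 5 × Bool)) :
    FreeGroup.lift x (FreeGroup.mk (v ++ w)) = FreeGroup.lift x (FreeGroup.mk v) * FreeGroup.lift x (FreeGroup.mk w) := by
  rw [← FreeGroup.mul_mk, map_mul]

theorem ev_fw (w : List ℕ) : ev (fun i : Fin 4 => x i.castSucc) w = FreeGroup.lift x (FreeGroup.mk (fw w)) := by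
  induction w with
  | nil => rw [fw, lift_nil, ev_nil]
  | cons l w ih =>
    rw [ev_cons]
    match l with
    | 0 => rw [fw, lift_cons, ← ih]; rfl
    | 1 => rw [fw, lift_cons, ← ih]; rfl
    | 2 => rw [fw, lift_cons, ← ih]; rfl
    | 3 => rw [fw, lift_cons, ← ih]; rfl
    | 4 => rw [fw, lift_cons, ← ih]; rfl
    | 5 => rw [fw, lift_cons, ← ih]; rfl
    | 6 => rw [fw, lift_cons, ← ih]; rfl
    | 7 => rw [fw, lift_cons, ← ih]; rfl
    | n + 8 =>
      have h1 : letter (fun i : Fin 4 => x i.castSucc) (n + 8) = 1 := rfl
      have h2 : fw ((n + 8) :: w) = fw w := rfl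
      rw [h1, one_mul, ih, h2]

theorem val_flat (C : Ctx G) (hX : C.X = fun i : Fin 4 => x i.castSucc) (hz : C.z = x 4) (ts : List Tok) :
    C.val ts = FreeGroup.lift x (FreeGroup.mk (flat ts)) := by
  have hzz : ev C.X [4, 4] * C.z = C.z⁻¹ := by
    have h1 := C.hz
    have h2 : ev C.X [4, 4] = (ev C.X [0, 0])⁻¹ := by
      simp [ev, letter]
    rw [h2, ← h1]; group
  induction ts using flat.induct with
  | case1 => rw [flat, lift_nil, Ctx.val]
  | case2 ts ih => rw [flat, lift_cons, Ctx.val, ih, hz]; rfl
  | case3 l ts l' h ih =>
    rw [flat, h]
    simp only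
    rw [lift_append, lift_cons, Ctx.val, Ctx.val, ih, endsU_spec h, ev_append, ← mul_assoc, mul_assoc (ev C.X l'), hzz, hX,
      ev_fw, hz, mul_assoc]
    rfl
  | case4 l ts h ih =>
    rw [flat, h]
    simp only
    rw [lift_append, lift_cons, Ctx.val, Ctx.val, ih, hX, ev_fw, hz]
    rfl
  | case5 l ts h ih =>
    rw [flat, lift_append, Ctx.val, ih, hX, ev_fw]
    intro ts' hts
    exact h ts' hts

/-- `A⁻¹ B` is conjugate to a relator or its inverse -/
def chk (A B g r : List (Fin 5 × Bool)) (s : Bool) : Bool :=
  decide (r ∈ relWords) &&
    decide ((FreeGroup.mk A)⁻¹ * FreeGroup.mk B =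
      FreeGroup.mk g * (cond s (FreeGroup.mk r) (FreeGroup.mk r)⁻¹) * (FreeGroup.mk g)⁻¹)

theorem chk_sound (hx : ∀ w ∈ relWords, FreeGroup.lift x (FreeGroup.mk w) = 1) {A B g r : List (Fin 5 × Bool)}
    {s : Bool} (h : chk A B g r s = true) :
    FreeGroup.lift x (FreeGroup.mk A) = FreeGroup.lift x (FreeGroup.mk B) := by
  rw [chk, Bool.and_eq_true, decide_eq_true_iff, decide_eq_true_iff] at h
  obtain ⟨hr, h⟩ := h
  have h1 := congrArg (FreeGroup.lift x) h
  have h2 : FreeGroup.lift x (cond s (FreeGroup.mk r) (FreeGroup.mk r)⁻¹) = 1 := by
    cases s
    · rw [cond_false, map_inv, hx r hr, inv_one]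
    · rw [cond_true, hx r hr]
  rw [map_mul, map_mul, map_mul, h2, mul_one, map_inv, map_inv, mul_inv_cancel] at h1
  exact inv_mul_eq_one.mp h1

/-- check a list of conjugacy certificates for rotations -/
def chkR : List (List Tok) → List (List (Fin 5 × Bool) × List (Fin 5 × Bool) × Bool) → Bool
  | [], _ => true
  | _ :: _, [] => false
  | t :: ts, (g, r, s) :: cs => chk (flat t) [(4, true)] g r s && chkR ts cs

theorem chkR_sound (hx : ∀ w ∈ relWords, FreeGroup.lift x (FreeGroup.mk w) = 1) (ts : List (List Tok)) :
    ∀ (cs : List (List (Fin 5 × Bool) × List (Fin 5 × Bool) × Bool)), chkR ts cs = true →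
      ∀ t ∈ ts, FreeGroup.lift x (FreeGroup.mk (flat t)) = x 4 := by
  induction ts with
  | nil => intro cs _ t ht; exact absurd ht (List.not_mem_nil)
  | cons t0 ts ih =>
    intro cs h t ht
    match cs, h with
    | (g, r, s) :: cs, h =>
      rw [chkR, Bool.and_eq_true] at h
      rcases List.mem_cons.mp ht with rfl | ht
      · rw [chk_sound x hx h.1, lift_cons, lift_nil, mul_one]; rfl
      · exact ih cs h.2 t ht

/-- check a list of conjugacy certificates for conjugation by `z` -/
def chkK : List (List ℕ) → List (List ℕ) → List (List (Fin 5 × Bool) × List (Fin 5 × Bool) × Bool) → Bool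
  | [], [], _ => true
  | k :: ks, l :: ls, (g, r, s) :: cs => chk (fw k ++ [(4, true)]) ((4, true) :: fw l) g r s && chkK ks ls cs
  | _, _, _ => false

theorem chkK_sound (hx : ∀ w ∈ relWords, FreeGroup.lift x (FreeGroup.mk w) = 1) (ks : List (List ℕ)) :
    ∀ (ls : List (List ℕ)) (cs : List (List (Fin 5 × Bool) × List (Fin 5 × Bool) × Bool)), chkK ks ls cs = true →
      ∀ n, ev (fun i : Fin 4 => x i.castSucc) (nth ks n) * x 4 = x 4 * ev (fun i : Fin 4 => x i.castSucc) (nth ls n) := by
  induction ks with
  | nil =>
    intro ls cs h n
    match ls, h with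
    | [], _ => rw [nth, ev_nil, one_mul, mul_one]
  | cons k ks ih =>
    intro ls cs h n
    match ls, cs, h with
    | l :: ls, (g, r, s) :: cs, h =>
      rw [chkK, Bool.and_eq_true] at h
      cases n with
      | zero =>
        have h1 := chk_sound x hx h.1
        rw [lift_append, lift_cons, lift_nil, mul_one, lift_cons, cond_true, ← ev_fw, ← ev_fw] at h1
        exact h1
      | succ n => exact ih ls cs h.2 n

end general

/-- certificates for the rotations `rot3, …, rot17` -/
def certR : List (List (Fin 5 × Bool) × List (Fin 5 × Bool) × Bool) := [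
  ([(4, false), (3, true), (2, true), (1, false), (0, true), (2, true), (0, true), (3, true), (2, true)], rel83, true),
  ([(4, false), (1, true), (0, false), (1, false), (0, false), (1, true), (0, false), (2, true), (0, true), (1, true), (2, true), (1, false), (3, true), (2, true), (1, false), (0, true), (2, true), (1, true), (3, false), (0, true), (4, false), (3, true), (2, true), (1, false), (0, true), (2, true), (0, true), (3, true), (2, true)], rel83, true),
  ([], rel83, true),
  ([], rel84, false),
  ([(4, false), (0, false), (2, false), (3, false), (1, true), (0, false), (1, false), (2, false), (3, false), (1, true), (0, false), (1, false), (2, false), (1, false), (0, true), (1, false), (1, false), (0, true), (1, false), (4, true), (3, true), (4, true), (0, true), (1, true), (0, false), (1, true), (1, true), (0, false), (1, true), (1, true), (2, false), (0, true), (2, true), (1, true), (2, true), (1, false), (3, true), (2, true), (1, false), (1, false), (3, true), (2, true), (1, true), (2, true)], rel84, false),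
  ([(4, false), (1, true), (0, false), (1, true), (1, true), (0, false), (1, true), (2, true), (1, true), (0, true), (1, false), (3, true), (2, true), (1, true), (0, true), (1, false), (3, true), (2, true), (0, true), (4, true), (3, true), (4, true)], rel84, true),
  ([(4, false), (3, false), (4, false), (1, true), (0, false), (1, true), (1, true), (0, false), (1, true), (2, true), (1, true), (0, true), (1, false), (3, true), (2, true), (1, true), (0, true), (1, false), (3, true), (2, true), (0, true), (4, true), (3, true), (4, true)], rel84, true),
  ([(4, false)], rel85, true),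
  ([(4, false), (2, false), (1, false), (2, false), (3, false), (1, true), (1, true), (2, false), (3, false), (1, false), (2, false), (1, false), (1, false), (2, false), (1, true), (0, true), (1, true), (1, true), (0, true), (1, true), (0, false), (1, false), (4, false)], rel85, true),
  ([(4, false), (2, false), (1, false), (2, false), (3, false), (1, true), (1, true), (2, false), (3, false), (1, false), (2, false), (1, false), (1, false), (2, false), (1, true), (0, true), (1, true), (1, true), (0, true), (1, true), (0, false), (1, false), (4, false), (3, false), (0, true), (2, true), (1, true), (2, true), (0, false), (2, false), (3, false), (0, true), (1, false), (0, false), (2, true), (0, false), (1, false), (1, false), (0, false), (1, true), (0, false)], rel85, false),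
  ([(4, false), (3, false), (0, true), (2, true), (1, true), (2, true), (0, false), (2, false), (3, false), (0, true), (1, false), (0, false), (2, true), (0, false), (1, false), (1, false), (0, false), (1, true), (0, false)], rel85, false),
  ([(4, false)], rel86, true),
  ([(4, false), (3, false), (1, false), (4, false)], rel86, true),
  ([(4, false), (3, false), (1, false), (4, false), (2, false), (0, false), (2, true), (1, true), (2, false), (3, false), (2, true), (0, false), (2, true), (0, true), (2, true), (1, false), (0, false), (1, false), (0, false), (1, true)], rel86, false),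
  ([(4, false), (2, false), (0, false), (2, true), (1, true), (2, false), (3, false), (2, true), (0, false), (2, true), (0, true), (2, true), (1, false), (0, false), (1, false), (0, false), (1, true)], rel86, false)]

/-- certificates for the action of z on `tK` -/
def certK : List (List (Fin 5 × Bool) × List (Fin 5 × Bool) × Bool) := [
  ([(0, false), (1, false), (2, true), (0, false), (1, true), (2, true), (1, false), (0, true), (1, true), (0, true)], rel73, false),
  ([], rel73, true),
  ([(1, false), (2, false), (1, false), (0, true), (2, false), (0, false), (1, true), (1, true)], rel74, false),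
  ([], rel74, true),
  ([(0, false), (1, false), (0, false), (2, false), (0, true), (1, true), (0, true)], rel75, false),
  ([], rel75, true),
  ([(1, false), (0, false), (1, true), (2, false), (1, false), (0, true), (1, true)], rel76, false),
  ([], rel76, true),
  ([(2, true), (1, true), (1, true), (2, false), (0, false), (1, false), (2, false), (1, true), (0, true), (1, false), (1, false)], rel77, false),
  ([], rel77, true),
  ([(0, true), (0, true), (0, true)], rel78, false),
  ([], rel78, true),
  ([(0, true), (0, true), (1, true), (0, true), (1, false)], rel79, false),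
  ([], rel79, true),
  ([(0, true), (1, true), (1, true), (0, false), (1, false), (1, false), (0, false)], rel80, false),
  ([], rel80, true)]

theorem certR_ok : chkR (rots.drop 3) certR = true := by decide +kernel

theorem certK_ok : chkK tK tS certK = true := by decide +kernel

end Cfsg.Agent.Ly.WalkFacts
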